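import Groth.Agent.Lib.Topos.QC

/-!
# Locally coherent and algebraic topoi
-/

set_option autoImplicit false

universe u

open CategoryTheory CategoryTheory.Limits Opposite ToposFin

namespace GrothLib.Topos.QC

variable {C : Type u} [SmallCategory C] {J : GrothendieckTopology C}

variable {S : Set (Sh J)}

theorem gen_mem (hgen : IsGenerating S) : ∀ X : Sh J,
    ∃ (ι : Type u) (F : ι → Sh J) (π : ∀ i, F i ⟶ X), (∀ i, F i ∈ S) ∧ Fam π := hgen

theorem isCoherent_of_mem (hqc : ∀ K ∈ S, IsQC K) (hgen : IsGenerating S)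
    (hpb : ClosedUnderPullbacks S) {K : Sh J} (hK : K ∈ S) : IsCoherent K := by
  refine ⟨hqc K hK, isQS_of_generators (P := fun L => L ∈ S) (gen_mem hgen) fun L hL s =>
    isQCHom_of_generators (P := fun L => L ∈ S) (gen_mem hgen) s fun M hM t => ?_⟩
  obtain ⟨P, p, q, hP, sq⟩ := hpb s t hL hM hK
  exact isQC_of_iso sq.isoPullback (hqc P hP)

theorem hasCoherentGenerators_of_mem (hqc : ∀ K ∈ S, IsQC K) (hgen : IsGenerating S)
    (hpb : ClosedUnderPullbacks S) : HasCoherentGenerators J := fun X => by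
  obtain ⟨ι, F, π, hF, hπ⟩ := hgen X
  exact ⟨ι, F, π, fun i => isCoherent_of_mem hqc hgen hpb (hF i),
    (epi_sigmaDesc_iff_fam π).2 hπ⟩

/-- In an algebraic topos, every morphism out of a quasi-separated object is quasi-separated. -/
theorem isQSHom_of_isQS_of_algebraic (hE : IsAlgebraic J) {X Y : Sh J} (f : X ⟶ Y)
    (hX : IsQS X) : IsQSHom f := by
  obtain ⟨S, hqc, hgen, hpb, heq⟩ := hE
  obtain ⟨ι, F, π, hF, hπ⟩ := hgen X
  refine isQSHom_of_cover_qs_products (hasQCGenerators_of_isGenerating hqc hgen) f hπ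
    (fun i => hqc _ (hF i)) (fun i j => ?_) hX
  refine isQS_of_generators (P := fun L => L ∈ S) (gen_mem hgen) fun A hA a =>
    isQCHom_of_generators (P := fun L => L ∈ S) (gen_mem hgen) a fun B hB b => ?_
  let p₁ := pullback.fst (π i ≫ f) (π j ≫ f)
  let p₂ := pullback.snd (π i ≫ f) (π j ≫ f)
  obtain ⟨P, p, q, hP, sq⟩ := hpb (a ≫ p₁) (b ≫ p₁) hA hB (hF i)
  obtain ⟨Q, e, w, hQ, ⟨hlim⟩⟩ := heq (p ≫ a ≫ p₂) (q ≫ b ≫ p₂) hP (hF j)
  have sq' : IsPullback (e ≫ p) (e ≫ q) a b := by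
    have w' : (e ≫ p) ≫ a = (e ≫ q) ≫ b := by
      apply pullback.hom_ext
      · simp [p₁, sq.w]
      · simpa [p₂] using w
    refine ⟨⟨w'⟩, ⟨PullbackCone.IsLimit.mk w' (fun s => Fork.IsLimit.lift hlim
      (sq.lift s.fst s.snd (by rw [← Category.assoc, ← Category.assoc, s.condition]))
      (by rw [sq.lift_fst_assoc, sq.lift_snd_assoc, ← Category.assoc, ← Category.assoc, s.condition]))
      (fun s => ?_) (fun s => ?_) (fun s m hm₁ hm₂ => ?_)⟩⟩
    · exact (Category.assoc _ _ _).symm.trans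
        ((congrArg (· ≫ p) (Fork.IsLimit.lift_ι' hlim _ _)).trans (sq.lift_fst _ _ _))
    · exact (Category.assoc _ _ _).symm.trans
        ((congrArg (· ≫ q) (Fork.IsLimit.lift_ι' hlim _ _)).trans (sq.lift_snd _ _ _))
    · refine Fork.IsLimit.hom_ext hlim (Eq.trans ?_ (Fork.IsLimit.lift_ι' hlim _ _).symm)
      apply sq.hom_ext
      · rw [sq.lift_fst]; simpa using hm₁
      · rw [sq.lift_snd]; simpa using hm₂
  exact isQC_of_iso sq'.isoPullback (hqc Q hQ)

theorem hasQCGenerators_of_algebraic (hE : IsAlgebraic J) : HasQCGenerators J := by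
  obtain ⟨S, hqc, hgen, -, -⟩ := hE
  exact hasQCGenerators_of_isGenerating hqc hgen

end GrothLib.Topos.QC
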