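import Groth.Agent.Lib.Topos.QC
import Mathlib.CategoryTheory.Filtered.Basic
import Mathlib.CategoryTheory.Sites.Limits
import Mathlib.CategoryTheory.Limits.Types.Filtered

/-!
# Quasi-compactness, coherence and filtered colimits in a sheaf topos
-/

set_option autoImplicit false

universe w w' v u

open CategoryTheory CategoryTheory.Limits Opposite ToposFin

namespace GrothLib.Topos.QC

/-- Finitely many arrows out of an object factor one arrow out of it. -/
theorem exists_stage {I : Type v} [Category.{u} I] [IsFiltered I] (i : I) {α : Type w} [Finite α]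
    (j : α → I) (a : ∀ k, i ⟶ j k) :
    ∃ (m : I) (c : i ⟶ m), ∀ k, ∃ b : j k ⟶ m, a k ≫ b = c := by
  classical
  have := Fintype.ofFinite α
  let O : Finset I := insert i (Finset.univ.image j)
  have hi : i ∈ O := Finset.mem_insert_self _ _
  have hj : ∀ k, j k ∈ O := fun k =>
    Finset.mem_insert_of_mem (Finset.mem_image_of_mem _ (Finset.mem_univ k))
  obtain ⟨m, T, hT⟩ := IsFiltered.sup_exists O
    (Finset.univ.image fun k => (⟨i, j k, hi, hj k, a k⟩ :
      Σ' (X Y : I) (_ : X ∈ O) (_ : Y ∈ O), X ⟶ Y))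
  exact ⟨m, T hi, fun k => ⟨T (hj k),
    hT hi (hj k) (Finset.mem_image_of_mem _ (Finset.mem_univ k))⟩⟩

variable {C : Type u} [SmallCategory C] {J : GrothendieckTopology C}

section Colimit

variable {I : Type u} [SmallCategory I] [IsFiltered I] {D : I ⥤ Sh J} {c : Cocone D}

theorem locally_eq_of_colimit (hc : IsColimit c) {i : I} {U : C} {s t : sec (D.obj i) U}
    (h : (c.ι.app i).hom.app (op U) s = (c.ι.app i).hom.app (op U) t) :
    ∃ S ∈ J U, ∀ ⦃V : C⦄ (f : V ⟶ U), S f → ∃ (j : I) (a : i ⟶ j),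
      (D.map a).hom.app (op V) ((D.obj i).obj.map f.op s) =
        (D.map a).hom.app (op V) ((D.obj i).obj.map f.op t) := by
  let F := D ⋙ sheafToPresheaf J (Type u)
  let E := colimit.cocone F
  let hc' := Sheaf.isColimitSheafifyCocone E (colimit.isColimit F)
  have e : c.ι.app i ≫ (hc.coconePointUniqueUpToIso hc').hom =
      (Sheaf.sheafifyCocone E).ι.app i := hc.comp_coconePointUniqueUpToIso_hom hc' i
  have e' : ∀ z : sec (D.obj i) U, (toSheafify J E.pt).app (op U) ((E.ι.app i).app (op U) z) =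
      (hc.coconePointUniqueUpToIso hc').hom.hom.app (op U) ((c.ι.app i).hom.app (op U) z) := by
    intro z
    have := congrArg (fun φ => φ.hom.app (op U) z) e
    refine Eq.trans ?_ this.symm
    exact (ConcreteCategory.congr_hom
      (NatTrans.congr_app (Sheaf.sheafifyCocone_ι_app_val E i) (op U)) z).symm
  refine ⟨_, Presheaf.equalizerSieve_mem J (toSheafify J E.pt) ((E.ι.app i).app (op U) s)
    ((E.ι.app i).app (op U) t) (by rw [e', e', h]), fun V f hf => ?_⟩
  have hf' : (E.ι.app i).app (op V) ((D.obj i).obj.map f.op s) =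
      (E.ι.app i).app (op V) ((D.obj i).obj.map f.op t) := by
    refine (NatTrans.naturality_apply (E.ι.app i) f.op s).trans (Eq.trans ?_
      (NatTrans.naturality_apply (E.ι.app i) f.op t).symm)
    exact hf
  have hV := isColimitOfPreserves ((evaluation Cᵒᵖ (Type u)).obj (op V)) (colimit.isColimit F)
  obtain ⟨k, a, b, hab⟩ := (Types.FilteredColimit.isColimit_eq_iff _ hV).1 hf'
  refine ⟨IsFiltered.coeq a b, a ≫ IsFiltered.coeqHom a b, ?_⟩
  show (D.map _).hom.app (op V) _ = _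
  conv_rhs => rw [IsFiltered.coeq_condition a b]
  rw [Functor.map_comp, Functor.map_comp]
  exact congrArg ((D.map (IsFiltered.coeqHom a b)).hom.app (op V)) hab

theorem post_injective_iff (X : Sh J) :
    Function.Injective (colimit.post D (coyoneda.obj (op X))) ↔
      ∀ (i : I) (x y : X ⟶ D.obj i), x ≫ colimit.ι D i = y ≫ colimit.ι D i →
        ∃ (j : I) (a : i ⟶ j), x ≫ D.map a = y ≫ D.map a := by
  let G := D ⋙ coyoneda.obj (op X)
  have hpost : ∀ (i : I) (x : X ⟶ D.obj i),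
      colimit.post D (coyoneda.obj (op X)) (colimit.ι G i x) = x ≫ colimit.ι D i := fun i x =>
    ConcreteCategory.congr_hom (colimit.ι_post D (coyoneda.obj (op X)) i) x
  constructor
  · intro h i x y hxy
    obtain ⟨k, a, b, hab⟩ := (Types.FilteredColimit.isColimit_eq_iff _ (colimit.isColimit G)).1
      (h ((hpost i x).trans (hxy.trans (hpost i y).symm)))
    refine ⟨IsFiltered.coeq a b, a ≫ IsFiltered.coeqHom a b, ?_⟩
    conv_rhs => rw [IsFiltered.coeq_condition a b]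
    have hab' : x ≫ D.map a = y ≫ D.map b := hab
    rw [Functor.map_comp, Functor.map_comp, ← Category.assoc, hab', Category.assoc]
  · intro h z z' hzz
    obtain ⟨i, x, rfl⟩ := Types.jointly_surjective' z
    obtain ⟨i', y, rfl⟩ := Types.jointly_surjective' z'
    let x' : X ⟶ D.obj i := x
    let y' : X ⟶ D.obj i' := y
    have e : x' ≫ colimit.ι D i = y' ≫ colimit.ι D i' :=
      (hpost i x').symm.trans (hzz.trans (hpost i' y'))
    obtain ⟨j, a, ha⟩ := h (IsFiltered.max i i') (x' ≫ D.map (IsFiltered.leftToMax i i'))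
      (y' ≫ D.map (IsFiltered.rightToMax i i')) (by simpa using e)
    refine (Types.FilteredColimit.isColimit_eq_iff _ (colimit.isColimit G)).2
      ⟨j, IsFiltered.leftToMax i i' ≫ a, IsFiltered.rightToMax i i' ≫ a, ?_⟩
    show x' ≫ D.map (IsFiltered.leftToMax i i' ≫ a) = y' ≫ D.map (IsFiltered.rightToMax i i' ≫ a)
    rw [Functor.map_comp, Functor.map_comp, ← Category.assoc, ha, Category.assoc]

theorem post_surjective_iff (X : Sh J) :
    Function.Surjective (colimit.post D (coyoneda.obj (op X))) ↔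
      ∀ z : X ⟶ colimit D, ∃ (i : I) (x : X ⟶ D.obj i), x ≫ colimit.ι D i = z := by
  have hpost : ∀ (i : I) (x : X ⟶ D.obj i),
      colimit.post D (coyoneda.obj (op X)) (colimit.ι (D ⋙ coyoneda.obj (op X)) i x) =
        x ≫ colimit.ι D i := fun i x =>
    ConcreteCategory.congr_hom (colimit.ι_post D (coyoneda.obj (op X)) i) x
  constructor
  · intro h z
    obtain ⟨w, hw⟩ := h z
    obtain ⟨i, x, rfl⟩ := Types.jointly_surjective' w
    exact ⟨i, x, (hpost i x).symm.trans hw⟩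
  · intro h z
    obtain ⟨i, x, hx⟩ := h z
    exact ⟨colimit.ι (D ⋙ coyoneda.obj (op X)) i x, (hpost i x).trans hx⟩

theorem exists_eq_of_isQC {X : Sh J} (hX : IsQC X) (hc : IsColimit c) {i : I}
    (x y : X ⟶ D.obj i) (h : x ≫ c.ι.app i = y ≫ c.ι.app i) :
    ∃ (j : I) (a : i ⟶ j), x ≫ D.map a = y ≫ D.map a := by
  have hfam : Fam (fun p : Σ j : I, i ⟶ j => equalizer.ι (x ≫ D.map p.2) (y ≫ D.map p.2)) := by
    rw [Fam, isEpiFamily_iff_liftSieve_mem]
    intro U s
    obtain ⟨S, hS, hS'⟩ := locally_eq_of_colimit hc (s := x.hom.app (op U) s)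
      (t := y.hom.app (op U) s) (congrArg (fun φ => φ.hom.app (op U) s) h)
    refine J.superset_covering ?_ hS
    intro V f hf
    obtain ⟨j, a, ha⟩ := hS' f hf
    have e : (secEquiv V X).symm (X.obj.map f.op s) ≫ x ≫ D.map a =
        (secEquiv V X).symm (X.obj.map f.op s) ≫ y ≫ D.map a := by
      have ha' := ha
      simp only [NatTrans.naturality_apply] at ha'
      rw [← Category.assoc, ← Category.assoc, secEquiv_symm_comp, secEquiv_symm_comp,
        secEquiv_symm_comp, secEquiv_symm_comp]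
      simp only [NatTrans.naturality_apply]
      rw [ha']
    refine ⟨⟨j, a⟩, secEquiv V _ (equalizer.lift _ e), ?_⟩
    rw [← secEquiv_comp, equalizer.lift_ι]
    exact Equiv.apply_symm_apply _ _
  obtain ⟨s, hs⟩ := IsQC.exists_finset hX hfam
  obtain ⟨m, a, hm⟩ := exists_stage i (fun p : s => p.1.1) (fun p => p.1.2)
  refine ⟨m, a, hs _ _ _ fun p => ?_⟩
  obtain ⟨b, hb⟩ := hm p
  rw [← hb, Functor.map_comp]
  simpa only [Category.assoc] using
    congrArg (· ≫ D.map b) (equalizer.condition (x ≫ D.map p.1.2) (y ≫ D.map p.1.2))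

theorem injective_post_of_isQC {X : Sh J} (hX : IsQC X) :
    Function.Injective (colimit.post D (coyoneda.obj (op X))) :=
  (post_injective_iff X).2 fun _ x y h => exists_eq_of_isQC hX (colimit.isColimit D) x y h

end Colimit

theorem isQC_of_injective {X : Sh J}
    (h : ∀ (I : Type u) [SmallCategory I] [IsFiltered I] (D : I ⥤ Sh J),
      Function.Injective (colimit.post D (coyoneda.obj (op X)))) : IsQC X := by
  classical
  rw [isQC_iff]
  intro ι F π hπ
  let d : ∀ s : Finset ι, (∐ fun i : s => F i) ⟶ X := fun s => Sigma.desc fun i : s => π i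
  have hle : ∀ {s t : Finset ι}, s ≤ t →
      d s ≫ pushout.inl (d t) (d t) = d s ≫ pushout.inr (d t) (d t) := by
    intro s t hst
    refine Sigma.hom_ext _ _ fun i => ?_
    have hi := congrArg (Sigma.ι (fun i : t => F i) ⟨i.1, hst i.2⟩ ≫ ·)
      (pushout.condition (f := d t) (g := d t))
    simpa [d] using hi
  let D : Finset ι ⥤ Sh J :=
    { obj := fun s => pushout (d s) (d s)
      map := fun {s t} g => pushout.desc (pushout.inl _ _) (pushout.inr _ _) (hle g.le)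
      map_id := fun s => by apply pushout.hom_ext <;> simp [pushout.inl_desc, pushout.inr_desc]
      map_comp := fun g g' => by
        apply pushout.hom_ext <;>
          simp [pushout.inl_desc, pushout.inr_desc, pushout.inl_desc_assoc,
            pushout.inr_desc_assoc] }
  have heq : pushout.inl (d ∅) (d ∅) ≫ colimit.ι D ∅ = pushout.inr (d ∅) (d ∅) ≫ colimit.ι D ∅ := by
    refine hπ _ _ _ fun i => ?_
    have hw : ∀ (s : Finset ι) (hs : ∅ ≤ s),
        pushout.inl (d ∅) (d ∅) ≫ colimit.ι D ∅ = pushout.inl (d s) (d s) ≫ colimit.ι D s ∧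
        pushout.inr (d ∅) (d ∅) ≫ colimit.ι D ∅ = pushout.inr (d s) (d s) ≫ colimit.ι D s := by
      intro s hs
      constructor <;>
      · rw [← colimit.w D (homOfLE hs), ← Category.assoc]
        simp [D, pushout.inl_desc, pushout.inr_desc]
    obtain ⟨h₁, h₂⟩ := hw {i} (Finset.empty_subset _)
    rw [h₁, h₂]
    have hi := congrArg (Sigma.ι (fun j : ({i} : Finset ι) => F j) ⟨i, Finset.mem_singleton_self i⟩ ≫ ·)
      (pushout.condition (f := d {i}) (g := d {i}))
    simp only [d, Sigma.ι_desc_assoc] at hi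
    rw [← Category.assoc, ← Category.assoc, hi]
  obtain ⟨s, a, ha⟩ := (post_injective_iff X).1 (h (Finset ι) D) ∅ _ _ heq
  refine ⟨s, fun Z x y hxy => ?_⟩
  have hd : d s ≫ x = d s ≫ y := Sigma.hom_ext _ _ fun i => by simpa [d] using hxy i
  have := congrArg (· ≫ pushout.desc x y hd) ha
  simpa [D, pushout.inl_desc, pushout.inr_desc, pushout.inl_desc_assoc, pushout.inr_desc_assoc]
    using this

/-- Descent of morphisms along a covering family, tested on covers of the fibre products. -/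
theorem fam_glue {ι : Type u} {X Z : Sh J} {A : ι → Sh J} {π : ∀ i, A i ⟶ X} (hπ : Fam π)
    (x : ∀ i, A i ⟶ Z)
    (hx : ∀ i j, ∃ (β : Type u) (B : β → Sh J) (ρ : ∀ b, B b ⟶ pullback (π i) (π j)),
      Fam ρ ∧ ∀ b, ρ b ≫ pullback.fst _ _ ≫ x i = ρ b ≫ pullback.snd _ _ ≫ x j) :
    ∃ l : X ⟶ Z, ∀ i, π i ≫ l = x i := by
  have : Epi (Sigma.desc π) := (epi_sigmaDesc_iff_fam π).2 hπ
  have := effectiveEpi_of_epi (Sigma.desc π)
  have hij : ∀ i j, pullback.fst (π i) (π j) ≫ x i = pullback.snd (π i) (π j) ≫ x j := by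
    intro i j
    obtain ⟨β, B, ρ, hρ, he⟩ := hx i j
    exact hρ _ _ _ he
  suffices key : ∀ {W : Sh J} (g₁ g₂ : W ⟶ ∐ A), g₁ ≫ Sigma.desc π = g₂ ≫ Sigma.desc π →
      g₁ ≫ Sigma.desc x = g₂ ≫ Sigma.desc x by
    refine ⟨EffectiveEpi.desc (Sigma.desc π) (Sigma.desc x) key, fun i => ?_⟩
    rw [← Sigma.ι_desc π i, Category.assoc, EffectiveEpi.fac _ _ key, Sigma.ι_desc]
  · intro W g₁ g₂ hg
    have hc := fam_cofan (coproductIsCoproduct A)
    have hcov := fam_comp (fam_pullback hc g₁)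
      (fun i => fam_pullback hc (pullback.snd ((Cofan.mk (∐ A) (Sigma.ι A)).inj i) g₁ ≫ g₂))
    refine hcov _ _ _ fun ⟨i, j⟩ => ?_
    let c := Cofan.mk (∐ A) (Sigma.ι A)
    let u := pullback.snd (c.inj j) (pullback.snd (c.inj i) g₁ ≫ g₂)
    let v := pullback.snd (c.inj i) g₁
    obtain ⟨p, hp⟩ : ∃ p, p ≫ Sigma.ι A i = (u ≫ v) ≫ g₁ := ⟨u ≫ pullback.fst (c.inj i) g₁, by
      show (u ≫ pullback.fst (c.inj i) g₁) ≫ c.inj i = _
      rw [Category.assoc, pullback.condition, ← Category.assoc]⟩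
    obtain ⟨q, hq⟩ : ∃ q, q ≫ Sigma.ι A j = (u ≫ v) ≫ g₂ :=
      ⟨pullback.fst (c.inj j) (pullback.snd (c.inj i) g₁ ≫ g₂), by
      show pullback.fst _ _ ≫ c.inj j = _
      rw [pullback.condition, Category.assoc]⟩
    have hpq : p ≫ π i = q ≫ π j := by
      have := congrArg ((u ≫ v) ≫ ·) hg
      simp only [← Category.assoc] at this
      rw [← hp, ← hq] at this
      simpa using this
    show (u ≫ v) ≫ g₁ ≫ Sigma.desc x = (u ≫ v) ≫ g₂ ≫ Sigma.desc x
    rw [← Category.assoc (u ≫ v) g₁, ← Category.assoc (u ≫ v) g₂, ← hp, ← hq, Category.assoc,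
      Category.assoc, Sigma.ι_desc, Sigma.ι_desc]
    have := congrArg (pullback.lift p q hpq ≫ ·) (hij i j)
    simpa only [pullback.lift_fst_assoc, pullback.lift_snd_assoc] using this

theorem isFP_of_isCoherent (hE : HasQCGenerators J) {X : Sh J} (hX : IsCoherent X) : IsFP X := by
  intro I _ _ D
  refine ⟨injective_post_of_isQC hX.1, (post_surjective_iff X).2 fun z => ?_⟩
  have hcol : Fam (fun i => colimit.ι D i) := fun Z a b h => colimit.hom_ext h
  obtain ⟨κ, _, V, v, hv, hV, hl⟩ := exists_refinement hE hX.1 (fam_pullback hcol z)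
  choose i l hl using hl
  obtain ⟨m, hm⟩ := IsFiltered.sup_objs_exists (by
    classical
    exact (Set.finite_range i).toFinset)
  let a : ∀ k, i k ⟶ m := fun k => (hm ((Set.finite_range i).mem_toFinset.2 ⟨k, rfl⟩)).some
  obtain ⟨x, hx⟩ : ∃ x : ∀ k, V k ⟶ D.obj m, ∀ k, x k ≫ colimit.ι D m = v k ≫ z :=
    ⟨fun k => l k ≫ pullback.fst _ _ ≫ D.map (a k), fun k => by
      simp only [Category.assoc, colimit.w]
      rw [pullback.condition, ← Category.assoc, hl]⟩
  have hpair : ∀ p : κ × κ, ∃ (n : I) (b : m ⟶ n),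
      (pullback.fst (v p.1) (v p.2) ≫ x p.1) ≫ D.map b =
        (pullback.snd (v p.1) (v p.2) ≫ x p.2) ≫ D.map b := fun p =>
    exists_eq_of_isQC (hX.2 _ _ _ _ (hV p.1) (hV p.2)) (colimit.isColimit D) _ _ (by
      show (pullback.fst (v p.1) (v p.2) ≫ x p.1) ≫ colimit.ι D m =
        (pullback.snd (v p.1) (v p.2) ≫ x p.2) ≫ colimit.ι D m
      rw [Category.assoc, Category.assoc, hx, hx, pullback.condition_assoc])
  choose n b hb using hpair
  obtain ⟨N, c, hc⟩ := exists_stage m n b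
  obtain ⟨L, hL⟩ := fam_glue hv (fun k => x k ≫ D.map c) fun k k' =>
    ⟨PUnit.{u + 1}, fun _ => _, fun _ => 𝟙 _, fam_single.{u} (𝟙 _), fun _ => by
      obtain ⟨d, hd⟩ := hc (k, k')
      simp only [Category.id_comp, ← hd, Functor.map_comp, ← Category.assoc]
      rw [hb (k, k')]⟩
  refine ⟨N, L, hv _ _ _ fun k => ?_⟩
  rw [← Category.assoc, hL, Category.assoc, colimit.w, hx]

theorem isQS_sigma {ι : Type u} (F : ι → Sh J) (h : ∀ i, IsQS (F i)) : IsQS (∐ F) := by
  rw [isQS_iff_isQCHom]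
  intro W a hW
  have hc := coproductIsCoproduct F
  obtain ⟨s, hs⟩ := IsQC.exists_finset hW (fam_pullback (fam_cofan hc) a)
  obtain ⟨n, e, hn⟩ := fam_finite hs
  refine isQCHom_of_finite_cover a hn fun k => ?_
  show IsQCHom (pullback.snd _ a ≫ a)
  rw [← pullback.condition]
  exact isQCHom_comp (IsQS.isQCHom (h _) (isQCHom_cofan_inj hc _ _ a hW) _) (isQCHom_cofan_inj hc _)

theorem isCoherent_sigma {ι : Type u} [Finite ι] (F : ι → Sh J) (h : ∀ i, IsCoherent (F i)) :
    IsCoherent (∐ F) :=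
  ⟨isQC_of_finite_cover (fam_cofan (coproductIsCoproduct F)) fun i => (h i).1,
    isQS_sigma F fun i => (h i).2⟩

theorem isFP_of_retract {X Y : Sh J} (i : X ⟶ Y) (p : Y ⟶ X) (hip : i ≫ p = 𝟙 X) (hY : IsFP Y) :
    IsFP X := by
  intro I _ _ D
  obtain ⟨hinj, hsurj⟩ := hY I D
  rw [post_injective_iff] at hinj
  rw [post_surjective_iff] at hsurj
  refine ⟨(post_injective_iff X).2 fun k x y hxy => ?_, (post_surjective_iff X).2 fun z => ?_⟩
  · obtain ⟨j, a, ha⟩ := hinj k (p ≫ x) (p ≫ y) (by rw [Category.assoc, Category.assoc, hxy])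
    have := congrArg (i ≫ ·) ha
    simp only [← Category.assoc, hip, Category.id_comp] at this
    exact ⟨j, a, this⟩
  · obtain ⟨k, x, hx⟩ := hsurj (p ≫ z)
    exact ⟨k, i ≫ x, by rw [Category.assoc, hx, ← Category.assoc, hip, Category.id_comp]⟩

theorem isFP_coequalizer {X₀ X₁ : Sh J} (a b : X₁ ⟶ X₀) (h₀ : IsFP X₀) (h₁ : IsFP X₁) :
    IsFP (coequalizer a b) := by
  intro I _ _ D
  obtain ⟨hinj₀, hsurj₀⟩ := h₀ I D
  have hinj₁ := (h₁ I D).1
  rw [post_injective_iff] at hinj₀ hinj₁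
  rw [post_surjective_iff] at hsurj₀
  refine ⟨(post_injective_iff _).2 fun k x y hxy => ?_, (post_surjective_iff _).2 fun z => ?_⟩
  · obtain ⟨j, c, hc⟩ := hinj₀ k (coequalizer.π a b ≫ x) (coequalizer.π a b ≫ y)
      (by rw [Category.assoc, Category.assoc, hxy])
    exact ⟨j, c, coequalizer.hom_ext (by simpa using hc)⟩
  · obtain ⟨k, x, hx⟩ := hsurj₀ (coequalizer.π a b ≫ z)
    obtain ⟨j, c, hc⟩ := hinj₁ k (a ≫ x) (b ≫ x)
      (by rw [Category.assoc, Category.assoc, hx, coequalizer.condition_assoc])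
    refine ⟨j, coequalizer.desc (x ≫ D.map c) (by simpa using hc), coequalizer.hom_ext ?_⟩
    rw [coequalizer.π_desc_assoc, Category.assoc, colimit.w, hx]

namespace Presentation

variable {ι β : Type u} (A : ι → Sh J) (B : β → Sh J) (e₁ e₂ : β → ι)
  (P : ∀ b, B b ⟶ A (e₁ b)) (Q : ∀ b, B b ⟶ A (e₂ b))

/-- Finite pieces of a presentation: finitely many generators and relations between them. -/
abbrev Idx : Type u := {st : Finset ι × Finset β // ∀ b ∈ st.2, e₁ b ∈ st.1 ∧ e₂ b ∈ st.1}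

theorem isFiltered_idx : IsFiltered (Idx e₁ e₂) := by
  classical
  have : Nonempty (Idx e₁ e₂) := ⟨⟨(∅, ∅), by simp⟩⟩
  have : IsDirectedOrder (Idx e₁ e₂) := ⟨fun x y => ⟨⟨(x.1.1 ∪ y.1.1, x.1.2 ∪ y.1.2), by
    intro b hb
    rcases Finset.mem_union.1 hb with h | h
    · exact ⟨Finset.mem_union_left _ (x.2 b h).1, Finset.mem_union_left _ (x.2 b h).2⟩
    · exact ⟨Finset.mem_union_right _ (y.2 b h).1, Finset.mem_union_right _ (y.2 b h).2⟩⟩,
    ⟨Finset.subset_union_left, Finset.subset_union_left⟩,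
    ⟨Finset.subset_union_right, Finset.subset_union_right⟩⟩⟩
  infer_instance

/-- The left arrow. -/
noncomputable def relFst (s : Idx e₁ e₂) :
    (∐ fun b : s.1.2 => B b) ⟶ ∐ fun i : s.1.1 => A i :=
  Sigma.desc fun b => P b.1 ≫ Sigma.ι (fun i : s.1.1 => A i) ⟨e₁ b.1, (s.2 b.1 b.2).1⟩

/-- The right arrow. -/
noncomputable def relSnd (s : Idx e₁ e₂) :
    (∐ fun b : s.1.2 => B b) ⟶ ∐ fun i : s.1.1 => A i :=
  Sigma.desc fun b => Q b.1 ≫ Sigma.ι (fun i : s.1.1 => A i) ⟨e₂ b.1, (s.2 b.1 b.2).2⟩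

/-- The finitely presented piece. -/
noncomputable abbrev obj (s : Idx e₁ e₂) : Sh J :=
  coequalizer (relFst A B e₁ e₂ P s) (relSnd A B e₁ e₂ Q s)

/-- The generators in a piece. -/
noncomputable def inj (s : Idx e₁ e₂) (i : ι) (hi : i ∈ s.1.1) : A i ⟶ obj A B e₁ e₂ P Q s :=
  Sigma.ι (fun i : s.1.1 => A i) ⟨i, hi⟩ ≫ coequalizer.π _ _

theorem inj_rel (s : Idx e₁ e₂) (b : β) (hb : b ∈ s.1.2) :
    P b ≫ inj A B e₁ e₂ P Q s (e₁ b) (s.2 b hb).1 =
      Q b ≫ inj A B e₁ e₂ P Q s (e₂ b) (s.2 b hb).2 := by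
  have h₁ : Sigma.ι (fun b : s.1.2 => B b) ⟨b, hb⟩ ≫ relFst A B e₁ e₂ P s =
      P b ≫ Sigma.ι (fun i : s.1.1 => A i) ⟨e₁ b, (s.2 b hb).1⟩ := Sigma.ι_desc _ _
  have h₂ : Sigma.ι (fun b : s.1.2 => B b) ⟨b, hb⟩ ≫ relSnd A B e₁ e₂ Q s =
      Q b ≫ Sigma.ι (fun i : s.1.1 => A i) ⟨e₂ b, (s.2 b hb).2⟩ := Sigma.ι_desc _ _
  unfold inj
  rw [← Category.assoc, ← h₁, Category.assoc, coequalizer.condition, ← Category.assoc, h₂,
    Category.assoc]

theorem obj_hom_ext (s : Idx e₁ e₂) {Z : Sh J} {u v : obj A B e₁ e₂ P Q s ⟶ Z}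
    (h : ∀ i hi, inj A B e₁ e₂ P Q s i hi ≫ u = inj A B e₁ e₂ P Q s i hi ≫ v) : u = v :=
  coequalizer.hom_ext (Sigma.hom_ext _ _ fun i => by simpa [inj] using h i.1 i.2)

/-- Maps out of a piece. -/
noncomputable def desc (s : Idx e₁ e₂) {Z : Sh J} (x : ∀ i ∈ s.1.1, A i ⟶ Z)
    (hx : ∀ b hb, P b ≫ x (e₁ b) (s.2 b hb).1 = Q b ≫ x (e₂ b) (s.2 b hb).2) :
    obj A B e₁ e₂ P Q s ⟶ Z :=
  coequalizer.desc (Sigma.desc fun i : s.1.1 => x i.1 i.2)
    (Sigma.hom_ext _ _ fun b => by simpa [relFst, relSnd] using hx b.1 b.2)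

theorem inj_desc (s : Idx e₁ e₂) {Z : Sh J} (x : ∀ i ∈ s.1.1, A i ⟶ Z)
    (hx : ∀ b hb, P b ≫ x (e₁ b) (s.2 b hb).1 = Q b ≫ x (e₂ b) (s.2 b hb).2) (i : ι)
    (hi : i ∈ s.1.1) : inj A B e₁ e₂ P Q s i hi ≫ desc A B e₁ e₂ P Q s x hx = x i hi := by
  simp [inj, desc, coequalizer.π_desc]

/-- Transition maps. -/
noncomputable def trans (s t : Idx e₁ e₂) (h : s ≤ t) :
    obj A B e₁ e₂ P Q s ⟶ obj A B e₁ e₂ P Q t :=
  desc A B e₁ e₂ P Q s (fun i hi => inj A B e₁ e₂ P Q t i (h.1 hi))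
    fun b hb => inj_rel A B e₁ e₂ P Q t b (h.2 hb)

theorem inj_trans (s t : Idx e₁ e₂) (h : s ≤ t) (i : ι) (hi : i ∈ s.1.1) :
    inj A B e₁ e₂ P Q s i hi ≫ trans A B e₁ e₂ P Q s t h = inj A B e₁ e₂ P Q t i (h.1 hi) :=
  inj_desc A B e₁ e₂ P Q s _ _ i hi

/-- The diagram of pieces. -/
noncomputable def diagram : Idx e₁ e₂ ⥤ Sh J where
  obj s := obj A B e₁ e₂ P Q s
  map {s t} g := trans A B e₁ e₂ P Q s t g.le
  map_id s := obj_hom_ext A B e₁ e₂ P Q s fun i hi => by rw [inj_trans, Category.comp_id]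
  map_comp {s t r} g g' := obj_hom_ext A B e₁ e₂ P Q s fun i hi => by
    rw [inj_trans, ← Category.assoc, inj_trans, inj_trans]

theorem iso_colimit {X : Sh J} (π : ∀ i, A i ⟶ X) (hπ : Fam π)
    (hrel : ∀ b, P b ≫ π (e₁ b) = Q b ≫ π (e₂ b))
    (hglue : ∀ (Z : Sh J) (x : ∀ i, A i ⟶ Z), (∀ b, P b ≫ x (e₁ b) = Q b ≫ x (e₂ b)) →
      ∃ l : X ⟶ Z, ∀ i, π i ≫ l = x i) :
    Nonempty (X ≅ colimit (diagram A B e₁ e₂ P Q)) := by
  classical
  let c : Cocone (diagram A B e₁ e₂ P Q) :=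
    { pt := X
      ι :=
        { app := fun s => desc A B e₁ e₂ P Q s (fun i _ => π i) fun b _ => hrel b
          naturality := fun s t g => obj_hom_ext A B e₁ e₂ P Q s fun i hi => by
            dsimp [diagram]
            rw [← Category.assoc, inj_trans, inj_desc, Category.comp_id, inj_desc] } }
  let one : ι → Idx e₁ e₂ := fun i => ⟨({i}, ∅), by simp⟩
  have hone : ∀ (t : Cocone (diagram A B e₁ e₂ P Q)) (s : Idx e₁ e₂) (i : ι) (hi : i ∈ s.1.1),
      inj A B e₁ e₂ P Q (one i) i (Finset.mem_singleton_self i) ≫ t.ι.app (one i) =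
        inj A B e₁ e₂ P Q s i hi ≫ t.ι.app s := by
    intro t s i hi
    have hle : one i ≤ s := ⟨Finset.singleton_subset_iff.2 hi, Finset.empty_subset _⟩
    rw [← t.w (homOfLE hle)]
    exact (Category.assoc _ _ _).symm.trans
      (congrArg (· ≫ t.ι.app s) (inj_trans A B e₁ e₂ P Q (one i) s hle i _))
  have hex : ∀ t : Cocone (diagram A B e₁ e₂ P Q), ∃ l : X ⟶ t.pt, ∀ i,
      π i ≫ l = inj A B e₁ e₂ P Q (one i) i (Finset.mem_singleton_self i) ≫ t.ι.app (one i) := by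
    intro t
    refine hglue _ _ fun b => ?_
    let two : Idx e₁ e₂ := ⟨({e₁ b, e₂ b}, {b}), by simp⟩
    rw [hone t two (e₁ b) (by simp [two]), hone t two (e₂ b) (by simp [two]),
      ← Category.assoc, ← Category.assoc]
    exact congrArg (· ≫ t.ι.app two) (inj_rel A B e₁ e₂ P Q two b (Finset.mem_singleton_self b))
  choose l hl using hex
  have hc : IsColimit c :=
    { desc := l
      fac := fun t s => obj_hom_ext A B e₁ e₂ P Q s fun i hi => by
        refine (Category.assoc _ _ _).symm.trans ?_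
        refine (congrArg (· ≫ l t)
          (inj_desc A B e₁ e₂ P Q s (fun i _ => π i) (fun b _ => hrel b) i hi)).trans ?_
        exact (hl t i).trans (hone t s i hi)
      uniq := fun t m hm => hπ _ _ _ fun i => by
        rw [hl]
        exact ((congrArg (· ≫ m) (inj_desc A B e₁ e₂ P Q (one i) (fun i _ => π i)
          (fun b _ => hrel b) i (Finset.mem_singleton_self i)).symm).trans
            (Category.assoc _ _ _)).trans (congrArg _ (hm (one i))) }
  exact ⟨hc.coconePointUniqueUpToIso (colimit.isColimit _)⟩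

end Presentation

/-- Every object of a topos with coherent generators is a filtered colimit of coequalizers of pairs
of morphisms between coherent objects. -/
theorem exists_presentation (hE : HasCoherentGenerators J) (X : Sh J) :
    ∃ (I : Type u) (_ : SmallCategory I) (_ : IsFiltered I) (D : I ⥤ Sh J),
      (∀ s, ∃ (X₀ X₁ : Sh J) (a b : X₁ ⟶ X₀), IsCoherent X₀ ∧ IsCoherent X₁ ∧
        Nonempty (D.obj s ≅ coequalizer a b)) ∧ Nonempty (X ≅ colimit D) := by
  obtain ⟨ι, A, π, hA, hπ⟩ := hE X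
  rw [epi_sigmaDesc_iff_fam] at hπ
  choose β B ρ hB hρ using fun p : ι × ι => hE (pullback (π p.1) (π p.2))
  simp only [epi_sigmaDesc_iff_fam] at hρ
  let B' : (Σ p, β p) → Sh J := fun b => B b.1 b.2
  let e₁ : (Σ p, β p) → ι := fun b => b.1.1
  let e₂ : (Σ p, β p) → ι := fun b => b.1.2
  let P : ∀ b, B' b ⟶ A (e₁ b) := fun b => ρ b.1 b.2 ≫ pullback.fst _ _
  let Q : ∀ b, B' b ⟶ A (e₂ b) := fun b => ρ b.1 b.2 ≫ pullback.snd _ _
  refine ⟨Presentation.Idx e₁ e₂, inferInstance, Presentation.isFiltered_idx e₁ e₂,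
    Presentation.diagram A B' e₁ e₂ P Q, fun s => ⟨_, _, _, _,
      isCoherent_sigma (fun i : s.1.1 => A i.1) (fun i => hA i.1),
      isCoherent_sigma (fun b : s.1.2 => B' b.1) (fun b => hB b.1.1 b.1.2),
      ⟨Iso.refl _⟩⟩, ?_⟩
  refine Presentation.iso_colimit A B' e₁ e₂ P Q π hπ (fun b => by
    simp only [P, Q, e₁, e₂, Category.assoc, pullback.condition]) fun Z x hx => ?_
  refine fam_glue hπ x fun i j => ⟨_, B (i, j), ρ (i, j), hρ (i, j), fun b => ?_⟩
  have := hx ⟨(i, j), b⟩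
  simpa [P, Q] using this

theorem exists_retract_of_isFP (hE : HasCoherentGenerators J) {X : Sh J} (hX : IsFP X) :
    ∃ (X₀ X₁ : Sh J) (a b : X₁ ⟶ X₀) (i : X ⟶ coequalizer a b) (p : coequalizer a b ⟶ X),
      IsCoherent X₀ ∧ IsCoherent X₁ ∧ i ≫ p = 𝟙 X := by
  obtain ⟨I, _, _, D, hD, ⟨e⟩⟩ := exists_presentation hE X
  obtain ⟨s, x, hx⟩ := (post_surjective_iff X).1 (hX I D).2 e.hom
  obtain ⟨X₀, X₁, a, b, h₀, h₁, ⟨f⟩⟩ := hD s
  refine ⟨X₀, X₁, a, b, x ≫ f.hom, f.inv ≫ colimit.ι D s ≫ e.inv, h₀, h₁, ?_⟩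
  simp [reassoc_of% hx]

theorem isCoherent_of_retract {X Y : Sh J} (i : X ⟶ Y) (p : Y ⟶ X) (hip : i ≫ p = 𝟙 X)
    (hY : IsCoherent Y) : IsCoherent X := by
  have : IsSplitEpi p := IsSplitEpi.mk' ⟨i, hip⟩
  have : IsSplitMono i := IsSplitMono.mk' ⟨p, hip⟩
  exact ⟨isQC_of_epi p hY.1, isQS_of_mono i hY.2⟩

end GrothLib.Topos.QC
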