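import Groth.Agent.Lib.Topos.Sheaf
import Mathlib.CategoryTheory.Sites.Canonical
import Mathlib.CategoryTheory.Limits.Yoneda
import Mathlib.CategoryTheory.Limits.Opposites
import Mathlib.CategoryTheory.Sites.CoverPreserving
import Mathlib.CategoryTheory.Functor.Flat
import Mathlib.CategoryTheory.Adjunction.PartialAdjoint

/-!
# The canonical topology of a sheaf topos

The covering sieves are the locally surjective ones; the sheaves are the presheaves turning small
colimits into limits.
-/

set_option autoImplicit false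

universe w w' v u

open CategoryTheory CategoryTheory.Limits Opposite

namespace GrothLib.Topos

variable {C : Type u} [SmallCategory C] {J : GrothendieckTopology C}

/-- The sheafified representables. -/
noncomputable abbrev rep (J : GrothendieckTopology C) (U : C) : Sheaf J (Type u) :=
  (presheafToSheaf J (Type u)).obj (yoneda.obj U)

/-- Maps between sheafified representables. -/
noncomputable abbrev repMap (J : GrothendieckTopology C) {U V : C} (f : V ⟶ U) :
    rep J V ⟶ rep J U :=
  (presheafToSheaf J (Type u)).map (yoneda.map f)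

theorem secEquiv_repMap {F : Sheaf J (Type u)} {U V : C} (f : V ⟶ U) (a : rep J U ⟶ F) :
    secEquiv V F (repMap J f ≫ a) = F.obj.map f.op (secEquiv U F a) := by
  simp only [secEquiv, Equiv.trans_apply]
  rw [Adjunction.homEquiv_naturality_left]
  exact (yonedaEquiv_naturality _ f).symm

theorem repMap_symm {F : Sheaf J (Type u)} {U V : C} (f : V ⟶ U) (s : sec F U) :
    repMap J f ≫ (secEquiv U F).symm s = (secEquiv V F).symm (F.obj.map f.op s) := by
  rw [Equiv.eq_symm_apply, secEquiv_repMap, Equiv.apply_symm_apply]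

/-- The sieve of the site where a section lifts to a sieve of the topos. -/
def locSieve {X : Sheaf J (Type u)} (S : Sieve X) {U : C} (s : sec X U) : Sieve U where
  arrows V f := S ((secEquiv V X).symm (X.obj.map f.op s))
  downward_closed := by
    intro V W f hf g
    rw [op_comp, Functor.map_comp_apply, ← repMap_symm]
    exact S.downward_closed hf _

theorem locSieve_pullback {X Y : Sheaf J (Type u)} (S : Sieve X) (h : Y ⟶ X) {U : C} (s : sec Y U) :
    locSieve (S.pullback h) s = locSieve S (h.hom.app (op U) s) := by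
  ext V f
  show S ((secEquiv V Y).symm _ ≫ h) ↔ S _
  rw [secEquiv_symm_comp, NatTrans.naturality_apply]

variable (J) in
/-- The topology of locally surjective sieves. -/
def epiTopology : GrothendieckTopology (Sheaf J (Type u)) where
  sieves X := {S | ∀ (U : C) (s : sec X U), locSieve S s ∈ J U}
  top_mem' X U s := J.superset_covering (fun _ _ _ => trivial) (J.top_mem U)
  pullback_stable' X Y S f hS U s := by
    rw [locSieve_pullback]; exact hS U _
  transitive' X S hS R hR U s := by
    refine J.transitive (hS U s) _ fun V g hg => ?_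
    have := hR hg V (secEquiv V _ (𝟙 _))
    rw [locSieve_pullback, ← secEquiv_comp, Category.id_comp, Equiv.apply_symm_apply] at this
    refine J.superset_covering ?_ this
    intro W k hk
    show R _
    rw [op_comp, Functor.map_comp_apply]
    exact hk

theorem mem_epiTopology {X : Sheaf J (Type u)} {S : Sieve X} :
    S ∈ epiTopology J X ↔ ∀ (U : C) (s : sec X U), locSieve S s ∈ J U := Iff.rfl

theorem hom_ext_of_sieve {X Z : Sheaf J (Type u)} {S : Sieve X} (hS : S ∈ epiTopology J X)
    {a b : X ⟶ Z} (h : ∀ ⦃Y : Sheaf J (Type u)⦄ (g : Y ⟶ X), S g → g ≫ a = g ≫ b) : a = b := by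
  refine hom_ext_sec fun U s => ?_
  refine (((isSheaf_iff_isSheaf_of_type _ _).1 Z.property) _ (hS U s)).isSeparatedFor.ext ?_
  intro V f hf
  rw [← NatTrans.naturality_apply, ← NatTrans.naturality_apply]
  apply (secEquiv V Z).symm.injective
  rw [← secEquiv_symm_comp, ← secEquiv_symm_comp]
  exact h _ hf

theorem mem_epiTopology_of_isEpiFamily {ι : Type u} {X : Sheaf J (Type u)}
    {F : ι → Sheaf J (Type u)} {π : ∀ i, F i ⟶ X} (h : SGA4.IsEpiFamily π) {S : Sieve X}
    (hS : ∀ i, S (π i)) : S ∈ epiTopology J X := by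
  intro U s
  refine J.superset_covering ?_ ((isEpiFamily_iff_liftSieve_mem π).1 h U s)
  rintro V f ⟨i, t, ht⟩
  show S _
  rw [← ht, ← secEquiv_symm_comp]
  exact S.downward_closed (hS i) _

/-- The small family of sections in a sieve. -/
abbrev SieveGen {X : Sheaf J (Type u)} (S : Sieve X) : Type u :=
  Σ U : C, {s : sec X U // S ((secEquiv U X).symm s)}

theorem mem_epiTopology_iff_hom_ext {X : Sheaf J (Type u)} (S : Sieve X) :
    S ∈ epiTopology J X ↔ ∀ (Z : Sheaf J (Type u)) (a b : X ⟶ Z),
      (∀ ⦃Y : Sheaf J (Type u)⦄ (g : Y ⟶ X), S g → g ≫ a = g ≫ b) → a = b := by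
  refine ⟨fun hS Z a b h => hom_ext_of_sieve hS h, fun h => ?_⟩
  refine mem_epiTopology_of_isEpiFamily
    (π := fun p : SieveGen S => (secEquiv p.1 X).symm p.2.1) ?_ fun p => p.2.2
  intro Z a b hab
  refine h Z a b fun Y g hg => hom_ext_sec fun U s => ?_
  apply (secEquiv U Z).symm.injective
  have hmem : S ((secEquiv U X).symm (g.hom.app (op U) s)) := by
    rw [← secEquiv_symm_comp]; exact S.downward_closed hg _
  rw [← secEquiv_symm_comp, ← secEquiv_symm_comp, ← Category.assoc, ← Category.assoc,
    secEquiv_symm_comp s g]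
  exact hab ⟨U, _, hmem⟩

theorem generate_mem_epiTopology {ι : Type u} {X : Sheaf J (Type u)}
    {F : ι → Sheaf J (Type u)} {π : ∀ i, F i ⟶ X} (h : SGA4.IsEpiFamily π) :
    Sieve.generate (Presieve.ofArrows F π) ∈ epiTopology J X :=
  mem_epiTopology_of_isEpiFamily h fun i => Sieve.le_generate _ _ _ (Presieve.ofArrows.mk i)

section PreservesLimits

variable (P : (Sheaf J (Type u))ᵒᵖ ⥤ Type w)

theorem bijective_coproduct [PreservesLimitsOfSize.{u, u} P] {ι : Type u}
    (F : ι → Sheaf J (Type u)) :
    Function.Bijective fun (y : P.obj (op (∐ F))) (i : ι) => P.map (Sigma.ι F i).op y := by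
  have hl : IsLimit (Fan.mk (P.obj (op (∐ F))) fun i => P.map (Sigma.ι F i).op) :=
    isLimitFanMkObjOfIsLimit P _ _ (Cofan.IsColimit.op (coproductIsCoproduct F))
  constructor
  · intro y y' h
    obtain ⟨x, -, hx⟩ := (Types.isLimit_iff _).1 ⟨hl⟩ (fun j => P.map (Sigma.ι F j.as).op y)
      (by rintro ⟨i⟩ ⟨k⟩ g; obtain rfl : i = k := Discrete.eq_of_hom g; simp [Subsingleton.elim g (𝟙 _)])
    exact (hx y fun j => rfl).trans (hx y' fun j => (congrFun h j.as).symm).symm
  · intro f
    obtain ⟨x, hx, -⟩ := (Types.isLimit_iff _).1 ⟨hl⟩ (fun j => f j.as)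
      (by rintro ⟨i⟩ ⟨k⟩ g; obtain rfl : i = k := Discrete.eq_of_hom g; simp [Subsingleton.elim g (𝟙 _)])
    exact ⟨x, funext fun i => hx ⟨i⟩⟩

theorem equalizer_of_epi [PreservesLimitsOfSize.{u, u} P] {A X : Sheaf J (Type u)} (e : A ⟶ X)
    [Epi e] :
    Function.Injective (P.map e.op) ∧ ∀ y, P.map (pullback.fst e e).op y =
      P.map (pullback.snd e e).op y → ∃ x, P.map e.op x = y := by
  have := effectiveEpi_of_epi e
  have : PreservesLimitsOfSize.{0, 0} P := preservesLimitsOfSize_shrink.{0, u, 0, u} P
  have hc : IsColimit (Cofork.ofπ e pullback.condition) :=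
    Cofork.IsColimit.mk _ (fun s => EffectiveEpi.desc e s.π fun g₁ g₂ hg => by
        conv_lhs => rw [← pullback.lift_fst g₁ g₂ hg]
        conv_rhs => rw [← pullback.lift_snd g₁ g₂ hg]
        simp only [Category.assoc, s.condition])
      (fun s => EffectiveEpi.fac e _ _)
      (fun s m hm => EffectiveEpi.uniq e _ _ m hm)
  have hl : IsLimit (Fork.ofι (P.map e.op) (by rw [← P.map_comp, ← P.map_comp, ← op_comp, ← op_comp, pullback.condition]) :
      Fork (P.map (pullback.fst e e).op) (P.map (pullback.snd e e).op)) :=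
    isLimitForkMapOfIsLimit P _ (Fork.IsLimit.mk
      (Fork.ofι e.op (by rw [← op_comp, ← op_comp, pullback.condition]) :
        Fork (pullback.fst e e).op (pullback.snd e e).op)
      (fun t => (Cofork.IsColimit.desc hc t.ι.unop (congrArg Quiver.Hom.unop t.condition)).op)
      (fun t => Quiver.Hom.unop_inj (Cofork.IsColimit.π_desc' hc _ (congrArg Quiver.Hom.unop t.condition)))
      (fun t m hm => Quiver.Hom.unop_inj (Cofork.IsColimit.hom_ext hc
        ((congrArg Quiver.Hom.unop hm).trans
          (Cofork.IsColimit.π_desc' hc _ (congrArg Quiver.Hom.unop t.condition)).symm))))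
  have h := (Types.type_equalizer_iff_unique _ _).1 ⟨hl⟩
  constructor
  · intro x x' hxx
    obtain ⟨z, -, hz⟩ := h (P.map e.op x) (by
      simp only [← Functor.map_comp_apply, ← op_comp, pullback.condition])
    exact (hz x rfl).trans (hz x' hxx.symm).symm
  · intro y hy
    exact (h y hy).exists

theorem eq_of_isEpiFamily [PreservesLimitsOfSize.{u, u} P] {ι : Type u} {X : Sheaf J (Type u)}
    {F : ι → Sheaf J (Type u)} {π : ∀ i, F i ⟶ X} (h : SGA4.IsEpiFamily π) {x x' : P.obj (op X)}
    (hx : ∀ i, P.map (π i).op x = P.map (π i).op x') : x = x' := by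
  have := (epi_sigmaDesc_iff π).2 h
  apply (equalizer_of_epi P (Sigma.desc π)).1
  apply (bijective_coproduct P F).1
  funext i
  simp only [← Functor.map_comp_apply, ← op_comp, Sigma.ι_desc]
  exact hx i

theorem isSheafFor_of_preservesLimits [PreservesLimitsOfSize.{u, u} P] {X : Sheaf J (Type u)}
    {S : Sieve X} (hS : S ∈ epiTopology J X) : Presieve.IsSheafFor P S.arrows := by
  intro fam hfam
  let F : SieveGen S → Sheaf J (Type u) := fun p => rep J p.1
  let π : ∀ p, F p ⟶ X := fun p => (secEquiv p.1 X).symm p.2.1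
  have hπ : SGA4.IsEpiFamily π := by
    intro Z a b hab
    refine hom_ext_of_sieve hS fun Y g hg => hom_ext_sec fun U s => ?_
    have hmem : S ((secEquiv U X).symm (g.hom.app (op U) s)) := by
      rw [← secEquiv_symm_comp]; exact S.downward_closed hg _
    have := hab ⟨U, _, hmem⟩
    simp only [π, secEquiv_symm_comp] at this
    exact (secEquiv U Z).symm.injective this
  have he : Epi (Sigma.desc π) := (epi_sigmaDesc_iff π).2 hπ
  obtain ⟨y, hy⟩ := (bijective_coproduct P F).2 fun p => fam (π p) p.2.2
  have hy' : ∀ p, P.map (Sigma.ι F p).op y = fam (π p) p.2.2 := fun p => congrFun hy p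
  -- the two restrictions to the kernel pair agree
  let E := Sigma.desc π
  have hc : SGA4.IsEpiFamily (fun p => Sigma.ι F p) := fun Z a b hab => Sigma.hom_ext _ _ hab
  let T : Sieve (pullback E E) :=
    (Sieve.generate (Presieve.ofArrows F fun p => Sigma.ι F p)).pullback (pullback.fst E E) ⊓
      (Sieve.generate (Presieve.ofArrows F fun p => Sigma.ι F p)).pullback (pullback.snd E E)
  have hT : T ∈ epiTopology J (pullback E E) :=
    (epiTopology J).intersection_covering
      ((epiTopology J).pullback_stable _ (generate_mem_epiTopology hc))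
      ((epiTopology J).pullback_stable _ (generate_mem_epiTopology hc))
  have hyy : P.map (pullback.fst E E).op y = P.map (pullback.snd E E).op y := by
    refine eq_of_isEpiFamily P (π := fun q : SieveGen T => (secEquiv q.1 _).symm q.2.1) ?_ ?_
    · intro Z a b hab
      refine hom_ext_of_sieve hT fun Y g hg => hom_ext_sec fun U s => ?_
      have hmem : T ((secEquiv U _).symm (g.hom.app (op U) s)) := by
        rw [← secEquiv_symm_comp]; exact T.downward_closed hg _
      have := hab ⟨U, _, hmem⟩
      simp only [secEquiv_symm_comp] at this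
      exact (secEquiv U Z).symm.injective this
    · rintro ⟨U, s, hs₁, hs₂⟩
      obtain ⟨_, a₁, _, ⟨i⟩, e₁⟩ := hs₁
      obtain ⟨_, a₂, _, ⟨j⟩, e₂⟩ := hs₂
      rw [← Functor.map_comp_apply, ← Functor.map_comp_apply, ← op_comp, ← op_comp]
      refine (congrArg (fun φ : rep J U ⟶ ∐ F => P.map φ.op y) e₁.symm).trans
        (Eq.trans ?_ (congrArg (fun φ : rep J U ⟶ ∐ F => P.map φ.op y) e₂))
      show P.map (a₁ ≫ Sigma.ι F i).op y = P.map (a₂ ≫ Sigma.ι F j).op y
      rw [op_comp, op_comp, Functor.map_comp_apply, Functor.map_comp_apply, hy', hy']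
      refine hfam a₁ a₂ i.2.2 j.2.2 ?_
      have := congrArg ((secEquiv U _).symm s ≫ ·) (pullback.condition (f := E) (g := E))
      rw [← Category.assoc, ← Category.assoc, ← e₁, ← e₂] at this
      simpa [E] using this
  obtain ⟨x, hx⟩ := (equalizer_of_epi P E).2 y hyy
  have hxπ : ∀ p, P.map (π p).op x = fam (π p) p.2.2 := fun p => by
    rw [← hy', ← hx, ← Functor.map_comp_apply, ← op_comp]
    simp [E]
  refine ⟨x, fun Y g hg => ?_, fun x' hx' => ?_⟩
  · refine eq_of_isEpiFamily P (π := fun q : SieveGen (⊤ : Sieve Y) => (secEquiv q.1 _).symm q.2.1)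
      ?_ fun q => ?_
    · intro Z a b hab
      refine hom_ext_sec fun U s => ?_
      have := hab ⟨U, s, trivial⟩
      simp only [secEquiv_symm_comp] at this
      exact (secEquiv U Z).symm.injective this
    · obtain ⟨U, s, -⟩ := q
      have hmem : S ((secEquiv U X).symm (g.hom.app (op U) s)) := by
        rw [← secEquiv_symm_comp]; exact S.downward_closed hg _
      rw [← Functor.map_comp_apply, ← op_comp]
      have e := secEquiv_symm_comp s g
      rw [e, hxπ ⟨U, _, hmem⟩]
      refine Eq.trans ?_ (hfam (𝟙 _) ((secEquiv U Y).symm s) hmem hg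
        (by rw [Category.id_comp]; exact e.symm))
      simp [π]
  · refine eq_of_isEpiFamily P hπ fun p => ?_
    rw [hxπ]
    exact hx' _ p.2.2

theorem isSheaf_epiTopology_of_preservesLimits [PreservesLimitsOfSize.{u, u} P] :
    Presieve.IsSheaf (epiTopology J) P :=
  fun _ _ hS => isSheafFor_of_preservesLimits P hS

end PreservesLimits

variable (J) in
theorem canonicalTopology_eq :
    Sheaf.canonicalTopology (Sheaf J (Type u)) = epiTopology J := by
  apply le_antisymm
  · intro X S hS
    refine (mem_epiTopology_iff_hom_ext S).2 fun Z a b h => ?_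
    exact ((Sheaf.isSheaf_yoneda_obj Z) S hS).isSeparatedFor.ext fun Y g hg => h g hg
  · refine Sheaf.le_finestTopology _ _ ?_
    rintro P ⟨Z, rfl⟩
    exact isSheaf_epiTopology_of_preservesLimits _

section Sheaf

variable {P : (Sheaf J (Type u))ᵒᵖ ⥤ Type w}

theorem preservesLimits_of_isSheaf (hP : Presieve.IsSheaf (epiTopology J) P) :
    PreservesLimitsOfSize.{u, u} P := by
  refine ⟨fun {I} _ => ⟨fun {K} => ⟨fun {c} hc => ?_⟩⟩⟩
  refine ⟨((Types.isLimit_iff _).2 fun x hx => ?_).some⟩
  let π : ∀ i : I, (K.obj i).unop ⟶ c.pt.unop := fun i => (c.π.app i).unop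
  have hc' : SGA4.IsEpiFamily π := fun Z a b hab =>
    Quiver.Hom.op_inj (hc.hom_ext fun i => Quiver.Hom.unop_inj (hab i))
  have hsh : (Presieve.ofArrows _ π).IsSheafFor P :=
    (Presieve.isSheafFor_iff_generate _).2 (hP _ (generate_mem_epiTopology hc'))
  have hsep : ∀ {U : C} {T : Sieve U}, T ∈ J U → ∀ {z z' : P.obj (op (rep J U))},
      (∀ ⦃V : C⦄ (f : V ⟶ U), T f → P.map (repMap J f).op z = P.map (repMap J f).op z') →
        z = z' := by
    intro U T hT z z' h
    have hT' : Sieve.generate (Presieve.ofArrows (fun p : Σ V : C, {f : V ⟶ U // T f} => rep J p.1)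
        (fun p => repMap J p.2.1)) ∈ epiTopology J (rep J U) := by
      refine generate_mem_epiTopology fun Z a b hab => (secEquiv U Z).injective ?_
      refine (((isSheaf_iff_isSheaf_of_type _ _).1 Z.property) T hT).isSeparatedFor.ext fun V f hf => ?_
      rw [← secEquiv_repMap, ← secEquiv_repMap, hab ⟨V, f, hf⟩]
    refine (hP _ hT').isSeparatedFor.ext ?_
    rintro W g ⟨_, a, _, ⟨p⟩, rfl⟩
    rw [op_comp, Functor.map_comp_apply, Functor.map_comp_apply, h p.2.1 p.2.2]
  -- the quotient of the sections by equality of the values of the family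
  let val : ∀ U : C, (Σ i : I, sec (K.obj i).unop U) → P.obj (op (rep J U)) := fun U p =>
    P.map ((secEquiv U _).symm p.2).op (x p.1)
  have hval : ∀ {U V : C} (f : V ⟶ U) (p : Σ i : I, sec (K.obj i).unop U),
      val V ⟨p.1, (K.obj p.1).unop.obj.map f.op p.2⟩ = P.map (repMap J f).op (val U p) := by
    intro U V f p
    simp only [val]
    rw [← repMap_symm, op_comp, Functor.map_comp_apply]
  let R : Cᵒᵖ ⥤ Type u :=
    { obj := fun U => Quotient (Setoid.ker (val U.unop))
      map := fun {U V} f => ↾Quotient.map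
          (fun p => ⟨p.1, (K.obj p.1).unop.obj.map f p.2⟩) (fun p p' h => by
        show val _ _ = val _ _
        exact (hval f.unop p).trans ((congrArg _ (h : val _ p = val _ p')).trans (hval f.unop p').symm))
      map_id := fun U => by
        ext z; induction z using Quotient.ind
        simp
      map_comp := fun f g => by
        ext z; induction z using Quotient.ind
        simp }
  let Q : Sheaf J (Type u) := (presheafToSheaf J (Type u)).obj R
  let l : ∀ i, (K.obj i).unop.obj ⟶ R := fun i =>
    { app := fun U => ↾fun s => Quotient.mk _ ⟨i, s⟩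
      naturality := fun U V f => rfl }
  let s : Cone K :=
    { pt := op Q
      π :=
        { app := fun i => Quiver.Hom.op (show (K.obj i).unop ⟶ Q from ⟨l i ≫ toSheafify J R⟩)
          naturality := fun i j g => by
            apply Quiver.Hom.unop_inj
            refine hom_ext_sec fun U s => ?_
            show (toSheafify J R).app (op U) ((l j).app (op U) s) =
              (toSheafify J R).app (op U) ((l i).app (op U) ((K.map g).unop.hom.app (op U) s))
            congr 1
            apply Quotient.sound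
            show val U _ = val U _
            simp only [val]
            rw [← secEquiv_symm_comp, op_comp, Functor.map_comp_apply, Quiver.Hom.op_unop]
            exact congrArg _ (hx g).symm } }
  have hfac : ∀ (i : I) (U : C) (t : sec (K.obj i).unop U),
      (hc.lift s).unop.hom.app (op U) ((π i).hom.app (op U) t) =
        (toSheafify J R).app (op U) ((l i).app (op U) t) := fun i U t =>
    ConcreteCategory.congr_hom (NatTrans.congr_app (congrArg (fun φ : op Q ⟶ K.obj i => φ.unop.hom)
      (hc.fac s i)) (op U)) t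
  have hcomp : Presieve.Arrows.Compatible P π x := by
    intro i j W a b hab
    have hW : Sieve.generate (Presieve.ofArrows (fun p : SieveGen (⊤ : Sieve W) => rep J p.1)
        (fun p => (secEquiv p.1 W).symm p.2.1)) ∈ epiTopology J W := by
      refine generate_mem_epiTopology fun Z a b hab => hom_ext_sec fun U t => ?_
      have := hab ⟨U, t, trivial⟩
      simp only [secEquiv_symm_comp] at this
      exact (secEquiv U Z).symm.injective this
    refine (hP _ hW).isSeparatedFor.ext ?_
    rintro W' g ⟨_, d, _, ⟨⟨U, t, ht⟩⟩, rfl⟩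
    rw [op_comp, Functor.map_comp_apply, Functor.map_comp_apply]
    congr 1
    simp only [← Functor.map_comp_apply, ← op_comp, secEquiv_symm_comp]
    have e : (π i).hom.app (op U) (a.hom.app (op U) t) = (π j).hom.app (op U) (b.hom.app (op U) t) :=
      ConcreteCategory.congr_hom (NatTrans.congr_app (congrArg (·.hom) hab) (op U)) t
    have e' := congrArg ((hc.lift s).unop.hom.app (op U)) e
    rw [hfac, hfac] at e'
    refine hsep (Presheaf.equalizerSieve_mem J (toSheafify J R) _ _ e') fun V f hf => ?_
    rw [← Functor.map_comp_apply, ← Functor.map_comp_apply, ← op_comp, ← op_comp, repMap_symm,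
      repMap_symm]
    exact Quotient.exact (hf : R.map f.op _ = R.map f.op _)
  exact (Presieve.isSheafFor_arrows_iff P π).1 hsh x hcomp

end Sheaf

theorem isSheaf_canonicalTopology_iff (P : (Sheaf J (Type u))ᵒᵖ ⥤ Type w) :
    Presieve.IsSheaf (Sheaf.canonicalTopology (Sheaf J (Type u))) P ↔
      PreservesLimitsOfSize.{u, u} P := by
  rw [canonicalTopology_eq]
  exact ⟨preservesLimits_of_isSheaf, fun _ => isSheaf_epiTopology_of_preservesLimits P⟩

end GrothLib.Topos

namespace GrothLib.Topos

variable {C D : Type u} [SmallCategory C] [SmallCategory D] {J : GrothendieckTopology C}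
  {K : GrothendieckTopology D}

theorem isSheaf_canonical_iff {E' : Type v} [Category.{w} E'] (F : (Sheaf J (Type u))ᵒᵖ ⥤ E') :
    Presheaf.IsSheaf (Sheaf.canonicalTopology (Sheaf J (Type u))) F ↔
      PreservesLimitsOfSize.{u, u} F := by
  constructor
  · intro h
    refine ⟨fun {I} _ => ⟨fun {K} => ⟨fun {c} hc => ⟨coyonedaJointlyReflectsLimits _ _ fun E => ?_⟩⟩⟩⟩
    have : PreservesLimitsOfSize.{u, u} (F ⋙ coyoneda.obj E) :=
      (isSheaf_canonicalTopology_iff _).1 (h E.unop)
    exact isLimitOfPreserves (F ⋙ coyoneda.obj E) hc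
  · intro _ E
    exact (isSheaf_canonicalTopology_iff _).2 inferInstance

theorem preservesColimits_iff_isContinuous (f : Sheaf J (Type u) ⥤ Sheaf K (Type u)) :
    PreservesColimitsOfSize.{u, u} f ↔
      f.IsContinuous (Sheaf.canonicalTopology (Sheaf J (Type u)))
        (Sheaf.canonicalTopology (Sheaf K (Type u))) := by
  constructor
  · intro _
    have : PreservesLimitsOfSize.{u, u} f.op := preservesLimitsOfSize_op f
    refine ⟨fun G => (isSheaf_canonicalTopology_iff _).2 ?_⟩
    have : PreservesLimitsOfSize.{u, u} G.obj :=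
      (isSheaf_canonicalTopology_iff _).1 ((isSheaf_iff_isSheaf_of_type _ _).1 G.property)
    exact inferInstance
  · intro _
    have : PreservesLimitsOfSize.{u, u} f.op :=
      ⟨fun {I} _ => ⟨fun {F} => ⟨fun {c} hc => ⟨yonedaJointlyReflectsLimits _ _ fun Z => ?_⟩⟩⟩⟩
    · exact preservesColimitsOfSize_of_op f
    · have : PreservesLimitsOfSize.{u, u} (f.op ⋙ yoneda.obj Z) :=
        (isSheaf_canonicalTopology_iff _).1 (f.op_comp_isSheaf_of_types _ _
          ⟨yoneda.obj Z, (isSheaf_iff_isSheaf_of_type _ _).2 (Sheaf.isSheaf_yoneda_obj Z)⟩)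
      exact isLimitOfPreserves (f.op ⋙ yoneda.obj Z) hc

theorem coverPreserving_of_preservesEpiFamilies (f : Sheaf J (Type u) ⥤ Sheaf K (Type u))
    (hf : SGA4.PreservesEpiFamilies.{u + 1, u + 1, u} f) :
    CoverPreserving (Sheaf.canonicalTopology (Sheaf J (Type u)))
      (Sheaf.canonicalTopology (Sheaf K (Type u))) f := by
  refine ⟨fun {X S} hS => ?_⟩
  rw [canonicalTopology_eq] at hS ⊢
  have hπ : SGA4.IsEpiFamily (fun p : SieveGen S => (secEquiv p.1 X).symm p.2.1) := by
    intro Z a b hab
    refine hom_ext_of_sieve hS fun Y g hg => hom_ext_sec fun U s => ?_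
    have hmem : S ((secEquiv U X).symm (g.hom.app (op U) s)) := by
      rw [← secEquiv_symm_comp]; exact S.downward_closed hg _
    have := hab ⟨U, _, hmem⟩
    simp only [secEquiv_symm_comp] at this
    exact (secEquiv U Z).symm.injective this
  exact mem_epiTopology_of_isEpiFamily (hf _ _ _ _ hπ)
    fun p => Sieve.image_mem_functorPushforward f S p.2.2

theorem isContinuous_of_preservesEpiFamilies (f : Sheaf J (Type u) ⥤ Sheaf K (Type u))
    [PreservesFiniteLimits f] (hf : SGA4.PreservesEpiFamilies.{u + 1, u + 1, u} f) :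
    f.IsContinuous (Sheaf.canonicalTopology (Sheaf J (Type u)))
      (Sheaf.canonicalTopology (Sheaf K (Type u))) := by
  have : RepresentablyFlat f := flat_of_preservesFiniteLimits f
  exact Functor.isContinuous_of_coverPreserving (compatiblePreservingOfFlat _ f)
    (coverPreserving_of_preservesEpiFamilies f hf)

theorem isEpiFamily_sections (X : Sheaf J (Type u)) :
    SGA4.IsEpiFamily (fun p : Σ U : C, sec X U => (secEquiv p.1 X).symm p.2) := by
  intro Z a b hab
  refine hom_ext_sec fun U s => ?_
  have := hab ⟨U, s⟩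
  simp only [secEquiv_symm_comp] at this
  exact (secEquiv U Z).symm.injective this

/-- A canonical sheaf on a sheaf topos is representable. -/
theorem isRepresentable_of_isSheaf (P : (Sheaf J (Type u))ᵒᵖ ⥤ Type u)
    (hP : Presieve.IsSheaf (Sheaf.canonicalTopology (Sheaf J (Type u))) P) :
    P.IsRepresentable := by
  rw [canonicalTopology_eq] at hP
  have hsep : ∀ {X : Sheaf J (Type u)} {x x' : P.obj (op X)},
      (∀ (U : C) (s : sec X U), P.map ((secEquiv U X).symm s).op x =
        P.map ((secEquiv U X).symm s).op x') → x = x' := by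
    intro X x x' h
    refine (hP _ (generate_mem_epiTopology (isEpiFamily_sections X))).isSeparatedFor.ext ?_
    rintro W g ⟨_, a, _, ⟨p⟩, rfl⟩
    rw [op_comp, Functor.map_comp_apply, Functor.map_comp_apply, h]
  have hcov : ∀ {U : C} {T : Sieve U}, T ∈ J U →
      SGA4.IsEpiFamily (fun p : Σ V : C, {f : V ⟶ U // T f} => repMap J p.2.1) := by
    intro U T hT Z a b hab
    refine (secEquiv U Z).injective <|
      (((isSheaf_iff_isSheaf_of_type _ _).1 Z.property) T hT).isSeparatedFor.ext fun V f hf => ?_
    rw [← secEquiv_repMap, ← secEquiv_repMap, hab ⟨V, f, hf⟩]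
  have hloc : ∀ {U : C} {T : Sieve U}, T ∈ J U → ∀ {z z' : P.obj (op (rep J U))},
      (∀ ⦃V : C⦄ (f : V ⟶ U), T f → P.map (repMap J f).op z = P.map (repMap J f).op z') →
        z = z' := by
    intro U T hT z z' h
    refine (hP _ (generate_mem_epiTopology (hcov hT))).isSeparatedFor.ext ?_
    rintro W g ⟨_, a, _, ⟨p⟩, rfl⟩
    rw [op_comp, Functor.map_comp_apply, Functor.map_comp_apply, h p.2.1 p.2.2]
  have hη : ∀ {V W : C} (k : W ⟶ V),
      secEquiv W (rep J V) (repMap J k) = (toSheafify J (yoneda.obj V)).app (op W) k := by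
    intro V W k
    rw [← Category.comp_id (repMap J k), secEquiv_repMap]
    have : secEquiv V (rep J V) (𝟙 _) = (toSheafify J (yoneda.obj V)).app (op V) (𝟙 V) := by
      simp only [secEquiv, Equiv.trans_apply, Adjunction.homEquiv_id]
      rfl
    rw [this]
    refine (NatTrans.naturality_apply (toSheafify J (yoneda.obj V)) k.op (𝟙 V)).symm.trans ?_
    exact congrArg _ (Category.comp_id k)
  -- to compare values along two maps into representables, one may assume these come from the site
  have hred : ∀ {V₁ V₂ : C} {W : Sheaf J (Type u)} (a : W ⟶ rep J V₁) (b : W ⟶ rep J V₂)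
      (x₁ : P.obj (op (rep J V₁))) (x₂ : P.obj (op (rep J V₂))),
      (∀ (W'' : C) (d : rep J W'' ⟶ W) (k₁ : W'' ⟶ V₁) (k₂ : W'' ⟶ V₂),
        d ≫ a = repMap J k₁ → d ≫ b = repMap J k₂ →
          P.map (repMap J k₁).op x₁ = P.map (repMap J k₂).op x₂) →
      P.map a.op x₁ = P.map b.op x₂ := by
    intro V₁ V₂ W a b x₁ x₂ h
    refine hsep fun W' t => ?_
    refine hloc (J.intersection_covering
      (Presheaf.imageSieve_mem J (toSheafify J (yoneda.obj V₁)) (a.hom.app (op W') t))
      (Presheaf.imageSieve_mem J (toSheafify J (yoneda.obj V₂)) (b.hom.app (op W') t)))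
      fun W'' g hg => ?_
    obtain ⟨⟨k₁, hk₁⟩, ⟨k₂, hk₂⟩⟩ := hg
    have e₁ : (repMap J g ≫ (secEquiv W' W).symm t) ≫ a = repMap J (k₁ : W'' ⟶ V₁) := by
      apply (secEquiv W'' _).injective
      rw [Category.assoc, secEquiv_repMap, secEquiv_symm_comp, Equiv.apply_symm_apply, hη]
      exact hk₁.symm
    have e₂ : (repMap J g ≫ (secEquiv W' W).symm t) ≫ b = repMap J (k₂ : W'' ⟶ V₂) := by
      apply (secEquiv W'' _).injective
      rw [Category.assoc, secEquiv_repMap, secEquiv_symm_comp, Equiv.apply_symm_apply, hη]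
      exact hk₂.symm
    simp only [← Functor.map_comp_apply, ← op_comp]
    rw [← Category.assoc, ← Category.assoc, e₁, e₂]
    exact h W'' _ k₁ k₂ e₁ e₂
  let Qp : Cᵒᵖ ⥤ Type u :=
    (yoneda ⋙ presheafToSheaf J (Type u)).op ⋙ P
  have hQp : ∀ {U V : C} (f : V ⟶ U) (z : P.obj (op (rep J U))),
      Qp.map f.op z = P.map (repMap J f).op z := fun _ _ => rfl
  have hQ : Presieve.IsSheaf J Qp := by
    intro U T hT fam hfam
    have hfam' : ∀ {V W : C} (k : W ⟶ V) (f : V ⟶ U) (hf : T f),
        P.map (repMap J k).op (fam f hf) = fam (k ≫ f) (T.downward_closed hf k) := by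
      intro V W k f hf
      have := hfam k (𝟙 W) hf (T.downward_closed hf k) (Category.id_comp _).symm
      rw [hQp, hQp] at this
      refine this.trans ?_
      have hid : repMap J (𝟙 W) = 𝟙 (rep J W) :=
        ((yoneda ⋙ presheafToSheaf J (Type u)).map_id W)
      rw [hid, op_id]
      exact Functor.map_id_apply P _ _
    obtain ⟨x, hx, hu⟩ := (Presieve.isSheafFor_arrows_iff P _).1
      ((Presieve.isSheafFor_iff_generate _).2 (hP _ (generate_mem_epiTopology (hcov hT))))
      (fun p => fam p.2.1 p.2.2) (fun p₁ p₂ W a b hab => hred a b _ _ fun W'' d k₁ k₂ e₁ e₂ => by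
        obtain ⟨V₁, f₁, hf₁⟩ := p₁
        obtain ⟨V₂, f₂, hf₂⟩ := p₂
        rw [hfam', hfam']
        have e : repMap J (k₁ ≫ f₁) = repMap J (k₂ ≫ f₂) := by
          simp only [repMap, Functor.map_comp] at e₁ e₂ hab ⊢
          rw [← e₁, ← e₂, Category.assoc, Category.assoc, hab]
        have e' := congrArg (secEquiv W'' _) e
        rw [hη, hη] at e'
        refine hloc (Presheaf.equalizerSieve_mem J (toSheafify J (yoneda.obj U)) _ _ e') fun V g hg => ?_
        rw [hfam', hfam']
        congr 1)
    exact ⟨x, fun V f hf => hx ⟨V, f, hf⟩, fun y hy => hu y fun p => hy p.2.1 p.2.2⟩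
  let Q : Sheaf J (Type u) := ⟨Qp, (isSheaf_iff_isSheaf_of_type _ _).2 hQ⟩
  let toHom : ∀ X : Sheaf J (Type u), P.obj (op X) → (X ⟶ Q) := fun X x =>
    ⟨{ app := fun U => ↾fun s => P.map ((secEquiv U.unop X).symm s).op x
       naturality := fun U V f => by
        ext s
        show P.map ((secEquiv V.unop X).symm (X.obj.map f s)).op x =
          P.map (repMap J f.unop).op (P.map ((secEquiv U.unop X).symm s).op x)
        rw [← Functor.map_comp_apply, ← op_comp, repMap_symm]
        rfl }⟩
  have hbij : ∀ X, Function.Bijective (toHom X) := by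
    intro X
    refine ⟨fun x x' h => hsep fun U s => ?_, fun φ => ?_⟩
    · exact congrArg (fun ψ : X ⟶ Q => ψ.hom.app (op U) s) h
    · obtain ⟨x, hx, -⟩ := (Presieve.isSheafFor_arrows_iff P _).1
        ((Presieve.isSheafFor_iff_generate _).2
          (hP _ (generate_mem_epiTopology (isEpiFamily_sections X))))
        (fun p => (show P.obj (op (rep J p.1)) from φ.hom.app (op p.1) p.2))
        (fun p₁ p₂ W a b hab => hred a b _ _ fun W'' d k₁ k₂ e₁ e₂ => by
          have n₁ := NatTrans.naturality_apply φ.hom k₁.op p₁.2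
          have n₂ := NatTrans.naturality_apply φ.hom k₂.op p₂.2
          refine (n₁.symm.trans (Eq.trans ?_ n₂))
          congr 1
          apply (secEquiv W'' X).symm.injective
          rw [← repMap_symm, ← repMap_symm, ← e₁, ← e₂, Category.assoc, Category.assoc, hab])
      exact ⟨x, hom_ext_sec fun U s => hx ⟨U, s⟩⟩
  refine ⟨Q, ⟨{ homEquiv := fun {X} => (Equiv.ofBijective _ (hbij X)).symm
                homEquiv_comp := fun {X X'} f g => ?_ }⟩⟩
  rw [Equiv.symm_apply_eq]
  refine hom_ext_sec fun U s => ?_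
  show (f ≫ g).hom.app (op U) s =
    P.map ((secEquiv U X).symm s).op (P.map f.op ((Equiv.ofBijective _ (hbij X')).symm g))
  rw [← Functor.map_comp_apply, ← op_comp, secEquiv_symm_comp]
  exact (congrArg (fun ψ : X' ⟶ Q => ψ.hom.app (op U) (f.hom.app (op U) s))
    ((Equiv.ofBijective _ (hbij X')).apply_symm_apply g)).symm

theorem isLeftAdjoint_of_isContinuous (f : Sheaf J (Type u) ⥤ Sheaf K (Type u))
    [f.IsContinuous (Sheaf.canonicalTopology (Sheaf J (Type u)))
      (Sheaf.canonicalTopology (Sheaf K (Type u)))] : f.IsLeftAdjoint := by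
  rw [Functor.isLeftAdjoint_iff_rightAdjointObjIsDefined_eq_top]
  ext Y
  simp only [Functor.rightAdjointObjIsDefined, Pi.top_apply, Prop.top_eq_true, iff_true]
  exact isRepresentable_of_isSheaf _ (f.op_comp_isSheaf_of_types _ _
    ⟨yoneda.obj Y, (isSheaf_iff_isSheaf_of_type _ _).2 (Sheaf.isSheaf_yoneda_obj Y)⟩)

end GrothLib.Topos
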