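import Groth.Agent.Lib.Topos.QC
import Groth.Agent.Lib.Topos.Canonical

/-!
# Quasi-compactness and the representable sheaves of a site
-/

set_option autoImplicit false

universe u

open CategoryTheory CategoryTheory.Limits Opposite ToposFin

namespace GrothLib.Topos.QC

variable {C : Type u} [SmallCategory C] {J : GrothendieckTopology C}

theorem secEquiv_repMap_eq {V W : C} (k : W ⟶ V) :
    secEquiv W (rep J V) (repMap J k) = (toSheafify J (yoneda.obj V)).app (op W) k := by
  rw [← Category.comp_id (repMap J k), secEquiv_repMap]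
  have : secEquiv V (rep J V) (𝟙 _) = (toSheafify J (yoneda.obj V)).app (op V) (𝟙 V) := by
    simp only [secEquiv, Equiv.trans_apply, Adjunction.homEquiv_id]
    rfl
  rw [this]
  refine (NatTrans.naturality_apply (toSheafify J (yoneda.obj V)) k.op (𝟙 V)).symm.trans ?_
  exact congrArg _ (Category.comp_id k)

theorem fam_repMap {U : C} {T : Sieve U} (hT : T ∈ J U) :
    Fam (fun p : Σ V : C, {f : V ⟶ U // T f} => repMap J p.2.1) := by
  intro Z a b hab
  refine (secEquiv U Z).injective <|
    (((isSheaf_iff_isSheaf_of_type _ _).1 Z.property) T hT).isSeparatedFor.ext fun V f hf => ?_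
  rw [← secEquiv_repMap, ← secEquiv_repMap, hab ⟨V, f, hf⟩]

theorem isQCSite_iff_isQC_eps (X : C) : IsQCSite J X ↔ IsQC (eps J X) := by
  classical
  let x : sec (eps J X) X := (toSheafify J (yoneda.obj X)).app (op X) (𝟙 X)
  have hx : (secEquiv X (eps J X)).symm x = 𝟙 _ := by
    rw [Equiv.symm_apply_eq]
    exact ((secEquiv_repMap_eq (J := J) (𝟙 X)).symm.trans
      (congrArg _ ((yoneda ⋙ presheafToSheaf J (Type u)).map_id X)))
  constructor
  · intro h
    rw [isQC_iff]
    intro ι F π hπ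
    obtain ⟨n, V, g, hg, hS⟩ := h _ ((isEpiFamily_iff_liftSieve_mem π).1 hπ X x)
    choose i t ht using hg
    refine ⟨Finset.univ.image i, fam_of_factor (fam_repMap hS) ?_⟩
    rintro ⟨W, f, hf⟩
    obtain ⟨_, r, _, ⟨k⟩, rfl⟩ := hf
    refine ⟨⟨i k, Finset.mem_image_of_mem _ (Finset.mem_univ k)⟩,
      repMap J r ≫ (secEquiv (V k) _).symm (t k), ?_⟩
    rw [Category.assoc, secEquiv_symm_comp, ht k, ← repMap_symm, hx, Category.comp_id]
    exact ((yoneda ⋙ presheafToSheaf J (Type u)).map_comp r (g k)).symm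
  · intro h S hS
    obtain ⟨s, hs⟩ := IsQC.exists_finset h (fam_repMap hS)
    let e := (Fintype.equivFin s).symm
    refine ⟨Fintype.card s, fun k => (e k).1.1, fun k => (e k).1.2.1, fun k => (e k).1.2.2, ?_⟩
    refine J.transitive ((isEpiFamily_iff_liftSieve_mem
      (fun p : s => repMap J p.1.2.1)).1 hs X x) _ fun W f hf => ?_
    obtain ⟨p, t, ht⟩ := hf
    refine J.transitive (Presheaf.imageSieve_mem J (toSheafify J (yoneda.obj p.1.1)) t) _
      fun W' g hg => ?_
    obtain ⟨h', hh'⟩ := hg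
    -- `g ≫ f` and `h' ≫ p` agree locally
    have e' : (toSheafify J (yoneda.obj X)).app (op W') (g ≫ f) =
        (toSheafify J (yoneda.obj X)).app (op W') ((h' : W' ⟶ p.1.1) ≫ p.1.2.1) := by
      rw [← secEquiv_repMap_eq, ← secEquiv_repMap_eq]
      have h₁ : repMap J (g ≫ f) = repMap J g ≫ (secEquiv W _).symm t ≫ repMap J p.1.2.1 := by
        rw [secEquiv_symm_comp, ht, ← repMap_symm, hx, Category.comp_id]
        exact (yoneda ⋙ presheafToSheaf J (Type u)).map_comp g f
      have h₂ : repMap J g ≫ (secEquiv W _).symm t = repMap J (h' : W' ⟶ p.1.1) := by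
        apply (secEquiv W' _).injective
        rw [repMap_symm, Equiv.apply_symm_apply, secEquiv_repMap_eq]
        exact hh'.symm
      rw [h₁, ← Category.assoc, h₂]
      congr 1
      exact ((yoneda ⋙ presheafToSheaf J (Type u)).map_comp _ _).symm
    refine J.superset_covering ?_ (Presheaf.equalizerSieve_mem J (toSheafify J (yoneda.obj X)) _ _ e')
    intro W'' c hc
    show Sieve.ofArrows _ _ ((c ≫ g) ≫ f)
    have hc' : c ≫ g ≫ f = c ≫ (h' : W' ⟶ p.1.1) ≫ p.1.2.1 := hc
    rw [Category.assoc, hc', ← Category.assoc]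
    refine Sieve.downward_closed _ ?_ _
    have := Sieve.ofArrows_mk (fun k => (e k).1.1) (fun k => (e k).1.2.1) (e.symm p)
    rw [Equiv.apply_symm_apply] at this
    exact this

theorem hasQCGenerators_of_qc_site (hC : ∀ X : C, IsQCSite J X) : HasQCGenerators J := fun X =>
  ⟨_, _, _, fun p : Σ U : C, sec X U => (isQCSite_iff_isQC_eps p.1).1 (hC p.1),
    (epi_sigmaDesc_iff_fam _).2 (isEpiFamily_sections X)⟩

theorem gen_eps : ∀ X : Sh J, ∃ (ι : Type u) (F : ι → Sh J) (π : ∀ i, F i ⟶ X),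
    (∀ i, ∃ V : C, F i = eps J V) ∧ Fam π := fun X =>
  ⟨_, _, _, fun p : Σ U : C, sec X U => ⟨p.1, rfl⟩, isEpiFamily_sections X⟩

/-- Pieces of an object over a representable sheaf on which the structure map comes from the site. -/
abbrev Lift {G : Sh J} {X : C} (s : G ⟶ eps J X) : Type u :=
  Σ V : C, {p : sec G V × (V ⟶ X) // (secEquiv V G).symm p.1 ≫ s = repMap J p.2}

theorem fam_lifts {G : Sh J} {X : C} (s : G ⟶ eps J X) :
    Fam (fun p : Lift s => (secEquiv p.1 G).symm p.2.1.1) := by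
  intro Z a b hab
  refine hom_ext_sec fun U y => ?_
  refine (((isSheaf_iff_isSheaf_of_type _ _).1 Z.property) _
    (Presheaf.imageSieve_mem J (toSheafify J (yoneda.obj X))
      (s.hom.app (op U) y))).isSeparatedFor.ext fun V f hf => ?_
  obtain ⟨k, hk⟩ := hf
  rw [← NatTrans.naturality_apply, ← NatTrans.naturality_apply]
  apply (secEquiv V Z).symm.injective
  rw [← secEquiv_symm_comp, ← secEquiv_symm_comp]
  refine hab ⟨V, ⟨(G.obj.map f.op y, k), ?_⟩⟩
  apply (secEquiv V _).injective
  rw [secEquiv_symm_comp, Equiv.apply_symm_apply, secEquiv_repMap_eq, NatTrans.naturality_apply]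
  exact hk.symm

theorem isPullback_repMap [HasPullbacks C] {V W X : C} (k : V ⟶ X) (l : W ⟶ X) :
    IsPullback (repMap J (pullback.fst k l)) (repMap J (pullback.snd k l)) (repMap J k)
      (repMap J l) :=
  ((IsPullback.of_hasPullback k l).map yoneda).map (presheafToSheaf J (Type u))

theorem isQCHom_eps [HasPullbacks C] (hC : ∀ X : C, IsQCSite J X) {V X : C}
    (s : eps J V ⟶ eps J X) : IsQCHom s := by
  refine isQCHom_of_generators (P := fun K : Sh J => ∃ V, K = eps J V) gen_eps s ?_
  rintro _ ⟨W, rfl⟩ t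
  obtain ⟨A, hA⟩ := IsQC.exists_finset ((isQCSite_iff_isQC_eps V).1 (hC V)) (fam_lifts s)
  obtain ⟨B, hB⟩ := IsQC.exists_finset ((isQCSite_iff_isQC_eps W).1 (hC W)) (fam_lifts t)
  have hcov := fam_comp (fam_pullback hA (pullback.fst s t))
    (fun p : A => fam_pullback hB
      (pullback.snd ((secEquiv p.1.1 (eps J V)).symm p.1.2.1.1) (pullback.fst s t) ≫ pullback.snd s t))
  refine isQC_of_finite_cover hcov fun ⟨p, q⟩ => ?_
  have sq := isPullback_repMap (J := J) p.1.2.1.2 q.1.2.1.2
  rw [← p.1.2.2, ← q.1.2.2] at sq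
  let a := (secEquiv p.1.1 (eps J V)).symm p.1.2.1.1
  let b := (secEquiv q.1.1 (eps J W)).symm q.1.2.1.1
  have sq₁ : IsPullback (pullback.fst a (pullback.fst s t))
      (pullback.snd a (pullback.fst s t) ≫ pullback.snd s t) (a ≫ s) t :=
    (IsPullback.of_hasPullback a (pullback.fst s t)).paste_vert (IsPullback.of_hasPullback s t)
  have sq₂ := ((IsPullback.of_hasPullback b
    (pullback.snd a (pullback.fst s t) ≫ pullback.snd s t)).flip.paste_horiz sq₁)
  exact isQC_of_iso (sq.isoPullback ≪≫ sq₂.isoPullback.symm)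
    ((isQCSite_iff_isQC_eps _).1 (hC _))

theorem isCoherent_eps [HasPullbacks C] (hC : ∀ X : C, IsQCSite J X) (X : C) :
    IsCoherent (eps J X) :=
  ⟨(isQCSite_iff_isQC_eps X).1 (hC X), isQS_of_generators (P := fun K : Sh J => ∃ V, K = eps J V) gen_eps fun _ ⟨_, hV⟩ => by
    subst hV
    exact isQCHom_eps hC⟩

theorem isQSHom_to_eps [HasPullbacks C] (hC : ∀ X : C, IsQCSite J X) {X : C} {G : Sh J}
    (g : G ⟶ eps J X) (hG : IsQS G) : IsQSHom g := by
  refine isQSHom_of_cover_qs_products (hasQCGenerators_of_qc_site hC) g (fam_lifts g)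
    (fun p => (isQCSite_iff_isQC_eps p.1).1 (hC p.1)) (fun p q => ?_) hG
  have sq := isPullback_repMap (J := J) p.2.1.2 q.2.1.2
  rw [← p.2.2, ← q.2.2] at sq
  exact isQS_of_iso sq.isoPullback (isCoherent_eps hC _).2

theorem sheafPullback_eps {D : Type u} [SmallCategory D] (K : GrothendieckTopology D)
    (G : C ⥤ D) [Functor.IsContinuous G J K] (V : C) :
    Nonempty ((G.sheafPullback (Type u) J K).obj (eps J V) ≅ eps K (G.obj V)) := by
  let adj := G.sheafAdjunctionContinuous (Type u) J K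
  let e : ∀ F : Sh K, ((G.sheafPullback (Type u) J K).obj (eps J V) ⟶ F) ≃
      (eps K (G.obj V) ⟶ F) := fun F =>
    (adj.homEquiv _ _).trans ((secEquiv (J := J) V _).trans (secEquiv (J := K) (G.obj V) F).symm)
  have he : ∀ {F F' : Sh K} (a : _ ⟶ F) (b : F ⟶ F'), e F' (a ≫ b) = e F a ≫ b := by
    intro F F' a b
    simp only [e, Equiv.trans_apply, Adjunction.homEquiv_naturality_right, secEquiv_comp,
      secEquiv_symm_comp]
    exact (secEquiv_symm_comp _ _).symm
  refine ⟨{ hom := (e _).symm (𝟙 _), inv := e _ (𝟙 _), hom_inv_id := ?_, inv_hom_id := ?_ }⟩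
  · apply (e _).injective
    rw [he, Equiv.apply_symm_apply, Category.id_comp]
  · rw [← he, Category.id_comp, Equiv.apply_symm_apply]

end GrothLib.Topos.QC
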