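import Mathlib.CategoryTheory.Adjunction.FullyFaithful
import Mathlib.CategoryTheory.Comma.Basic
import Mathlib.CategoryTheory.Limits.Preserves.Shapes.Pullbacks
import Mathlib.CategoryTheory.Limits.Shapes.Equalizers
import Mathlib.CategoryTheory.Limits.Preserves.Finite
import Mathlib.CategoryTheory.Limits.Preserves.Shapes.Equalizers
import Mathlib.CategoryTheory.Limits.Shapes.Pullback.IsPullback.Basic

/-!
# Artin gluing

A category with two jointly conservative left exact left adjoints to fully faithful functors, the
open one killing the closed part, is the glued category.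
-/

set_option autoImplicit false

universe v₁ v₂ v₃ u₁ u₂ u₃

open CategoryTheory CategoryTheory.Limits

namespace GrothLib.Topos.ArtinGlue

variable {E : Type u₁} [Category.{v₁} E] {A : Type u₂} [Category.{v₂} A]
  {B : Type u₃} [Category.{v₃} B]
  {L : E ⥤ A} {ι : A ⥤ E} (adjL : L ⊣ ι)
  {j : E ⥤ B} {js : B ⥤ E} (adjj : j ⊣ js)

/-- The comparison functor to the glued category. -/
def comparison : E ⥤ Comma (𝟭 A) (js ⋙ L) where
  obj X := { left := L.obj X, right := j.obj X, hom := L.map (adjj.unit.app X) }
  map {X Y} f :=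
    { left := L.map f
      right := j.map f
      w := by
        show L.map f ≫ L.map (adjj.unit.app Y) = L.map (adjj.unit.app X) ≫ L.map (js.map (j.map f))
        rw [← L.map_comp, ← L.map_comp]
        exact congrArg L.map (adjj.unit.naturality f) }

variable [HasPullbacks E] [HasEqualizers E] [HasEqualizers A] [HasEqualizers B] [ι.Full] [ι.Faithful] [js.Full] [js.Faithful]
  [PreservesFiniteLimits L] [PreservesFiniteLimits j]

include adjL adjj

theorem isEquivalence (hj : ∀ ⦃Z Z' : A⦄ (f : Z ⟶ Z'), IsIso (j.map (ι.map f)))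
    (hcons : ∀ ⦃X Y : E⦄ (m : X ⟶ Y), IsIso (L.map m) → IsIso (j.map m) → IsIso m) :
    (comparison (L := L) adjj).IsEquivalence := by
  have hq : ∀ X, IsIso (L.map (adjL.unit.app X)) := fun X => by
    rw [show L.map (adjL.unit.app X) = inv (adjL.counit.app (L.obj X)) from
      IsIso.eq_inv_of_inv_hom_id (adjL.left_triangle_components X)]
    infer_instance
  have hη : ∀ X, IsIso (j.map (adjj.unit.app X)) := fun X => by
    rw [show j.map (adjj.unit.app X) = inv (adjj.counit.app (j.obj X)) from
      IsIso.eq_inv_of_inv_hom_id (adjj.left_triangle_components X)]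
    infer_instance
  have hp₁ : ∀ {Z : A} {W : B} (φ : Z ⟶ L.obj (js.obj W)),
      IsIso (L.map (pullback.fst (ι.map φ) (adjL.unit.app (js.obj W)))) := fun {Z W} φ => by
    have := hq (js.obj W)
    exact ((IsPullback.of_hasPullback _ _).map L).isIso_fst_of_isIso
  have hp₂ : ∀ {Z : A} {W : B} (φ : Z ⟶ L.obj (js.obj W)),
      IsIso (j.map (pullback.snd (ι.map φ) (adjL.unit.app (js.obj W)))) := fun {Z W} φ => by
    have := hj φ
    exact ((IsPullback.of_hasPullback _ _).map j).isIso_snd_of_isIso
  have w : ∀ X, adjL.unit.app X ≫ ι.map (L.map (adjj.unit.app X)) =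
      adjj.unit.app X ≫ adjL.unit.app (js.obj (j.obj X)) := fun X =>
    (adjL.unit.naturality _).symm
  let c : ∀ X, X ⟶ pullback (ι.map (L.map (adjj.unit.app X))) (adjL.unit.app (js.obj (j.obj X))) :=
    fun X => pullback.lift (adjL.unit.app X) (adjj.unit.app X) (w X)
  have hc : ∀ X, IsIso (c X) := fun X => by
    apply hcons
    · have := hp₁ (L.map (adjj.unit.app X))
      have : IsIso (L.map (c X) ≫ L.map (pullback.fst (ι.map (L.map (adjj.unit.app X)))
          (adjL.unit.app (js.obj (j.obj X))))) := by
        rw [← L.map_comp, pullback.lift_fst]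
        exact hq X
      exact IsIso.of_isIso_comp_right _ (L.map (pullback.fst (ι.map (L.map (adjj.unit.app X)))
          (adjL.unit.app (js.obj (j.obj X)))))
    · have := hp₂ (L.map (adjj.unit.app X))
      have : IsIso (j.map (c X) ≫ j.map (pullback.snd (ι.map (L.map (adjj.unit.app X)))
          (adjL.unit.app (js.obj (j.obj X))))) := by
        rw [← j.map_comp, pullback.lift_snd]
        exact hη X
      exact IsIso.of_isIso_comp_right _ (j.map (pullback.snd (ι.map (L.map (adjj.unit.app X)))
          (adjL.unit.app (js.obj (j.obj X)))))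
  refine { faithful := ⟨fun {X Y} a b h => ?_⟩, full := ⟨fun {X Y} f => ?_⟩,
           essSurj := ⟨fun T => ?_⟩ }
  · have h₁ : L.map a = L.map b := congrArg CommaMorphism.left h
    have h₂ : j.map a = j.map b := congrArg CommaMorphism.right h
    have he : IsIso (equalizer.ι a b) := by
      apply hcons
      · have := equalizer.ι_of_eq h₁
        rw [← equalizerComparison_comp_π a b L]; infer_instance
      · have := equalizer.ι_of_eq h₂
        rw [← equalizerComparison_comp_π a b j]; infer_instance
    exact (cancel_epi (equalizer.ι a b)).1 (equalizer.condition a b)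
  · let fl : L.obj X ⟶ L.obj Y := f.left
    let fr : j.obj X ⟶ j.obj Y := f.right
    have hw : (adjL.unit.app X ≫ ι.map fl) ≫ ι.map (L.map (adjj.unit.app Y)) =
        (adjj.unit.app X ≫ js.map fr) ≫ adjL.unit.app (js.obj (j.obj Y)) := by
      have hf : fl ≫ L.map (adjj.unit.app Y) = L.map (adjj.unit.app X) ≫ L.map (js.map fr) :=
        f.w
      rw [Category.assoc, ← ι.map_comp, hf, ι.map_comp, reassoc_of% (w X), Category.assoc]
      exact congrArg (adjj.unit.app X ≫ ·) (adjL.unit.naturality (js.map fr)).symm
    have : IsIso (c Y) := hc Y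
    let g : X ⟶ Y := pullback.lift _ _ hw ≫ inv (c Y)
    have hg₁ : g ≫ adjL.unit.app Y = adjL.unit.app X ≫ ι.map fl := by
      conv_lhs => rw [← show c Y ≫ pullback.fst _ _ = adjL.unit.app Y from pullback.lift_fst _ _ _]
      simp only [g, Category.assoc, IsIso.inv_hom_id_assoc, pullback.lift_fst]
    have hg₂ : g ≫ adjj.unit.app Y = adjj.unit.app X ≫ js.map fr := by
      conv_lhs => rw [← show c Y ≫ pullback.snd _ _ = adjj.unit.app Y from pullback.lift_snd _ _ _]
      simp only [g, Category.assoc, IsIso.inv_hom_id_assoc, pullback.lift_snd]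
    refine ⟨g, CommaMorphism.ext ?_ ?_⟩
    · show L.map g = fl
      apply (adjL.homEquiv _ _).injective
      rw [Adjunction.homEquiv_unit, Adjunction.homEquiv_unit, ← hg₁]
      exact (adjL.unit.naturality g).symm
    · show j.map g = fr
      apply (adjj.homEquiv _ _).injective
      rw [Adjunction.homEquiv_unit, Adjunction.homEquiv_unit, ← hg₂]
      exact (adjj.unit.naturality g).symm
  · obtain ⟨Z, W, φ⟩ := T
    let p₁ := pullback.fst (ι.map φ) (adjL.unit.app (js.obj W))
    let p₂ := pullback.snd (ι.map φ) (adjL.unit.app (js.obj W))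
    have : IsIso (L.map p₁) := hp₁ φ
    have : IsIso (j.map p₂) := hp₂ φ
    refine ⟨pullback (ι.map φ) (adjL.unit.app (js.obj W)),
      ⟨Comma.isoMk ((@asIso _ _ _ _ (L.map p₁) (hp₁ φ)) ≪≫ asIso (adjL.counit.app Z))
        ((@asIso _ _ _ _ (j.map p₂) (hp₂ φ)) ≪≫ asIso (adjj.counit.app W)) ?_⟩⟩
    show (L.map p₁ ≫ adjL.counit.app Z) ≫ φ =
      L.map (adjj.unit.app _) ≫ L.map (js.map (j.map p₂ ≫ adjj.counit.app W))
    rw [← L.map_comp, js.map_comp]
    have e : adjj.unit.app _ ≫ js.map (j.map p₂) ≫ js.map (adjj.counit.app W) = p₂ := by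
      erw [← adjj.unit.naturality_assoc, adjj.right_triangle_components]
      exact Category.comp_id _
    rw [e, Category.assoc]
    erw [← adjL.counit.naturality φ]
    dsimp
    rw [← L.map_comp_assoc, pullback.condition, L.map_comp_assoc]
    erw [adjL.left_triangle_components]
    exact Category.comp_id _

end GrothLib.Topos.ArtinGlue
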