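import Groth.Prelude.Def_SGA4a
import Mathlib.CategoryTheory.InducedCategory
import Mathlib.CategoryTheory.Limits.Types.Limits

/-!
# Giraud's theorem

A category with finite limits, disjoint universal small coproducts, effective universal equivalence
relations and a small detecting family is equivalent to a category of sheaves on a small site
(the full subcategory on the detecting family, with the covering families being the sieves that
are jointly "extremal epimorphic").
-/

set_option autoImplicit false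

universe w w' v u

open CategoryTheory CategoryTheory.Limits Opposite

namespace GrothLib.Topos.Giraud

variable {E : Type v} [Category.{u} E]

/-- A family is covering: no proper monomorphism into the target receives all members. -/
def IsCov {ι : Type w} {Y : E} {X : ι → E} (f : ∀ i, X i ⟶ Y) : Prop :=
  ∀ ⦃I : E⦄ (m : I ⟶ Y) [Mono m], (∀ i, ∃ g : X i ⟶ I, g ≫ m = f i) → IsIso m

theorem isIso_of_mono_of_section {I Y : E} (m : I ⟶ Y) [Mono m] (v : Y ⟶ I) (h : v ≫ m = 𝟙 Y) :
    IsIso m :=
  ⟨v, by rw [← cancel_mono m, Category.assoc, h, Category.comp_id, Category.id_comp], h⟩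

theorem IsCov.of_factor {ι : Type w} {κ : Type w'} {Y : E} {X : ι → E} {X' : κ → E}
    {f : ∀ i, X i ⟶ Y} {g : ∀ j, X' j ⟶ Y} (hf : IsCov f)
    (h : ∀ i, ∃ (j : κ) (a : X i ⟶ X' j), a ≫ g j = f i) : IsCov g := by
  intro I m _ hm
  refine hf m fun i => ?_
  obtain ⟨j, a, ha⟩ := h i
  obtain ⟨b, hb⟩ := hm j
  exact ⟨a ≫ b, by rw [Category.assoc, hb, ha]⟩

theorem IsCov.of_colimit {ι : Type w} {X : ι → E} {c : Cofan X} (hc : IsColimit c) :
    IsCov (fun i => c.inj i) := by
  intro I m _ hm
  choose g hg using hm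
  refine isIso_of_mono_of_section m (Cofan.IsColimit.desc hc g) ?_
  refine Cofan.IsColimit.hom_ext hc _ _ fun i => ?_
  simp [hg]

theorem IsCov.of_effectiveEpi {X Y : E} (e : X ⟶ Y) [EffectiveEpi e] :
    IsCov (fun _ : PUnit.{u + 1} => e) := by
  intro I m _ hm
  obtain ⟨g, hg⟩ := hm ⟨⟩
  have hco : ∀ {Z : E} (a b : Z ⟶ X), a ≫ e = b ≫ e → a ≫ g = b ≫ g := by
    intro Z a b h
    rw [← cancel_mono m, Category.assoc, Category.assoc, hg, h]
  refine isIso_of_mono_of_section m (EffectiveEpi.desc e g hco) ?_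
  rw [← cancel_epi e, EffectiveEpi.fac_assoc, hg, Category.comp_id]

variable [HasFiniteLimits E]

theorem IsCov.hom_ext {ι : Type w} {Y Z : E} {X : ι → E} {f : ∀ i, X i ⟶ Y} (hf : IsCov f)
    {a b : Y ⟶ Z} (h : ∀ i, f i ≫ a = f i ≫ b) : a = b := by
  have : IsIso (equalizer.ι a b) :=
    hf (equalizer.ι a b) fun i => ⟨equalizer.lift (f i) (h i), equalizer.lift_ι _ _⟩
  exact (cancel_epi (equalizer.ι a b)).1 (equalizer.condition a b)

theorem IsCov.bind {ι : Type w} {Y : E} {X : ι → E} {f : ∀ i, X i ⟶ Y} (hf : IsCov f)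
    {κ : ι → Type w'} {W : ∀ i, κ i → E} {g : ∀ i j, W i j ⟶ X i} (hg : ∀ i, IsCov (g i)) :
    IsCov (fun p : Σ i, κ i => g p.1 p.2 ≫ f p.1) := by
  intro I m _ hm
  refine hf m fun i => ?_
  have : IsIso (pullback.snd m (f i)) := hg i _ fun j => by
    obtain ⟨a, ha⟩ := hm ⟨i, j⟩
    exact ⟨pullback.lift a (g i j) ha, pullback.lift_snd _ _ _⟩
  exact ⟨inv (pullback.snd m (f i)) ≫ pullback.fst m (f i), by
    rw [Category.assoc, pullback.condition, IsIso.inv_hom_id_assoc]⟩

theorem isEquivRel_kernelPair {A B : E} (f : A ⟶ B) :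
    SGA4.IsEquivRel (pullback.fst f f) (pullback.snd f f) := by
  intro T
  refine ⟨?_, ⟨?_, ?_, ?_⟩⟩
  · intro a b h
    simp only [Prod.mk.injEq] at h
    exact pullback.hom_ext h.1 h.2
  · intro a
    exact ⟨pullback.lift a a rfl, pullback.lift_fst _ _ _, pullback.lift_snd _ _ _⟩
  · rintro a b ⟨r, rfl, rfl⟩
    refine ⟨pullback.lift (r ≫ pullback.snd f f) (r ≫ pullback.fst f f) ?_,
      pullback.lift_fst _ _ _, pullback.lift_snd _ _ _⟩
    simp [pullback.condition]
  · rintro a b c ⟨r, rfl, rfl⟩ ⟨s, hs, rfl⟩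
    refine ⟨pullback.lift (r ≫ pullback.fst f f) (s ≫ pullback.snd f f) ?_,
      pullback.lift_fst _ _ _, pullback.lift_snd _ _ _⟩
    simp only [Category.assoc]
    rw [pullback.condition, ← pullback.condition (f := f), reassoc_of% hs, pullback.condition]

variable (E)

/-- Giraud's exactness axioms. -/
structure Axioms : Prop where
  coprod : SGA4.HasDisjointUniversalCoproducts.{v, u} E
  quot : ∀ (R A : E) (p₁ p₂ : R ⟶ A), SGA4.IsEquivRel p₁ p₂ →
    SGA4.IsEffectiveUniversalEquivRel p₁ p₂

variable {E}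

section

variable (H : Axioms E)
include H

theorem exists_image {A B : E} (f : A ⟶ B) :
    ∃ (I : E) (π : A ⟶ I) (m : I ⟶ B), Mono m ∧ π ≫ m = f ∧
      (∀ (B' : E) (g : B' ⟶ I), EffectiveEpi (pullback.snd π g)) ∧
      ∀ {Z : E} (a : A ⟶ Z), pullback.fst f f ≫ a = pullback.snd f f ≫ a →
        ∃ b : I ⟶ Z, π ≫ b = a := by
  obtain ⟨I, π, hpb, hpo, huniv⟩ := H.quot _ _ _ _ (isEquivRel_kernelPair f)
  refine ⟨I, π, hpo.desc f f pullback.condition, ⟨fun {T} a b hab => ?_⟩, hpo.inl_desc _ _ _, huniv,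
    fun a ha => ⟨hpo.desc a a ha, hpo.inl_desc _ _ _⟩⟩
  have e₁ := huniv T a
  have e₂ := huniv (pullback π a) (pullback.snd π a ≫ b)
  have key : (pullback.snd π (pullback.snd π a ≫ b) ≫ pullback.fst π a) ≫ f =
      pullback.fst π (pullback.snd π a ≫ b) ≫ f := by
    have hf : π ≫ hpo.desc f f pullback.condition = f := hpo.inl_desc _ _ _
    calc _ = (pullback.snd π (pullback.snd π a ≫ b) ≫ pullback.fst π a ≫ π) ≫
          hpo.desc f f pullback.condition := by simp only [Category.assoc, hf]
      _ = (pullback.fst π (pullback.snd π a ≫ b) ≫ π) ≫ hpo.desc f f pullback.condition := by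
          rw [pullback.condition (f := π) (g := a), pullback.condition]
          simp only [Category.assoc, hab]
      _ = _ := by simp only [Category.assoc, hf]
  have h := congrArg (pullback.lift _ _ key ≫ ·) hpb.w
  simp only [pullback.lift_fst_assoc, pullback.lift_snd_assoc, Category.assoc] at h
  rw [pullback.condition (f := π) (g := a), pullback.condition] at h
  exact (cancel_epi (pullback.snd π a)).1 ((cancel_epi (pullback.snd π _)).1 h)

theorem isCov_pullback_inj {ι : Type u} {X : ι → E} {c : Cofan X} (hu : IsUniversalColimit c)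
    {Z : E} (g : Z ⟶ c.pt) : IsCov (fun i => pullback.snd (c.inj i) g) := by
  obtain ⟨d⟩ := hu (Cofan.mk Z fun i => pullback.snd (c.inj i) g)
    (Discrete.natTrans fun i => pullback.fst (c.inj i.as) g) g
    (by ext ⟨i⟩; exact pullback.condition) (.of_discrete _)
    (fun i => (IsPullback.of_hasPullback (c.inj i.as) g).flip)
  exact IsCov.of_colimit d

/-- Stability of covering families under base change. -/
theorem IsCov.pullback {ι : Type u} {Y Z : E} {X : ι → E} {f : ∀ i, X i ⟶ Y} (hf : IsCov f)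
    (g : Z ⟶ Y) : IsCov (fun i => pullback.snd (f i) g) := by
  obtain ⟨c, hc, -, hu⟩ := H.coprod ι X
  obtain ⟨I, π, m, hm, hfac, huniv, -⟩ := exists_image H (Cofan.IsColimit.desc hc f)
  have : IsIso m := hf m fun i => ⟨c.inj i ≫ π, by rw [Category.assoc, hfac]; simp⟩
  have := huniv Z (g ≫ inv m)
  refine ((IsCov.of_effectiveEpi (pullback.snd π (g ≫ inv m))).bind
    fun _ => isCov_pullback_inj H hu (pullback.fst π (g ≫ inv m))).of_factor ?_
  rintro ⟨⟨⟩, i⟩
  refine ⟨i, pullback.lift (pullback.fst _ _)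
    (pullback.snd (c.inj i) _ ≫ pullback.snd π (g ≫ inv m)) ?_, pullback.lift_snd _ _ _⟩
  have h₁ : pullback.fst π (g ≫ inv m) ≫ π ≫ m = pullback.snd π (g ≫ inv m) ≫ g := by
    rw [pullback.condition_assoc]; simp
  rw [hfac] at h₁
  simp only [Category.assoc, ← h₁, ← pullback.condition_assoc]
  simp

end

/-! ### The site of generators -/

section Site

variable {K : Type u} (G : K → E)

/-- The arrows from members of the family into an object. -/
abbrev Gen (X : E) : Type u := Σ k : InducedCategory E G, (inducedFunctor G).obj k ⟶ X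

/-- The family of all arrows from generators covers. -/
def Generates : Prop := ∀ X : E, IsCov (fun p : Gen G X => p.2)

theorem generates_of_isDetecting (hG : (ObjectProperty.ofObj G).IsDetecting) : Generates G := by
  intro X I m _ hm
  refine hG m fun A hA h => ?_
  obtain ⟨k, rfl⟩ := (ObjectProperty.ofObj_iff _ _).1 hA
  obtain ⟨a, ha⟩ := hm ⟨k, h⟩
  exact ⟨a, ha, fun b hb => by rw [← cancel_mono m, hb, ha]⟩

/-- The family underlying a sieve on a generator. -/
abbrev Arr {c : InducedCategory E G} (S : Sieve c) : Type u :=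
  Σ d : InducedCategory E G, {h : d ⟶ c // S h}

/-- A sieve covers if its family of arrows is covering in `E`. -/
def Covers {c : InducedCategory E G} (S : Sieve c) : Prop :=
  IsCov (fun a : Arr G S => (inducedFunctor G).map a.2.1)

variable (H : Axioms E) (hG : Generates G)
include H hG

/-- Covering families pulled back to a generator give covering sieves. -/
theorem covers_of_isCov {ι : Type u} {Y : E} {X : ι → E} {f : ∀ i, X i ⟶ Y} (hf : IsCov f)
    {c : InducedCategory E G} (g : (inducedFunctor G).obj c ⟶ Y) (S : Sieve c)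
    (hS : ∀ (i : ι) (d : InducedCategory E G) (h : d ⟶ c) (a : (inducedFunctor G).obj d ⟶ X i),
      a ≫ f i = (inducedFunctor G).map h ≫ g → S h) : Covers G S := by
  refine ((hf.pullback H g).bind fun i => hG (pullback (f i) g)).of_factor ?_
  rintro ⟨i, d, a⟩
  refine ⟨⟨d, InducedCategory.homMk (a ≫ pullback.snd (f i) g),
    hS i d _ (a ≫ pullback.fst (f i) g) ?_⟩, 𝟙 _, ?_⟩
  · simp [pullback.condition]
  · simp

/-- The topology on the category of generators. -/
def topology : GrothendieckTopology (InducedCategory E G) where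
  sieves c := {S | Covers G S}
  top_mem' c := by
    intro I m _ hm
    obtain ⟨g, hg⟩ := hm ⟨c, 𝟙 c, trivial⟩
    exact isIso_of_mono_of_section m g (by simpa using hg)
  pullback_stable' c c' S g hS := by
    refine covers_of_isCov G H hG hS ((inducedFunctor G).map g) _ ?_
    rintro ⟨e, k, hk⟩ d h a ha
    have : InducedCategory.homMk a ≫ k = h ≫ g := by ext; simpa using ha
    show S (h ≫ g)
    rw [← this]
    exact S.downward_closed hk _
  transitive' c S hS R hR := by
    refine IsCov.of_factor (IsCov.bind hS fun a => hR a.2.2) ?_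
    rintro ⟨⟨d, h, hh⟩, e, k, hk⟩
    exact ⟨⟨e, k ≫ h, hk⟩, 𝟙 _, by simp⟩

/-- Glue maps out of a covering family, compatibility being tested on generators. -/
theorem IsCov.glue {ι : Type u} {Y Z : E} {X : ι → E} {f : ∀ i, X i ⟶ Y} (hf : IsCov f)
    (a : ∀ i, X i ⟶ Z)
    (hcomp : ∀ (i j : ι) (d : InducedCategory E G) (p : (inducedFunctor G).obj d ⟶ X i)
      (q : (inducedFunctor G).obj d ⟶ X j), p ≫ f i = q ≫ f j → p ≫ a i = q ≫ a j) :
    ∃ b : Y ⟶ Z, ∀ i, f i ≫ b = a i := by
  obtain ⟨c, hc, -, hu⟩ := H.coprod ι X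
  obtain ⟨I, π, m, hm, hfac, -, hdesc⟩ := exists_image H (Cofan.IsColimit.desc hc f)
  have : IsIso m := hf m fun i => ⟨c.inj i ≫ π, by rw [Category.assoc, hfac]; simp⟩
  have key : pullback.fst (Cofan.IsColimit.desc hc f) (Cofan.IsColimit.desc hc f) ≫
      Cofan.IsColimit.desc hc a =
      pullback.snd (Cofan.IsColimit.desc hc f) (Cofan.IsColimit.desc hc f) ≫
        Cofan.IsColimit.desc hc a := by
    let P₁ := pullback.fst (Cofan.IsColimit.desc hc f) (Cofan.IsColimit.desc hc f)
    let P₂ := pullback.snd (Cofan.IsColimit.desc hc f) (Cofan.IsColimit.desc hc f)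
    refine (isCov_pullback_inj H hu P₁).hom_ext fun i => ?_
    refine (isCov_pullback_inj H hu (pullback.snd (c.inj i) P₁ ≫ P₂)).hom_ext fun j => ?_
    refine (hG _).hom_ext fun ⟨d, t⟩ => ?_
    let q₁ := t ≫ pullback.snd (c.inj j) (pullback.snd (c.inj i) P₁ ≫ P₂)
    have e₁ : q₁ ≫ pullback.snd (c.inj i) P₁ ≫ P₁ = (q₁ ≫ pullback.fst (c.inj i) P₁) ≫ c.inj i := by
      simp only [q₁, Category.assoc, pullback.condition]
    have e₂ : q₁ ≫ pullback.snd (c.inj i) P₁ ≫ P₂ =
        (t ≫ pullback.fst (c.inj j) (pullback.snd (c.inj i) P₁ ≫ P₂)) ≫ c.inj j := by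
      simp only [q₁, Category.assoc, pullback.condition]
    have e₃ := congrArg (fun z => q₁ ≫ pullback.snd (c.inj i) P₁ ≫ z)
      (pullback.condition (f := Cofan.IsColimit.desc hc f) (g := Cofan.IsColimit.desc hc f))
    change q₁ ≫ pullback.snd (c.inj i) P₁ ≫ P₁ ≫ _ = q₁ ≫ pullback.snd (c.inj i) P₁ ≫ P₂ ≫ _ at e₃
    change t ≫ _ ≫ _ ≫ P₁ ≫ _ = t ≫ _ ≫ _ ≫ P₂ ≫ _
    simp only [q₁, Category.assoc] at e₁ e₂ e₃
    rw [reassoc_of% e₁, reassoc_of% e₂] at e₃
    rw [reassoc_of% e₁, reassoc_of% e₂]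
    simp only [Cofan.IsColimit.fac] at e₃ ⊢
    simp only [← Category.assoc] at e₃ ⊢
    exact hcomp i j d _ _ e₃
  obtain ⟨b, hb⟩ := hdesc _ key
  refine ⟨inv m ≫ b, fun i => ?_⟩
  have : f i ≫ inv m = c.inj i ≫ π := by
    rw [IsIso.comp_inv_eq, Category.assoc, hfac]; simp
  rw [reassoc_of% this, hb]; simp

omit H hG in
/-- The restricted Yoneda functor. -/
def restrictedYoneda : E ⥤ ((InducedCategory E G)ᵒᵖ ⥤ Type u) :=
  yoneda ⋙ (Functor.whiskeringLeft _ _ (Type u)).obj (inducedFunctor G).op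

theorem isSheaf_restrictedYoneda (Z : E) :
    Presieve.IsSheaf (topology G H hG) ((restrictedYoneda G).obj Z) := by
  intro c S hS x hx
  obtain ⟨b, hb⟩ := IsCov.glue G H hG (hS : Covers G S) (fun a => x a.2.1 a.2.2) (by
    rintro ⟨i, hi, hi'⟩ ⟨j, hj, hj'⟩ d p q hpq
    exact hx (InducedCategory.homMk p) (InducedCategory.homMk q) hi' hj'
      (InducedCategory.hom_ext hpq))
  refine ⟨b, fun d h hh => hb ⟨d, h, hh⟩, fun b' hb' => ?_⟩
  exact (hS : Covers G S).hom_ext fun a => (hb' a.2.1 a.2.2).trans (hb a).symm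

/-- The comparison functor to sheaves on the site of generators. -/
def toSheaves : E ⥤ Sheaf (topology G H hG) (Type u) :=
  ObjectProperty.lift _ (restrictedYoneda G) fun Z =>
    (isSheaf_iff_isSheaf_of_type _ _).2 (isSheaf_restrictedYoneda G H hG Z)

omit H in
theorem restrictedYoneda_faithful : (restrictedYoneda G).Faithful where
  map_injective {X Y} a b h := (hG X).hom_ext fun p =>
    ConcreteCategory.congr_hom (NatTrans.congr_app h (op p.1)) p.2

theorem restrictedYoneda_full : (restrictedYoneda G).Full where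
  map_surjective {X Y} α := by
    obtain ⟨b, hb⟩ := IsCov.glue G H hG (hG X) (fun p : Gen G X => α.app (op p.1) p.2) (by
      rintro ⟨i, a⟩ ⟨j, a'⟩ d p q hpq
      have h₁ := ConcreteCategory.congr_hom (α.naturality (InducedCategory.homMk (F := G) p).op) a
      have h₂ := ConcreteCategory.congr_hom (α.naturality (InducedCategory.homMk (F := G) q).op) a'
      change α.app (op d) (p ≫ a) = p ≫ α.app (op i) a at h₁
      change α.app (op d) (q ≫ a') = q ≫ α.app (op j) a' at h₂
      change p ≫ a = q ≫ a' at hpq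
      rw [hpq] at h₁
      exact h₁.symm.trans h₂)
    refine ⟨b, ?_⟩
    ext d g
    exact hb ⟨d.unop, g⟩

omit hG in
theorem exists_pullback_initial {ι : Type u} {X : ι → E} {c : Cofan X} (hc : IsColimit c)
    (hdisj : CoproductDisjoint X) {i j : ι} (hij : i ≠ j) {T : E} (a : T ⟶ X i) (b : T ⟶ X j)
    (h : a ≫ c.inj i = b ≫ c.inj j) : IsCov (fun e : PEmpty.{u + 1} => (e.elim : (e.elim : E) ⟶ T)) := by
  obtain ⟨hI⟩ := hdisj.nonempty_isInitial_of_ne hc hij _
    (IsPullback.of_hasPullback (c.inj i) (c.inj j)).isLimit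
  let I := (IsPullback.of_hasPullback (c.inj i) (c.inj j)).cone.pt
  have hI' : IsCov (fun e : PEmpty.{u + 1} => (e.elim : (e.elim : E) ⟶ I)) := fun J m _ _ =>
    isIso_of_mono_of_section m (hI.to J) (hI.hom_ext _ _)
  exact (hI'.pullback H (pullback.lift a b h)).of_factor (fun e => e.elim)

section EssSurj

variable (F : (InducedCategory E G)ᵒᵖ ⥤ Type u) (hF : Presieve.IsSheaf (topology G H hG) F)
include hF

/-- Effective presentation of a sheaf by generators. -/
theorem exists_iso : ∃ B : E, Nonempty (F ≅ (restrictedYoneda G).obj B) := by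
  obtain ⟨c₀, hc₀, hdisj, hu⟩ := H.coprod (Σ k : InducedCategory E G, F.obj (op k))
    (fun p => (inducedFunctor G).obj p.1)
  -- two lifts into components give the same section
  have W : ∀ {d : InducedCategory E G} {p q : Σ k : InducedCategory E G, F.obj (op k)}
      (a : d ⟶ p.1) (b : d ⟶ q.1),
      (inducedFunctor G).map a ≫ c₀.inj p = (inducedFunctor G).map b ≫ c₀.inj q →
        F.map a.op p.2 = F.map b.op q.2 := by
    intro d p q a b h
    by_cases hpq : p = q
    · subst hpq
      have := hdisj.mono_inj hc₀ p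
      rw [show a = b from InducedCategory.hom_ext ((cancel_mono _).1 h)]
    · have hbot : Covers G (⊥ : Sieve d) :=
        (exists_pullback_initial H hc₀ hdisj hpq _ _ h).of_factor (fun e => e.elim)
      exact (hF _ hbot).isSeparatedFor.ext fun _ _ hf => hf.elim
  -- the value of a generalized point of the coproduct
  let Val : ∀ (d : InducedCategory E G), ((inducedFunctor G).obj d ⟶ c₀.pt) → F.obj (op d) → Prop :=
    fun d g s => ∀ (e : InducedCategory E G) (h : e ⟶ d) (p : Σ k : InducedCategory E G, F.obj (op k))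
      (a : e ⟶ p.1), (inducedFunctor G).map h ≫ g = (inducedFunctor G).map a ≫ c₀.inj p →
        F.map h.op s = F.map a.op p.2
  let lifts : ∀ {d : InducedCategory E G}, ((inducedFunctor G).obj d ⟶ c₀.pt) → Sieve d :=
    fun {d} g =>
      { arrows := fun e h => ∃ (p : Σ k : InducedCategory E G, F.obj (op k)) (a : e ⟶ p.1),
          (inducedFunctor G).map h ≫ g = (inducedFunctor G).map a ≫ c₀.inj p
        downward_closed := by
          rintro e e' h ⟨p, a, ha⟩ k
          exact ⟨p, k ≫ a, by simp only [Functor.map_comp, Category.assoc, ha]⟩ }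
  have lifts_mem : ∀ {d : InducedCategory E G} (g : (inducedFunctor G).obj d ⟶ c₀.pt),
      Covers G (lifts g) := fun {d} g => by
    refine covers_of_isCov G H hG (IsCov.of_colimit hc₀) g _ ?_
    intro p e h a ha
    exact ⟨p, InducedCategory.homMk a, by simpa using ha.symm⟩
  have val_unique : ∀ {d g} {s t : F.obj (op d)}, Val d g s → Val d g t → s = t := by
    intro d g s t hs ht
    refine (hF _ (lifts_mem g)).isSeparatedFor.ext fun e h hh => ?_
    obtain ⟨p, a, ha⟩ := hh
    rw [hs e h p a ha, ht e h p a ha]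
  have val_exists : ∀ (d : InducedCategory E G) (g : (inducedFunctor G).obj d ⟶ c₀.pt),
      ∃ s, Val d g s := by
    intro d g
    let x : Presieve.FamilyOfElements F (lifts g).arrows := fun e h hh =>
      F.map hh.choose_spec.choose.op hh.choose.2
    have hx : x.Compatible := by
      intro e₁ e₂ e k₁ k₂ h₁ h₂ hh₁ hh₂ heq
      simp only [x, ← Functor.map_comp_apply, ← op_comp]
      refine W _ _ ?_
      simp only [Functor.map_comp, Category.assoc, ← hh₁.choose_spec.choose_spec,
        ← hh₂.choose_spec.choose_spec]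
      rw [← Functor.map_comp_assoc, heq, Functor.map_comp_assoc]
    refine ⟨(hF _ (lifts_mem g)).amalgamate x hx, fun e h p a ha => ?_⟩
    have hh : lifts g h := ⟨p, a, ha⟩
    rw [(hF _ (lifts_mem g)).valid_glue hx h hh]
    exact W _ _ (hh.choose_spec.choose_spec.symm.trans ha)
  choose τ hτ using val_exists
  have τ_comp : ∀ {d d' : InducedCategory E G} (k : d' ⟶ d) (g : (inducedFunctor G).obj d ⟶ c₀.pt),
      τ d' ((inducedFunctor G).map k ≫ g) = F.map k.op (τ d g) := by
    intro d d' k g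
    refine val_unique (hτ _ _) fun e h p a ha => ?_
    rw [← Functor.map_comp_apply, ← op_comp]
    exact hτ d g e (h ≫ k) p a (by rw [Functor.map_comp, Category.assoc, ha])
  have τ_inj : ∀ (p : Σ k : InducedCategory E G, F.obj (op k)) {d : InducedCategory E G}
      (a : d ⟶ p.1), τ d ((inducedFunctor G).map a ≫ c₀.inj p) = F.map a.op p.2 := by
    intro p d a
    refine val_unique (hτ _ _) fun e h q b hb => ?_
    rw [← Functor.map_comp_apply, ← op_comp]
    exact W _ _ (by rw [Functor.map_comp, Category.assoc, hb])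
  -- the equivalence relation
  let Q := Σ d : InducedCategory E G,
    {ab : ((inducedFunctor G).obj d ⟶ c₀.pt) × ((inducedFunctor G).obj d ⟶ c₀.pt) //
      τ d ab.1 = τ d ab.2}
  obtain ⟨cQ, hcQ, -, -⟩ := H.coprod Q (fun q => (inducedFunctor G).obj q.1)
  obtain ⟨R, ρ, m, hm, hfac, hρ, -⟩ := exists_image H
    (Cofan.IsColimit.desc hcQ (fun q : Q => prod.lift q.2.1.1 q.2.1.2))
  have hfac' : ∀ q : Q, (cQ.inj q ≫ ρ) ≫ m = prod.lift q.2.1.1 q.2.1.2 := fun q => by
    rw [Category.assoc, hfac]; simp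
  have covR : IsCov (fun q : Q => cQ.inj q ≫ ρ) := by
    have := hρ R (𝟙 R)
    have h₁ : IsCov (fun _ : PUnit.{u + 1} => ρ) :=
      (IsCov.of_effectiveEpi (pullback.snd ρ (𝟙 R))).of_factor fun _ =>
        ⟨⟨⟩, pullback.fst ρ (𝟙 R), by rw [pullback.condition, Category.comp_id]⟩
    exact (h₁.bind fun _ => IsCov.of_colimit hcQ).of_factor fun q => ⟨q.2, 𝟙 _, by simp⟩
  have mem_iff : ∀ {d : InducedCategory E G} (a b : (inducedFunctor G).obj d ⟶ c₀.pt),
      (∃ r : _ ⟶ R, r ≫ m = prod.lift a b) ↔ τ d a = τ d b := by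
    intro d a b
    refine ⟨fun ⟨r, hr⟩ => ?_, fun h => ⟨_, hfac' ⟨d, (a, b), h⟩⟩⟩
    let S : Sieve d :=
      { arrows := fun e h => F.map h.op (τ d a) = F.map h.op (τ d b)
        downward_closed := fun {e e' h} hh k => by
          simp only [op_comp, Functor.map_comp_apply, hh] }
    have hS : Covers G S := by
      refine covers_of_isCov G H hG covR r S fun q e h k hk => ?_
      show F.map h.op (τ d a) = F.map h.op (τ d b)
      have := congrArg (· ≫ m) hk
      simp only [Category.assoc, hr] at this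
      rw [← Category.assoc (cQ.inj q), hfac' q, prod.comp_lift, prod.comp_lift] at this
      have e1 := congrArg (· ≫ prod.fst) this
      have e2 := congrArg (· ≫ prod.snd) this
      simp only [prod.lift_fst, prod.lift_snd] at e1 e2
      obtain ⟨q₁, ⟨q₂, q₃⟩, hq⟩ := q
      rw [← τ_comp, ← τ_comp, ← e1, ← e2]
      rw [show k = (inducedFunctor G).map (InducedCategory.homMk k : e ⟶ q₁) by simp,
        τ_comp, τ_comp, hq]
    exact (hF _ hS).isSeparatedFor.ext fun e h hh => hh
  have mem_iff' : ∀ {T : E} (a b : T ⟶ c₀.pt), (∃ r : T ⟶ R, r ≫ m = prod.lift a b) ↔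
      ∀ (d : InducedCategory E G) (x : (inducedFunctor G).obj d ⟶ T),
        τ d (x ≫ a) = τ d (x ≫ b) := by
    intro T a b
    refine ⟨fun ⟨r, hr⟩ d x => (mem_iff _ _).1 ⟨x ≫ r, by rw [Category.assoc, hr, prod.comp_lift]⟩,
      fun h => ?_⟩
    have : IsIso (pullback.snd m (prod.lift a b)) := hG T _ fun ⟨d, x⟩ => by
      obtain ⟨r, hr⟩ := (mem_iff _ _).2 (h d x)
      exact ⟨pullback.lift r x (by rw [hr, prod.comp_lift]), pullback.lift_snd _ _ _⟩
    exact ⟨inv (pullback.snd m (prod.lift a b)) ≫ pullback.fst _ _, by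
      rw [Category.assoc, pullback.condition, IsIso.inv_hom_id_assoc]⟩
  have hrel : SGA4.IsEquivRel (m ≫ prod.fst) (m ≫ prod.snd) := by
    intro T
    have key : ∀ a b : T ⟶ c₀.pt,
        (∃ f : T ⟶ R, f ≫ m ≫ prod.fst = a ∧ f ≫ m ≫ prod.snd = b) ↔
          ∀ (d : InducedCategory E G) (x : (inducedFunctor G).obj d ⟶ T),
            τ d (x ≫ a) = τ d (x ≫ b) := by
      intro a b
      rw [← mem_iff']
      refine exists_congr fun f => ⟨fun h => ?_, fun h => ?_⟩
      · apply Limits.prod.hom_ext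
        · rw [prod.lift_fst, Category.assoc, h.1]
        · rw [prod.lift_snd, Category.assoc, h.2]
      · rw [← Category.assoc, ← Category.assoc, h]
        exact ⟨prod.lift_fst _ _, prod.lift_snd _ _⟩
    refine ⟨fun f g h => ?_, ?_⟩
    · simp only [Prod.mk.injEq] at h
      rw [← cancel_mono m]
      apply Limits.prod.hom_ext <;> simp [h]
    · simp only [key]
      exact ⟨fun a d x => rfl, fun h d x => (h d x).symm, fun h h' d x => (h d x).trans (h' d x)⟩
  obtain ⟨B, π, hpb, -, huniv⟩ := H.quot _ _ _ _ hrel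
  have hπcov : IsCov (fun p : Σ k : InducedCategory E G, F.obj (op k) => c₀.inj p ≫ π) := by
    have := huniv B (𝟙 B)
    have h₁ : IsCov (fun _ : PUnit.{u + 1} => π) :=
      (IsCov.of_effectiveEpi (pullback.snd π (𝟙 B))).of_factor fun _ =>
        ⟨⟨⟩, pullback.fst π (𝟙 B), by rw [pullback.condition, Category.comp_id]⟩
    exact (h₁.bind fun _ => IsCov.of_colimit hc₀).of_factor fun q => ⟨q.2, 𝟙 _, by simp⟩
  have π_eq : ∀ {d : InducedCategory E G} (a b : (inducedFunctor G).obj d ⟶ c₀.pt),
      a ≫ π = b ≫ π ↔ τ d a = τ d b := by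
    intro d a b
    rw [← mem_iff]
    refine ⟨fun h => ⟨hpb.lift a b h, ?_⟩, fun ⟨r, hr⟩ => ?_⟩
    · apply Limits.prod.hom_ext
      · rw [prod.lift_fst, Category.assoc, hpb.lift_fst]
      · rw [prod.lift_snd, Category.assoc, hpb.lift_snd]
    have h := congrArg (r ≫ ·) hpb.w
    simp only [← Category.assoc, hr, prod.lift_fst, prod.lift_snd] at h
    simpa using h
  refine ⟨B, ⟨?_⟩⟩
  have inj_iff : ∀ {k : InducedCategory E G} (s t : F.obj (op k)),
      c₀.inj ⟨k, s⟩ ≫ π = c₀.inj ⟨k, t⟩ ≫ π → s = t := by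
    intro k s t h
    have := (π_eq _ _).1 h
    have e1 := τ_inj ⟨k, s⟩ (𝟙 k)
    have e2 := τ_inj ⟨k, t⟩ (𝟙 k)
    simp only [CategoryTheory.Functor.map_id, Category.id_comp, op_id,
      types_id_apply, Functor.map_id_apply] at e1 e2
    exact e1.symm.trans (this.trans e2)
  have nat : ∀ {k k' : InducedCategory E G} (f : k' ⟶ k) (s : F.obj (op k)),
      c₀.inj ⟨k', F.map f.op s⟩ ≫ π = (inducedFunctor G).map f ≫ c₀.inj ⟨k, s⟩ ≫ π := by
    intro k k' f s
    rw [← Category.assoc, π_eq, τ_inj ⟨k, s⟩ f]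
    have e := τ_inj ⟨k', F.map f.op s⟩ (𝟙 k')
    simpa using e
  let σ : F ⟶ (restrictedYoneda G).obj B :=
    { app := fun k => ↾fun s => c₀.inj ⟨k.unop, s⟩ ≫ π
      naturality := fun k k' f => by
        ext s
        exact nat f.unop s }
  have : ∀ k, IsIso (σ.app k) := by
    intro k
    rw [isIso_iff_bijective]
    refine ⟨fun s t h => inj_iff s t h, fun x => ?_⟩
    let S : Sieve k.unop :=
      { arrows := fun e h => ∃ s : F.obj (op e), c₀.inj ⟨e, s⟩ ≫ π = (inducedFunctor G).map h ≫ x
        downward_closed := by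
          rintro e e' h ⟨s, hs⟩ l
          exact ⟨F.map l.op s, by rw [nat, hs, Functor.map_comp, Category.assoc]⟩ }
    have hS : Covers G S := by
      refine covers_of_isCov G H hG hπcov x S fun p e h a ha => ?_
      refine ⟨F.map (InducedCategory.homMk a : e ⟶ p.1).op p.2, ?_⟩
      rw [nat]
      simpa using ha
    let y : Presieve.FamilyOfElements F S.arrows := fun e h hh => hh.choose
    have hy : y.Compatible := by
      intro e₁ e₂ e l₁ l₂ h₁ h₂ hh₁ hh₂ heq
      refine inj_iff _ _ ?_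
      rw [nat, nat, hh₁.choose_spec, hh₂.choose_spec, ← Functor.map_comp_assoc, heq,
        Functor.map_comp_assoc]
    refine ⟨(hF _ hS).amalgamate y hy, IsCov.hom_ext hS fun a => ?_⟩
    show _ ≫ c₀.inj ⟨k.unop, _⟩ ≫ π = _
    rw [← nat, (hF _ hS).valid_glue hy _ a.2.2]
    exact a.2.2.choose_spec
  have : IsIso σ := NatIso.isIso_of_isIso_app σ
  exact asIso σ

end EssSurj

theorem toSheaves_isEquivalence : (toSheaves G H hG).IsEquivalence where
  faithful := by
    have := restrictedYoneda_faithful G hG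
    exact inferInstanceAs (ObjectProperty.lift _ (restrictedYoneda G) _).Faithful
  full := by
    have := restrictedYoneda_full G H hG
    exact inferInstanceAs (ObjectProperty.lift _ (restrictedYoneda G) _).Full
  essSurj :=
    ⟨fun F => by
      obtain ⟨B, ⟨e⟩⟩ := exists_iso G H hG F.obj ((isSheaf_iff_isSheaf_of_type _ _).1 F.property)
      exact ⟨B, ⟨ObjectProperty.isoMk _ e.symm⟩⟩⟩

end Site

variable (E) in
/-- Giraud's theorem. -/
theorem isTopos_of_axioms (H : Axioms E)
    (hd : ∃ P : ObjectProperty E, ObjectProperty.Small.{u} P ∧ P.IsDetecting) :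
    SGA4.IsTopos.{v, u} E := by
  obtain ⟨P, hP, hdet⟩ := hd
  let G : Shrink.{u} (Subtype P) → E := fun k => ((equivShrink (Subtype P)).symm k).1
  have hG : Generates G := by
    refine generates_of_isDetecting G fun A B f h => hdet f fun X hX => h X ?_
    exact (ObjectProperty.ofObj_iff _ _).2 ⟨equivShrink _ ⟨X, hX⟩, by simp [G]⟩
  have := toSheaves_isEquivalence G H hG
  exact ⟨InducedCategory E G, inferInstance, topology G H hG,
    ⟨(toSheaves G H hG).asEquivalence⟩⟩

end GrothLib.Topos.Giraud
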