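import Groth.Agent.Lib.Topos.Sheaf
import Groth.Agent.Lib.Topos.Giraud
import Mathlib.CategoryTheory.Limits.Comma
import Mathlib.CategoryTheory.Presentable.Presheaf
import Mathlib.CategoryTheory.Presentable.Type
import Mathlib.CategoryTheory.Presentable.LocallyPresentable

/-!
# The glued category of two sheaf topoi along an accessible left exact functor is a topos
-/

set_option autoImplicit false

universe u v₁ u₁ v₂ u₂

open CategoryTheory CategoryTheory.Limits Opposite

namespace GrothLib.Topos.Glue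

section General

variable {E : Type u₁} [Category.{v₁} E] {E' : Type u₂} [Category.{v₁} E']

/-- A functor preserving finite limits preserves equivalence relations. -/
theorem isEquivRel_map [HasFiniteLimits E] [HasFiniteLimits E'] (F : E ⥤ E')
    [PreservesFiniteLimits F] {R A : E} {p₁ p₂ : R ⟶ A} (h : SGA4.IsEquivRel p₁ p₂) :
    SGA4.IsEquivRel (F.map p₁) (F.map p₂) := by
  have hmono : Mono (prod.lift p₁ p₂) := ⟨fun {T} a b hab => (h T).1 <| Prod.ext
    (by simpa only [Category.assoc, prod.lift_fst] using congrArg (· ≫ prod.fst) hab)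
    (by simpa only [Category.assoc, prod.lift_snd] using congrArg (· ≫ prod.snd) hab)⟩
  have : Mono (prod.lift (F.map p₁) (F.map p₂)) := by
    rw [show prod.lift (F.map p₁) (F.map p₂) = F.map (prod.lift p₁ p₂) ≫ prodComparison F A A by
      apply Limits.prod.hom_ext
      · rw [Category.assoc, prodComparison_fst, prod.lift_fst, ← F.map_comp, prod.lift_fst]
      · rw [Category.assoc, prodComparison_snd, prod.lift_snd, ← F.map_comp, prod.lift_snd]]
    infer_instance
  obtain ⟨r, hr₁, hr₂⟩ := (h A).2.refl (𝟙 A)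
  obtain ⟨s, hs₁, hs₂⟩ := (h R).2.symm ⟨𝟙 R, Category.id_comp p₁, Category.id_comp p₂⟩
  obtain ⟨t, ht₁, ht₂⟩ := (h (pullback p₂ p₁)).2.trans
    ⟨pullback.fst p₂ p₁, rfl, rfl⟩ ⟨pullback.snd p₂ p₁, (pullback.condition).symm, rfl⟩
  intro T
  refine ⟨fun a b hab => ?_, ⟨fun a => ?_, ?_, ?_⟩⟩
  · simp only [Prod.mk.injEq] at hab
    rw [← cancel_mono (prod.lift (F.map p₁) (F.map p₂))]
    apply Limits.prod.hom_ext <;> simp [hab]
  · exact ⟨a ≫ F.map r, by rw [Category.assoc, ← F.map_comp, hr₁, F.map_id, Category.comp_id],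
      by rw [Category.assoc, ← F.map_comp, hr₂, F.map_id, Category.comp_id]⟩
  · rintro a b ⟨f, rfl, rfl⟩
    exact ⟨f ≫ F.map s, by rw [Category.assoc, ← F.map_comp, hs₁],
      by rw [Category.assoc, ← F.map_comp, hs₂]⟩
  · rintro a b c ⟨f, rfl, rfl⟩ ⟨g, hg, rfl⟩
    have sq := (IsPullback.of_hasPullback p₂ p₁).map F
    refine ⟨sq.lift f g hg.symm ≫ F.map t, ?_, ?_⟩
    · rw [Category.assoc, ← F.map_comp, ht₁, F.map_comp, sq.lift_fst_assoc]
    · rw [Category.assoc, ← F.map_comp, ht₂, F.map_comp, sq.lift_snd_assoc]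

end General

section SheafTopos

variable {C : Type u} [SmallCategory C] {J : GrothendieckTopology C}

/-- Every coproduct of sheaves is universal. -/
theorem isUniversalColimit_discrete {ι : Type u} {F : Discrete ι ⥤ Sheaf J (Type u)} (c : Cocone F)
    (hc : IsColimit c) : IsUniversalColimit c := by
  let e : Discrete.functor (fun i => F.obj ⟨i⟩) ≅ F := Discrete.natIso fun _ => Iso.refl _
  obtain ⟨c', hc', -, hu⟩ := hasDisjointUniversalCoproducts (J := J) ι (fun i => F.obj ⟨i⟩)
  exact (hu.precompose_isIso e.inv).of_iso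
    (((IsColimit.precomposeHomEquiv e.symm c').symm hc').uniqueUpToIso hc)

theorem coproductDisjoint {ι : Type u} (X : ι → Sheaf J (Type u)) : CoproductDisjoint X := by
  obtain ⟨c', hc', h, -⟩ := hasDisjointUniversalCoproducts (J := J) ι X
  exact h

/-- An epimorphism of sheaves is the coequalizer of its kernel pair. -/
theorem isColimit_kernelPair {A X : Sheaf J (Type u)} (e : A ⟶ X) [Epi e] :
    Nonempty (IsColimit (Cofork.ofπ e pullback.condition)) := by
  have := effectiveEpi_of_epi e
  exact ⟨Cofork.IsColimit.mk _ (fun s => EffectiveEpi.desc e s.π fun g₁ g₂ hg => by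
        conv_lhs => rw [← pullback.lift_fst g₁ g₂ hg]
        conv_rhs => rw [← pullback.lift_snd g₁ g₂ hg]
        simp only [Category.assoc, s.condition])
      (fun s => EffectiveEpi.fac e _ _)
      (fun s m hm => EffectiveEpi.uniq e _ _ m hm)⟩

/-- The coequalizer of an equivalence relation of sheaves has it as kernel pair. -/
theorem isPullback_of_isColimit {R A B : Sheaf J (Type u)} {p₁ p₂ : R ⟶ A} (π : A ⟶ B)
    (w : p₁ ≫ π = p₂ ≫ π) (h : SGA4.IsEquivRel p₁ p₂) (hc : IsColimit (Cofork.ofπ π w)) :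
    IsPullback p₁ p₂ π π := by
  obtain ⟨B₀, π₀, hpb, hpo, -⟩ := isEffectiveUniversalEquivRel p₁ p₂ h
  obtain ⟨r, hr₁, hr₂⟩ := (h A).2.refl (𝟙 A)
  let l := hpo.desc π π w
  let l' := Cofork.IsColimit.desc hc π₀ hpo.w
  have h1 : π₀ ≫ l = π := hpo.inl_desc _ _ _
  have h2 : π ≫ l' = π₀ := Cofork.IsColimit.π_desc' hc _ _
  have : IsIso l := by
    refine ⟨l', hpo.hom_ext ?_ ?_, Cofork.IsColimit.hom_ext hc ?_⟩
    · rw [← Category.assoc, h1, h2, Category.comp_id]
    · rw [← Category.assoc, h1, h2, Category.comp_id]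
    · show π ≫ l' ≫ l = π ≫ 𝟙 _
      rw [← Category.assoc, h2, h1, Category.comp_id]
  exact hpb.of_iso (Iso.refl _) (Iso.refl _) (Iso.refl _) (asIso l) (by simp) (by simp)
    (by simp [h1]) (by simp [h1])

end SheafTopos

variable {C D : Type u} [SmallCategory C] [SmallCategory D] {J : GrothendieckTopology C}
  {K : GrothendieckTopology D} (ρ : Sheaf J (Type u) ⥤ Sheaf K (Type u)) [PreservesFiniteLimits ρ]

/-- The glued category. -/
abbrev Glued := Comma (𝟭 (Sheaf K (Type u))) ρ

instance : PreservesFiniteLimits (Comma.fst (𝟭 (Sheaf K (Type u))) ρ) :=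
  ⟨fun I _ _ => ⟨fun {F} => preservesLimit_of_preserves_limit_cone
    (Comma.coneOfPreservesIsLimit F (limit.isLimit _) (limit.isLimit _)) (limit.isLimit _)⟩⟩

instance : PreservesFiniteLimits (Comma.snd (𝟭 (Sheaf K (Type u))) ρ) :=
  ⟨fun I _ _ => ⟨fun {F} => preservesLimit_of_preserves_limit_cone
    (Comma.coneOfPreservesIsLimit F (limit.isLimit _) (limit.isLimit _)) (limit.isLimit _)⟩⟩

omit [PreservesFiniteLimits ρ] in
theorem isIso_of_components {X Y : Glued ρ} (f : X ⟶ Y) [IsIso f.left] [IsIso f.right] :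
    IsIso f :=
  (Comma.isoMk (asIso f.left) (asIso f.right) f.w).isIso_hom

theorem mono_of_components {X Y : Glued ρ} (f : X ⟶ Y) [Mono f.left] [Mono f.right] : Mono f :=
  ⟨fun a b h => by
    refine CommaMorphism.ext ?_ ?_
    · rw [← cancel_mono f.left]; exact congrArg CommaMorphism.left h
    · rw [← cancel_mono f.right]; exact congrArg CommaMorphism.right h⟩

theorem hasDisjointUniversalCoproducts_glued :
    SGA4.HasDisjointUniversalCoproducts.{u + 1, u} (Glued ρ) := by
  intro ι X
  let F₁ := Comma.fst (𝟭 (Sheaf K (Type u))) ρ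
  let F₂ := Comma.snd (𝟭 (Sheaf K (Type u))) ρ
  let c : Cofan X := colimit.cocone (Discrete.functor X)
  have hc : IsColimit c := colimit.isColimit _
  have h₁ : IsColimit (F₁.mapCocone c) := isColimitOfPreserves F₁ hc
  have h₂ : IsColimit (F₂.mapCocone c) := isColimitOfPreserves F₂ hc
  refine ⟨c, hc, ?_, ?_⟩
  · let e₁ : Discrete.functor (fun i => F₁.obj (X i)) ≅ Discrete.functor X ⋙ F₁ :=
      Discrete.natIso fun _ => Iso.refl _
    let e₂ : Discrete.functor (fun i => F₂.obj (X i)) ≅ Discrete.functor X ⋙ F₂ :=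
      Discrete.natIso fun _ => Iso.refl _
    let c₁ : Cofan fun i => F₁.obj (X i) := (Cocone.precompose e₁.hom).obj (F₁.mapCocone c)
    let c₂ : Cofan fun i => F₂.obj (X i) := (Cocone.precompose e₂.hom).obj (F₂.mapCocone c)
    have hc₁ : IsColimit c₁ := (IsColimit.precomposeHomEquiv _ _).symm h₁
    have hc₂ : IsColimit c₂ := (IsColimit.precomposeHomEquiv _ _).symm h₂
    have hd₁ := coproductDisjoint (fun i => F₁.obj (X i))
    have hd₂ := coproductDisjoint (fun i => F₂.obj (X i))
    have e₁' : ∀ i, c₁.inj i = (c.inj i).left := fun i => Category.id_comp _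
    have e₂' : ∀ i, c₂.inj i = (c.inj i).right := fun i => Category.id_comp _
    have : ∀ i, Mono (Cofan.inj c i) := fun i => by
      have : Mono (c.inj i).left := e₁' i ▸ Mono.of_coproductDisjoint hc₁ i
      have : Mono (c.inj i).right := e₂' i ▸ Mono.of_coproductDisjoint hc₂ i
      exact mono_of_components ρ _
    refine CoproductDisjoint.of_cofan hc
      (fun {i j} _ => pullback.cone (Cofan.inj c i) (Cofan.inj c j))
      (fun _ => pullback.isLimit _ _) fun {i j} hij => ?_
    have sq := IsPullback.of_hasPullback (Cofan.inj c i) (Cofan.inj c j)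
    have sq₁ : IsPullback (F₁.map (pullback.fst (Cofan.inj c i) (Cofan.inj c j)))
        (F₁.map (pullback.snd (Cofan.inj c i) (Cofan.inj c j))) (c₁.inj i) (c₁.inj j) := by
      rw [e₁', e₁']; exact sq.map F₁
    have sq₂ : IsPullback (F₂.map (pullback.fst (Cofan.inj c i) (Cofan.inj c j)))
        (F₂.map (pullback.snd (Cofan.inj c i) (Cofan.inj c j))) (c₂.inj i) (c₂.inj j) := by
      rw [e₂', e₂']; exact sq.map F₂
    have i₁ : IsInitial (pullback (Cofan.inj c i) (Cofan.inj c j)).left :=
      IsInitial.ofCoproductDisjointOfIsColimitOfIsLimit hij hc₁ sq₁.isLimit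
    have i₂ : IsInitial (pullback (Cofan.inj c i) (Cofan.inj c j)).right :=
      IsInitial.ofCoproductDisjointOfIsColimitOfIsLimit hij hc₂ sq₂.isLimit
    exact IsInitial.ofUniqueHom
      (fun Z => { left := i₁.to _, right := i₂.to _, w := i₁.hom_ext _ _ })
      (fun Z m => CommaMorphism.ext (i₁.hom_ext _ _) (i₂.hom_ext _ _))
  · intro F' c' α f w hα hpb
    have hu₁ := isUniversalColimit_discrete _ h₁ (F₁.mapCocone c') (Functor.whiskerRight α F₁)
      (F₁.map f) (NatTrans.ext (funext fun ⟨i⟩ =>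
        congrArg (fun g => CommaMorphism.left g) (NatTrans.congr_app w ⟨i⟩)))
      (.of_discrete _) (fun j => (hpb j).map F₁)
    have hu₂ := isUniversalColimit_discrete _ h₂ (F₂.mapCocone c') (Functor.whiskerRight α F₂)
      (F₂.map f) (NatTrans.ext (funext fun ⟨i⟩ =>
        congrArg (fun g => CommaMorphism.right g) (NatTrans.congr_app w ⟨i⟩)))
      (.of_discrete _) (fun j => (hpb j).map F₂)
    exact ⟨Comma.fstSndJointlyReflectColimit hu₁.some hu₂.some⟩

theorem effectiveEpi_of_components {X Y : Glued ρ} (e : X ⟶ Y) [Epi e.left] [Epi e.right] :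
    EffectiveEpi e := by
  let F₁ := Comma.fst (𝟭 (Sheaf K (Type u))) ρ
  let F₂ := Comma.snd (𝟭 (Sheaf K (Type u))) ρ
  have sq := IsPullback.of_hasPullback e e
  have hcol : IsColimit (Cofork.ofπ e pullback.condition) := by
    have aux : ∀ {A : Type (u + 1)} [Category.{u} A] (F : Glued ρ ⥤ A)
        [PreservesFiniteLimits F] (_ : ∀ {P : A} {a b : P ⟶ F.obj X}, IsPullback a b (F.map e) (F.map e) →
          ∀ (w : a ≫ F.map e = b ≫ F.map e), Nonempty (IsColimit (Cofork.ofπ (F.map e) w))),
        Nonempty (IsColimit (F.mapCocone (Cofork.ofπ e (pullback.condition (f := e) (g := e))))) := by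
      intro A _ F _ h
      exact ⟨(isColimitMapCoconeCoforkEquiv F _).symm (h (sq.map F)
        (by rw [← F.map_comp, ← F.map_comp, pullback.condition])).some⟩
    have key : ∀ {C' : Type u} [SmallCategory C'] {J' : GrothendieckTopology C'}
        {A B P : Sheaf J' (Type u)} (g : A ⟶ B) [Epi g] {a b : P ⟶ A}, IsPullback a b g g →
          ∀ (w : a ≫ g = b ≫ g), Nonempty (IsColimit (Cofork.ofπ g w)) := by
      intro C' _ J' A B P g _ a b h w
      obtain ⟨hk⟩ := isColimit_kernelPair g
      refine ⟨Cofork.IsColimit.mk _ (fun s => Cofork.IsColimit.desc hk s.π ?_)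
        (fun s => Cofork.IsColimit.π_desc' hk _ _)
        (fun s m hm => Cofork.IsColimit.hom_ext hk
          (hm.trans (Cofork.IsColimit.π_desc' hk _ _).symm))⟩
      rw [← h.isoPullback_inv_fst, ← h.isoPullback_inv_snd, Category.assoc, Category.assoc,
        s.condition]
    exact Comma.fstSndJointlyReflectColimit
      (aux F₁ (fun h w => @key _ _ _ _ _ _ (F₁.map e) (inferInstanceAs (Epi e.left)) _ _ h w)).some
      (aux F₂ (fun h w => @key _ _ _ _ _ _ (F₂.map e) (inferInstanceAs (Epi e.right)) _ _ h w)).some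
  have : IsRegularEpi e := isRegularEpi_of_regularEpi
    { W := _, left := pullback.fst e e, right := pullback.snd e e, w := pullback.condition,
      isColimit := hcol }
  infer_instance

theorem isEffectiveUniversalEquivRel_glued {R A : Glued ρ} (p₁ p₂ : R ⟶ A)
    (h : SGA4.IsEquivRel p₁ p₂) : SGA4.IsEffectiveUniversalEquivRel p₁ p₂ := by
  let F₁ := Comma.fst (𝟭 (Sheaf K (Type u))) ρ
  let F₂ := Comma.snd (𝟭 (Sheaf K (Type u))) ρ
  let π := coequalizer.π p₁ p₂
  have hc : IsColimit (Cofork.ofπ π (coequalizer.condition p₁ p₂)) := coequalizerIsCoequalizer p₁ p₂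
  have hc₁ := isColimitCoforkMapOfIsColimit F₁ _ hc
  have hc₂ := isColimitCoforkMapOfIsColimit F₂ _ hc
  have q₁ := isPullback_of_isColimit _ _ (isEquivRel_map F₁ h) hc₁
  have q₂ := isPullback_of_isColimit _ _ (isEquivRel_map F₂ h) hc₂
  have hpb : IsPullback p₁ p₂ π π :=
    ⟨⟨coequalizer.condition p₁ p₂⟩, ⟨Comma.fstSndJointlyReflectLimit
      ((isLimitMapConePullbackConeEquiv F₁ _).symm q₁.isLimit)
      ((isLimitMapConePullbackConeEquiv F₂ _).symm q₂.isLimit)⟩⟩
  obtain ⟨r, hr₁, hr₂⟩ := (h A).2.refl (𝟙 A)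
  refine ⟨_, π, hpb, ⟨⟨coequalizer.condition p₁ p₂⟩, ⟨?_⟩⟩, fun B' g => ?_⟩
  · have hd : ∀ s : PushoutCocone p₁ p₂, s.inl = s.inr := fun s => by
      have := congrArg (r ≫ ·) s.condition
      simpa only [← Category.assoc, hr₁, hr₂, Category.id_comp] using this
    refine PushoutCocone.IsColimit.mk _
      (fun s => coequalizer.desc s.inl (s.condition.trans (by rw [hd s])))
      (fun s => coequalizer.π_desc _ _) (fun s => (coequalizer.π_desc _ _).trans (hd s)) ?_
    intro s m hm₁ _
    exact coequalizer.hom_ext (hm₁.trans (coequalizer.π_desc _ _).symm)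
  · have : Epi (F₁.map π) := inferInstance
    have : Epi (F₂.map π) := inferInstance
    have sq₁ := (IsPullback.of_hasPullback π g).map F₁
    have sq₂ := (IsPullback.of_hasPullback π g).map F₂
    have : Epi (pullback.snd π g).left := by
      show Epi (F₁.map (pullback.snd π g))
      rw [← sq₁.isoPullback_hom_snd]
      have := epi_pullback_snd (F₁.map π) (F₁.map g)
      infer_instance
    have : Epi (pullback.snd π g).right := by
      show Epi (F₂.map (pullback.snd π g))
      rw [← sq₂.isoPullback_hom_snd]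
      have := epi_pullback_snd (F₂.map π) (F₂.map g)
      infer_instance
    exact effectiveEpi_of_components ρ _

omit [PreservesFiniteLimits ρ] in
/-- Accessible functors are locally determined by a small family of objects. -/
theorem exists_small_family [ρ.IsAccessible.{u}] :
    ∃ (ι : Type u) (P : ι → Sheaf J (Type u)), ∀ (X : Sheaf J (Type u)) (d : D) (z : sec (ρ.obj X) d),
      ∃ S ∈ K d, ∀ ⦃V : D⦄ (k : V ⟶ d), S k → ∃ (i : ι) (g : P i ⟶ X) (t : sec (ρ.obj (P i)) V),
        (ρ.map g).hom.app (op V) t = (ρ.obj X).obj.map k.op z := by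
  obtain ⟨κ, _, hρ⟩ := Functor.IsAccessible.exists_cardinal.{u} (F := ρ)
  obtain ⟨G, hG, hgen⟩ := HasCardinalFilteredGenerator.exists_generator (Cᵒᵖ ⥤ Type u) κ
  obtain ⟨Q, hQ, -, hGQ⟩ := ObjectProperty.EssentiallySmall.exists_small_le.{u} G
  let e := equivShrink.{u} (Subtype Q)
  let P : Shrink.{u} (Subtype Q) → Sheaf J (Type u) := fun i =>
    (presheafToSheaf J (Type u)).obj (e.symm i).1
  refine ⟨Shrink.{u} (Subtype Q), P, fun X d z => ?_⟩
  obtain ⟨I, _, _, ⟨pres⟩⟩ := hgen.exists_colimitsOfShape X.obj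
  have hL : IsColimit ((presheafToSheaf J (Type u)).mapCocone (Cocone.mk _ pres.ι)) :=
    isColimitOfPreserves _ pres.isColimit
  have := ρ.preservesColimitsOfShape_of_isCardinalAccessible κ I
  have hR := isColimitOfPreserves ρ hL
  let counit := (sheafificationAdjunction J (Type u)).counit.app X
  let π : ∀ j, ρ.obj ((presheafToSheaf J (Type u)).obj (pres.diag.obj j)) ⟶ ρ.obj X := fun j =>
    ρ.map ((presheafToSheaf J (Type u)).map (pres.ι.app j) ≫ counit)
  have hepi : SGA4.IsEpiFamily π := fun Z a b hab => by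
    rw [← cancel_epi (ρ.map counit)]
    exact hR.hom_ext fun j => by simpa [π] using hab j
  refine ⟨_, (isEpiFamily_iff_liftSieve_mem π).1 hepi d z, fun V k hk => ?_⟩
  obtain ⟨j, t, ht⟩ := hk
  obtain ⟨q, hq, ⟨i⟩⟩ := hGQ _ (pres.prop_diag_obj j)
  obtain ⟨n, hn⟩ : ∃ n, (e.symm n).1 = q := ⟨e ⟨q, hq⟩, by simp⟩
  subst hn
  let i' : P n ≅ (presheafToSheaf J (Type u)).obj (pres.diag.obj j) :=
    (presheafToSheaf J (Type u)).mapIso i.symm
  refine ⟨n, i'.hom ≫ (presheafToSheaf J (Type u)).map (pres.ι.app j) ≫ counit,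
    (ρ.map i'.inv).hom.app (op V) t, ?_⟩
  rw [← ht]
  have e : ρ.map i'.inv ≫ ρ.map (i'.hom ≫ (presheafToSheaf J (Type u)).map (pres.ι.app j) ≫ counit) =
      π j := by
    rw [← ρ.map_comp, Iso.inv_hom_id_assoc]
  exact ConcreteCategory.congr_hom (NatTrans.congr_app (congrArg (·.hom) e) (op V)) t

omit [PreservesFiniteLimits ρ] in
theorem exists_detecting [ρ.IsAccessible.{u}] :
    ∃ P : ObjectProperty (Glued ρ), ObjectProperty.Small.{u} P ∧ P.IsDetecting := by
  obtain ⟨ι, P, hP⟩ := exists_small_family ρ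
  let L := presheafToSheaf J (Type u)
  let M := presheafToSheaf K (Type u)
  let G : C ⊕ (Σ (d : D) (i : ι), sec (ρ.obj (P i)) d) → Glued ρ :=
    Sum.elim
      (fun c => { left := ⊥_ _, right := L.obj (yoneda.obj c), hom := initial.to _ })
      (fun p => { left := M.obj (yoneda.obj p.1), right := P p.2.1,
                  hom := (secEquiv p.1 _).symm p.2.2 })
  refine ⟨ObjectProperty.ofObj G, inferInstance, fun {Y Y'} f hf => ?_⟩
  have hr : IsIso f.right := by
    have : IsIso ((sheafToPresheaf J (Type u)).map f.right) := by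
      rw [NatTrans.isIso_iff_isIso_app]
      intro c
      rw [isIso_iff_bijective]
      have h0 : ∀ (s : sec Y'.right c.unop), ∃! t : sec Y.right c.unop,
          f.right.hom.app c t = s := by
        intro s
        obtain ⟨h', hh', hu⟩ := hf (G (.inl c.unop)) (ObjectProperty.ofObj_apply G _)
          { left := initial.to _, right := (secEquiv c.unop _).symm s, w := initial.hom_ext _ _ }
        refine ⟨secEquiv c.unop _ h'.right, ?_, fun t ht => ?_⟩
        · have := congrArg (fun g => secEquiv c.unop _ (CommaMorphism.right g)) hh'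
          exact (secEquiv_comp _ _).symm.trans (this.trans (Equiv.apply_symm_apply _ _))
        · have := hu { left := initial.to _, right := (secEquiv c.unop _).symm t,
                       w := initial.hom_ext _ _ }
            (CommaMorphism.ext (initial.hom_ext _ _) ((secEquiv_symm_comp t f.right).trans
              (congrArg _ ht)))
          exact (Equiv.apply_symm_apply _ t).symm.trans
            (congrArg (fun g => secEquiv c.unop _ (CommaMorphism.right g)) this)
      exact (Function.bijective_iff_existsUnique _).2 h0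
    exact isIso_of_reflects_iso _ (sheafToPresheaf J (Type u))
  have hinj : ∀ (d : D) (y₁ y₂ : sec Y.left d),
      f.left.hom.app (op d) y₁ = f.left.hom.app (op d) y₂ → y₁ = y₂ := by
    intro d y₁ y₂ hy
    have hφ : Y.hom.hom.app (op d) y₁ = Y.hom.hom.app (op d) y₂ := by
      apply ((secEquiv d (ρ.obj Y.right)).symm).injective
      have hn : ∀ y : sec Y.left d, (ρ.map f.right).hom.app (op d) (Y.hom.hom.app (op d) y) =
          Y'.hom.hom.app (op d) (f.left.hom.app (op d) y) := fun y =>
        ConcreteCategory.congr_hom (NatTrans.congr_app (congrArg (·.hom) f.w.symm) (op d)) y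
      rw [← cancel_mono (ρ.map f.right), secEquiv_symm_comp, secEquiv_symm_comp, hn, hn, hy]
    obtain ⟨S, hS, hS'⟩ := hP Y.right d (Y.hom.hom.app (op d) y₁)
    refine (((isSheaf_iff_isSheaf_of_type _ _).1 Y.left.property) _ hS).isSeparatedFor.ext
      fun V k hk => ?_
    obtain ⟨i, g, t, ht⟩ := hS' k hk
    have hw : ∀ y : sec Y.left d, Y.hom.hom.app (op d) y = Y.hom.hom.app (op d) y₁ →
        (secEquiv V Y.left).symm (Y.left.obj.map k.op y) ≫ Y.hom =
          (secEquiv V (ρ.obj (P i))).symm t ≫ ρ.map g := by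
      intro y hy'
      rw [secEquiv_symm_comp, secEquiv_symm_comp, NatTrans.naturality_apply, hy', ht]
    let h₁ : G (.inr ⟨V, i, t⟩) ⟶ Y :=
      { left := (secEquiv V Y.left).symm (Y.left.obj.map k.op y₁), right := g, w := hw y₁ rfl }
    let h₂ : G (.inr ⟨V, i, t⟩) ⟶ Y :=
      { left := (secEquiv V Y.left).symm (Y.left.obj.map k.op y₂), right := g, w := hw y₂ hφ.symm }
    have e : h₁ ≫ f = h₂ ≫ f := CommaMorphism.ext (by
      show (secEquiv V Y.left).symm _ ≫ f.left = (secEquiv V Y.left).symm _ ≫ f.left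
      rw [secEquiv_symm_comp, secEquiv_symm_comp, NatTrans.naturality_apply,
        NatTrans.naturality_apply, hy]) rfl
    obtain ⟨h', -, hu⟩ := hf _ (ObjectProperty.ofObj_apply G _) (h₂ ≫ f)
    have := congrArg CommaMorphism.left ((hu h₁ e).trans (hu h₂ rfl).symm)
    exact (secEquiv V Y.left).symm.injective this
  have hsurj : Sheaf.IsLocallySurjective f.left := ⟨fun {d} y' => by
    obtain ⟨S, hS, hS'⟩ := hP Y'.right d (Y'.hom.hom.app (op d) y')
    refine K.superset_covering ?_ hS
    intro V k hk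
    obtain ⟨i, g, t, ht⟩ := hS' k hk
    obtain ⟨h', hh', -⟩ := hf _ (ObjectProperty.ofObj_apply G (.inr ⟨V, i, t⟩))
      { left := (secEquiv V Y'.left).symm (Y'.left.obj.map k.op y'), right := g,
        w := by
          show (secEquiv V Y'.left).symm _ ≫ Y'.hom = (secEquiv V (ρ.obj (P i))).symm t ≫ ρ.map g
          rw [secEquiv_symm_comp, secEquiv_symm_comp, NatTrans.naturality_apply, ht] }
    refine ⟨secEquiv V Y.left h'.left, ?_⟩
    have := congrArg (fun g => secEquiv V _ (CommaMorphism.left g)) hh'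
    exact (secEquiv_comp _ _).symm.trans (this.trans (Equiv.apply_symm_apply _ _))⟩
  have : Mono f.left := by
    have : ∀ d, Mono (f.left.hom.app d) := fun d =>
      (mono_iff_injective _).2 fun a b h => hinj d.unop a b h
    have : Mono ((sheafToPresheaf K (Type u)).map f.left) := NatTrans.mono_of_mono_app f.left.hom
    exact (sheafToPresheaf K (Type u)).mono_of_mono_map this
  have : Epi f.left := (Sheaf.isLocallySurjective_iff_epi' (Type u) f.left).1 hsurj
  have : IsIso f.left := isIso_of_mono_of_epi _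
  exact isIso_of_components ρ f

theorem isTopos_glued [ρ.IsAccessible.{u}] : SGA4.IsTopos.{u + 1, u} (Glued ρ) :=
  Giraud.isTopos_of_axioms (E := Glued ρ)
    ⟨hasDisjointUniversalCoproducts_glued ρ,
      fun _ _ _ _ h => isEffectiveUniversalEquivRel_glued ρ _ _ h⟩
    (exists_detecting ρ)

end GrothLib.Topos.Glue
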