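import Groth.Prelude.Def_SGA4a
import Mathlib.CategoryTheory.Adjunction.FullyFaithful
import Mathlib.CategoryTheory.Limits.Preserves.Shapes.Pullbacks
import Mathlib.CategoryTheory.Limits.Constructions.EpiMono

/-!
# Left exact reflective subcategories of presheaves are categories of sheaves
-/

set_option autoImplicit false

universe v u

open CategoryTheory CategoryTheory.Limits Opposite

namespace GrothLib.Topos.LexReflective

variable {C : Type u} [SmallCategory C] {E : Type v} [Category.{u} E]
  {L : (Cᵒᵖ ⥤ Type u) ⥤ E} {R : E ⥤ (Cᵒᵖ ⥤ Type u)} (adj : L ⊣ R)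

/-- The representable presheaf. -/
abbrev rep (X : C) : Cᵒᵖ ⥤ Type u := yoneda.obj X

/-- A morphism out of a representable from a section. -/
def elem {F : Cᵒᵖ ⥤ Type u} {X : C} (s : F.obj (op X)) : rep X ⟶ F := yonedaEquiv.symm s

theorem elem_comp {F G : Cᵒᵖ ⥤ Type u} {X : C} (s : F.obj (op X)) (g : F ⟶ G) :
    elem s ≫ g = elem (g.app (op X) s) := by
  apply yonedaEquiv.injective
  rw [yonedaEquiv_comp, elem, elem, Equiv.apply_symm_apply, Equiv.apply_symm_apply]

theorem map_elem {F : Cᵒᵖ ⥤ Type u} {X Y : C} (f : Y ⟶ X) (s : F.obj (op X)) :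
    yoneda.map f ≫ elem s = elem (F.map f.op s) :=
  yonedaEquiv_symm_naturality_left f _ s

theorem elem_injective {F : Cᵒᵖ ⥤ Type u} {X : C} : Function.Injective (elem (F := F) (X := X)) :=
  yonedaEquiv.symm.injective

variable [R.Full] [R.Faithful] [PreservesFiniteLimits L]

/-- The covering sieves attached to a left exact reflector. -/
def Covers (L : (Cᵒᵖ ⥤ Type u) ⥤ E) {X : C} (S : Sieve X) : Prop := IsIso (L.map S.functorInclusion)

omit [R.Full] [R.Faithful] in
theorem mono_map {A B : Cᵒᵖ ⥤ Type u} (f : A ⟶ B) [Mono f] : Mono (L.map f) := inferInstance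

omit [R.Full] [R.Faithful] in
/-- A sieve covers as soon as it receives the image of a map inverted by the reflector. -/
theorem covers_of_map {X : C} {S : Sieve X} {Q : Cᵒᵖ ⥤ Type u} (g : Q ⟶ rep X)
    [IsIso (L.map g)] (h : ∀ (Y : C) (q : Q.obj (op Y)), S (g.app (op Y) q)) : Covers L S := by
  let g' : Q ⟶ S.functor :=
    { app := fun Y => ↾fun q => ⟨g.app Y q, h Y.unop q⟩
      naturality := fun Y Z f => by
        ext q
        apply Subtype.ext
        exact ConcreteCategory.congr_hom (g.naturality f) q }
  have hg : g' ≫ S.functorInclusion = g := rfl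
  refine ⟨inv (L.map g) ≫ L.map g', ?_, ?_⟩
  · rw [← cancel_mono (L.map S.functorInclusion), Category.assoc, Category.assoc, ← L.map_comp, hg,
      IsIso.inv_hom_id, Category.comp_id, Category.id_comp]
  · rw [Category.assoc, ← L.map_comp, hg, IsIso.inv_hom_id]

omit [R.Full] [R.Faithful] in
theorem covers_pullback {X Y : C} {S : Sieve X} (hS : Covers L S) (g : Y ⟶ X) :
    Covers L (S.pullback g) := by
  have : IsIso (L.map S.functorInclusion) := hS
  have : IsIso (L.map (pullback.snd S.functorInclusion (yoneda.map g))) :=
    ((IsPullback.of_hasPullback S.functorInclusion (yoneda.map g)).map L).isIso_snd_of_isIso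
  refine covers_of_map (pullback.snd S.functorInclusion (yoneda.map g)) fun Z q => ?_
  have := ConcreteCategory.congr_hom (NatTrans.congr_app
    (pullback.condition (f := S.functorInclusion) (g := yoneda.map g)) (op Z)) q
  show S (_ ≫ g)
  rw [show (pullback.snd S.functorInclusion (yoneda.map g)).app (op Z) q ≫ g =
    ((pullback.fst S.functorInclusion (yoneda.map g)).app (op Z) q).1 from this.symm]
  exact ((pullback.fst S.functorInclusion (yoneda.map g)).app (op Z) q).2

include adj

theorem covers_transitive {X : C} {S T : Sieve X} (hS : Covers L S)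
    (hT : ∀ ⦃Y : C⦄ (f : Y ⟶ X), S f → Covers L (T.pullback f)) : Covers L T := by
  have : IsIso (L.map S.functorInclusion) := hS
  have := adj.isRightAdjoint
  let i := L.map T.functorInclusion
  have key : ∀ (Y : C) (f : Y ⟶ X), S f → ∃ x : rep Y ⟶ R.obj (L.obj T.functor),
      x ≫ R.map i = yoneda.map f ≫ adj.unit.app (rep X) := by
    intro Y f hf
    have : IsIso (L.map (T.pullback f).functorInclusion) := hT f hf
    let k : (T.pullback f).functor ⟶ T.functor :=
      { app := fun Z => ↾fun g => ⟨g.1 ≫ f, g.2⟩
        naturality := fun Z W l => by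
          ext g
          exact Subtype.ext (Category.assoc _ _ _) }
    have hk : k ≫ T.functorInclusion = (T.pullback f).functorInclusion ≫ yoneda.map f := rfl
    refine ⟨adj.homEquiv _ _ (inv (L.map (T.pullback f).functorInclusion) ≫ L.map k), ?_⟩
    rw [← adj.homEquiv_naturality_right, Category.assoc, ← L.map_comp, hk, L.map_comp,
      IsIso.inv_hom_id_assoc, Adjunction.homEquiv_unit]
    exact (adj.unit.naturality _).symm
  choose x hx using key
  have hinj : ∀ Z, Function.Injective ((R.map i).app Z) := fun Z => by
    rw [← mono_iff_injective]; infer_instance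
  have hx' : ∀ (Y : C) (f : Y ⟶ X) (hf : S f),
      (R.map i).app (op Y) (yonedaEquiv (x Y f hf)) = (adj.unit.app (rep X)).app (op Y) f := by
    intro Y f hf
    rw [← yonedaEquiv_comp, hx, yonedaEquiv_comp, yonedaEquiv_yoneda_map]
  let v : S.functor ⟶ R.obj (L.obj T.functor) :=
    { app := fun Y => ↾fun f => yonedaEquiv (x Y.unop f.1 f.2)
      naturality := fun Y Z l => by
        ext ⟨f, hf⟩
        apply hinj
        show (R.map i).app Z (yonedaEquiv (x Z.unop _ _)) =
          (R.map i).app Z ((R.obj (L.obj T.functor)).map l (yonedaEquiv (x Y.unop f hf)))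
        rw [hx', NatTrans.naturality_apply, hx']
        exact NatTrans.naturality_apply (adj.unit.app (rep X)) l f }
  have hv : v ≫ R.map i = S.functorInclusion ≫ adj.unit.app (rep X) := by
    ext Y ⟨f, hf⟩
    exact hx' Y.unop f hf
  let v' := (adj.homEquiv _ _).symm v
  have hv' : v' ≫ i = L.map S.functorInclusion := by
    apply (adj.homEquiv _ _).injective
    rw [adj.homEquiv_naturality_right, Equiv.apply_symm_apply, hv, Adjunction.homEquiv_unit]
    exact adj.unit.naturality _
  refine ⟨inv (L.map S.functorInclusion) ≫ v', ?_, ?_⟩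
  · rw [← cancel_mono i, Category.assoc, Category.assoc, hv', IsIso.inv_hom_id, Category.comp_id,
      Category.id_comp]
  · rw [Category.assoc]
    show _ ≫ v' ≫ i = _
    rw [hv', IsIso.inv_hom_id]

/-- The topology attached to a left exact reflector. -/
def topology : GrothendieckTopology C where
  sieves X := {S | Covers L S}
  top_mem' X := by
    show IsIso (L.map (⊤ : Sieve X).functorInclusion)
    infer_instance
  pullback_stable' X Y S f hS := covers_pullback hS f
  transitive' X S hS T hT := covers_transitive adj hS hT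

theorem isSheaf_obj (Z : E) : Presieve.IsSheaf (topology adj) (R.obj Z) := by
  intro X S hS
  have : IsIso (L.map S.functorInclusion) := hS
  rw [Presieve.isSheafFor_iff_yonedaSheafCondition]
  intro f
  refine ⟨adj.homEquiv _ _ (inv (L.map S.functorInclusion) ≫ (adj.homEquiv _ _).symm f), ?_,
    fun g hg => ?_⟩
  · show S.functorInclusion ≫ _ = f
    rw [← adj.homEquiv_naturality_left, IsIso.hom_inv_id_assoc, Equiv.apply_symm_apply]
  · rw [← Equiv.symm_apply_eq, ← hg, adj.homEquiv_naturality_left_symm,
      IsIso.inv_hom_id_assoc]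

theorem isIso_unit_of_isSheaf [HasEqualizers E] {F : Cᵒᵖ ⥤ Type u} (hF : Presieve.IsSheaf (topology adj) F) :
    IsIso (adj.unit.app F) := by
  let η : F ⟶ R.obj (L.obj F) := adj.unit.app F
  have hinjF : ∀ (X : C), Function.Injective (η.app (op X)) := by
    intro X s t hst
    have hLst : L.map (elem s) = L.map (elem t) := by
      apply (adj.homEquiv _ _).injective
      rw [Adjunction.homEquiv_unit, Adjunction.homEquiv_unit]
      have h : elem s ≫ η = elem t ≫ η := by
        rw [elem_comp, elem_comp, hst]
      exact (adj.unit.naturality (elem s)).symm.trans (h.trans (adj.unit.naturality (elem t)))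
    let S : Sieve X :=
      { arrows := fun Y f => F.map f.op s = F.map f.op t
        downward_closed := fun {Y Z f} hf g => by simp only [op_comp, Functor.map_comp_apply, hf] }
    have : IsIso (equalizer.ι (L.map (elem s)) (L.map (elem t))) := equalizer.ι_of_eq hLst
    have : IsIso (L.map (equalizer.ι (elem s) (elem t))) := by
      rw [← equalizerComparison_comp_π (elem s) (elem t) L]
      infer_instance
    have hS : Covers L S := by
      refine covers_of_map (equalizer.ι (elem s) (elem t)) fun Y q => ?_
      have h := ConcreteCategory.congr_hom (NatTrans.congr_app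
        (equalizer.condition (elem s) (elem t)) (op Y)) q
      exact h
    exact (hF _ hS).isSeparatedFor.ext fun Y f hf => hf
  have hR := isSheaf_obj adj (L.obj F)
  have hsurjF : ∀ (X : C), Function.Surjective (η.app (op X)) := by
    intro X y
    let S : Sieve X :=
      { arrows := fun Y f => ∃ s, η.app (op Y) s = (R.obj (L.obj F)).map f.op y
        downward_closed := by
          rintro Y Z f ⟨s, hs⟩ g
          exact ⟨F.map g.op s, by rw [NatTrans.naturality_apply, hs, op_comp, Functor.map_comp_apply]⟩ }
    have : IsIso (L.map η) := by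
      have : L.map (adj.unit.app F) = inv (adj.counit.app (L.obj F)) :=
        IsIso.eq_inv_of_inv_hom_id (adj.left_triangle_components F)
      rw [show L.map η = L.map (adj.unit.app F) from rfl, this]; infer_instance
    have : IsIso (L.map (pullback.snd η (elem y))) :=
      ((IsPullback.of_hasPullback η (elem y)).map L).isIso_snd_of_isIso
    have hS : Covers L S := by
      refine covers_of_map (pullback.snd η (elem y)) fun Y q => ?_
      exact ⟨_, ConcreteCategory.congr_hom (NatTrans.congr_app
        (pullback.condition (f := adj.unit.app F) (g := elem y)) (op Y)) q⟩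
    let x : Presieve.FamilyOfElements F S.arrows := fun Y f hf => hf.choose
    have hx : x.Compatible := by
      intro Y₁ Y₂ Z g₁ g₂ f₁ f₂ h₁ h₂ heq
      apply hinjF
      rw [NatTrans.naturality_apply, NatTrans.naturality_apply, h₁.choose_spec, h₂.choose_spec,
        ← Functor.map_comp_apply, ← Functor.map_comp_apply, ← op_comp, ← op_comp, heq]
    refine ⟨(hF _ hS).amalgamate x hx, (hR _ hS).isSeparatedFor.ext fun Y f hf => ?_⟩
    rw [← NatTrans.naturality_apply, (hF _ hS).valid_glue hx f hf]
    exact hf.choose_spec
  have : ∀ X, IsIso ((adj.unit.app F).app X) := fun X =>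
    (isIso_iff_bijective _).2 ⟨hinjF X.unop, hsurjF X.unop⟩
  exact NatIso.isIso_of_isIso_app _

theorem isSheaf_iff_isIso_unit [HasEqualizers E] (F : Cᵒᵖ ⥤ Type u) :
    Presieve.IsSheaf (topology adj) F ↔ IsIso (adj.unit.app F) :=
  ⟨isIso_unit_of_isSheaf adj, fun _ =>
    Presieve.isSheaf_iso _ (asIso (adj.unit.app F)).symm (isSheaf_obj adj (L.obj F))⟩

/-- A left exact reflective subcategory of presheaves is a topos. -/
theorem isTopos [HasEqualizers E] : SGA4.IsTopos.{v, u} E := by
  let Φ : E ⥤ Sheaf (topology adj) (Type u) :=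
    ObjectProperty.lift _ R fun Z => (isSheaf_iff_isSheaf_of_type _ _).2 (isSheaf_obj adj Z)
  have hΦ : Φ.IsEquivalence :=
    { faithful := inferInstanceAs (ObjectProperty.lift _ R _).Faithful
      full := inferInstanceAs (ObjectProperty.lift _ R _).Full
      essSurj := ⟨fun F => by
        have := isIso_unit_of_isSheaf adj ((isSheaf_iff_isSheaf_of_type _ _).1 F.property)
        exact ⟨L.obj F.obj, ⟨ObjectProperty.isoMk _ (asIso (adj.unit.app F.obj)).symm⟩⟩⟩ }
  exact ⟨C, inferInstance, topology adj, ⟨Φ.asEquivalence⟩⟩

end GrothLib.Topos.LexReflective
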