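import Groth.Agent.Lib.Topos.Sheaf
import Groth.Agent.Lib.Topos.ArtinGlue
import Mathlib.CategoryTheory.Comma.Over.Pullback
import Mathlib.CategoryTheory.Adjunction.Triple
import Mathlib.CategoryTheory.Limits.Preserves.FunctorCategory
import Mathlib.CategoryTheory.Limits.Yoneda
import Mathlib.CategoryTheory.Monad.Limits

/-!
# An open of a sheaf topos and its closed complement
-/

set_option autoImplicit false

universe u

open CategoryTheory CategoryTheory.Limits Opposite

namespace GrothLib.Topos.OpenClosed

variable {C : Type u} [SmallCategory C] {J : GrothendieckTopology C} (U : Sheaf J (Type u))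

theorem isIso_of_sec_bijective {F G : Sheaf J (Type u)} (f : F ⟶ G)
    (h : ∀ d : C, Function.Bijective (f.hom.app (op d))) : IsIso f := by
  have : ∀ d, IsIso (f.hom.app d) := fun d => (isIso_iff_bijective _).2 (h d.unop)
  have : IsIso ((sheafToPresheaf J (Type u)).map f) := NatIso.isIso_of_isIso_app f.hom
  exact isIso_of_reflects_iso f (sheafToPresheaf J (Type u))

theorem sec_bijective_of_isIso {F G : Sheaf J (Type u)} (f : F ⟶ G) [IsIso f] (d : C) :
    Function.Bijective (f.hom.app (op d)) := by
  have : IsIso f.hom := inferInstanceAs (IsIso ((sheafToPresheaf J (Type u)).map f))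
  exact (isIso_iff_bijective _).1 inferInstance

theorem sec_ext {F : Sheaf J (Type u)} {d : C} {S : Sieve d} (hS : S ∈ J d) {s t : sec F d}
    (h : ∀ ⦃V : C⦄ (f : V ⟶ d), S f → F.obj.map f.op s = F.obj.map f.op t) : s = t :=
  (((isSheaf_iff_isSheaf_of_type _ _).1 F.property) _ hS).isSeparatedFor.ext fun _ f hf => h f hf

theorem happ {F G : Sheaf J (Type u)} {a b : F ⟶ G} (h : a = b) (d : C) (x : sec F d) :
    a.hom.app (op d) x = b.hom.app (op d) x := by rw [h]

/-- A section of a binary product. -/
noncomputable def pair {A B : Sheaf J (Type u)} {d : C} (a : sec A d) (b : sec B d) :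
    sec (A ⨯ B) d :=
  secEquiv d _ (prod.lift ((secEquiv d A).symm a) ((secEquiv d B).symm b))

theorem fst_pair {A B : Sheaf J (Type u)} {d : C} (a : sec A d) (b : sec B d) :
    (prod.fst : A ⨯ B ⟶ A).hom.app (op d) (pair a b) = a := by
  rw [pair, ← secEquiv_comp, prod.lift_fst, Equiv.apply_symm_apply]

theorem snd_pair {A B : Sheaf J (Type u)} {d : C} (a : sec A d) (b : sec B d) :
    (prod.snd : A ⨯ B ⟶ B).hom.app (op d) (pair a b) = b := by
  rw [pair, ← secEquiv_comp, prod.lift_snd, Equiv.apply_symm_apply]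

theorem prod_sec_ext {A B : Sheaf J (Type u)} {d : C} {z z' : sec (A ⨯ B) d}
    (h₁ : (prod.fst : A ⨯ B ⟶ A).hom.app (op d) z = (prod.fst : A ⨯ B ⟶ A).hom.app (op d) z')
    (h₂ : (prod.snd : A ⨯ B ⟶ B).hom.app (op d) z = (prod.snd : A ⨯ B ⟶ B).hom.app (op d) z') :
    z = z' := by
  apply (secEquiv d _).symm.injective
  apply Limits.prod.hom_ext
  · rw [secEquiv_symm_comp, secEquiv_symm_comp, h₁]
  · rw [secEquiv_symm_comp, secEquiv_symm_comp, h₂]

variable (hU : SGA4.IsOpen U)

include hU in
theorem subsingleton_sec (d : C) : Subsingleton (sec U d) :=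
  ⟨fun a b => (secEquiv d U).symm.injective <| by
    have : Mono (terminal.from U) := hU
    rw [← cancel_mono (terminal.from U)]
    exact Subsingleton.elim _ _⟩

/-- Sections away from `U`. -/
def K (X : Sheaf J (Type u)) : Cᵒᵖ ⥤ Type u where
  obj d := PLift (¬ Nonempty (U.obj.obj d)) → X.obj.obj d
  map f := ↾fun k h => X.obj.map f (k ⟨fun ⟨u⟩ => h.down ⟨U.obj.map f u⟩⟩)
  map_id d := by
    ext k h
    simp
  map_comp f g := by
    ext k h
    exact Functor.map_comp_apply X.obj f g _

/-- `K` as a functor. -/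
def KFunctor : Sheaf J (Type u) ⥤ (Cᵒᵖ ⥤ Type u) where
  obj := K U
  map {X Y} g :=
    { app := fun d => ↾fun k h => g.hom.app d (k h)
      naturality := fun d e f => by
        ext k
        exact funext fun h => NatTrans.naturality_apply g.hom f _ }

instance preservesFiniteLimits_KFunctor : PreservesFiniteLimits (KFunctor U) := by
  constructor
  intro I _ _
  have : ∀ d : Cᵒᵖ, PreservesLimitsOfShape I
      (KFunctor U ⋙ (evaluation Cᵒᵖ (Type u)).obj d) := fun d => by
    let P : Type u := ULift.{u} (PLift (¬ Nonempty (U.obj.obj d)))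
    let e : sheafToPresheaf J (Type u) ⋙ (evaluation Cᵒᵖ (Type u)).obj d ⋙ coyoneda.obj (op P) ≅
        KFunctor U ⋙ (evaluation Cᵒᵖ (Type u)).obj d :=
      NatIso.ofComponents (fun X =>
        { hom := ↾fun k h => ConcreteCategory.hom (k : P ⟶ X.obj.obj d) ⟨h⟩
          inv := ↾fun k => (↾fun h => k h.down : P ⟶ X.obj.obj d)
          hom_inv_id := by ext k; rfl
          inv_hom_id := by ext k; rfl }) (fun g => by ext k; rfl)
    exact preservesLimitsOfShape_of_natIso e
  exact preservesLimitsOfShape_of_evaluation _ _ this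

/-- The closed part `X_{CU}`. -/
noncomputable abbrev closedPart : Sheaf J (Type u) ⥤ Sheaf J (Type u) :=
  KFunctor U ⋙ presheafToSheaf J (Type u)

/-- The map from sections to sections away from `U`. -/
def toK (X : Sheaf J (Type u)) : X.obj ⟶ K U X where
  app d := ↾fun x _ => x
  naturality d e f := rfl

/-- The projection to the closed part. -/
noncomputable def q (X : Sheaf J (Type u)) : X ⟶ (closedPart U).obj X :=
  ⟨toK U X ≫ toSheafify J (K U X)⟩

theorem q_naturality {X Y : Sheaf J (Type u)} (g : X ⟶ Y) :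
    q U X ≫ (closedPart U).map g = g ≫ q U Y := by
  apply Sheaf.hom_ext
  show (toK U X ≫ toSheafify J (K U X)) ≫ sheafifyMap J ((KFunctor U).map g) =
    g.hom ≫ toK U Y ≫ toSheafify J (K U Y)
  have : toK U X ≫ (KFunctor U).map g = g.hom ≫ toK U Y := rfl
  rw [Category.assoc]
  erw [← toSheafify_naturality]
  exact (Category.assoc _ _ _).symm.trans ((congrArg (· ≫ toSheafify J (K U Y)) this).trans (Category.assoc _ _ _))

/-- The map from the open to the closed part. -/
noncomputable def inlU (X : Sheaf J (Type u)) : U ⟶ (closedPart U).obj X :=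
  ⟨({ app := fun d => ↾fun u h => (h.down ⟨u⟩).elim
      naturality := fun d e f => by
        ext u
        exact funext fun h => (h.down ⟨U.obj.map f u⟩).elim } : U.obj ⟶ K U X) ≫
    toSheafify J (K U X)⟩

theorem K_subsingleton (X : Sheaf J (Type u)) {d : C} (u : sec U d) :
    Subsingleton ((K U X).obj (op d)) :=
  ⟨fun _ _ => funext fun h => (h.down ⟨u⟩).elim⟩

theorem subsingleton_closedPart (X : Sheaf J (Type u)) {d : C} (u : sec U d) :
    Subsingleton (sec ((closedPart U).obj X) d) := by
  refine ⟨fun z z' => ?_⟩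
  refine sec_ext (J.intersection_covering (Presheaf.imageSieve_mem J (toSheafify J (K U X)) z)
    (Presheaf.imageSieve_mem J (toSheafify J (K U X)) z')) fun V f hf => ?_
  obtain ⟨⟨k, hk⟩, ⟨k', hk'⟩⟩ := hf
  have := K_subsingleton U X (U.obj.map f.op u)
  rw [Subsingleton.elim k k'] at hk
  exact hk.symm.trans hk'

include hU in
theorem isPushout (X : Sheaf J (Type u)) :
    IsPushout (prod.fst : U ⨯ X ⟶ U) (prod.snd : U ⨯ X ⟶ X) (inlU U X) (q U X) := by
  classical
  have hsub := subsingleton_sec U hU
  have cond : ∀ {Z : Sheaf J (Type u)} (a : U ⟶ Z) (b : X ⟶ Z),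
      (prod.fst : U ⨯ X ⟶ U) ≫ a = (prod.snd : U ⨯ X ⟶ X) ≫ b →
      ∀ {d : C} (u : sec U d) (x : sec X d), a.hom.app (op d) u = b.hom.app (op d) x := by
    intro Z a b hab d u x
    have := happ hab d (pair u x)
    conv_lhs => rw [← fst_pair u x]
    conv_rhs => rw [← snd_pair u x]
    exact this
  have w : (prod.fst : U ⨯ X ⟶ U) ≫ inlU U X = (prod.snd : U ⨯ X ⟶ X) ≫ q U X := by
    refine hom_ext_sec fun d z => ?_
    have := subsingleton_closedPart U X ((prod.fst : U ⨯ X ⟶ U).hom.app (op d) z)
    exact Subsingleton.elim _ _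
  let adj := sheafificationAdjunction J (Type u)
  refine ⟨⟨w⟩, ⟨PushoutCocone.IsColimit.mk w (fun s => (adj.homEquiv (K U X) s.pt).symm
    { app := fun d => ↾fun k => if hn : Nonempty (U.obj.obj d)
        then s.inl.hom.app d hn.some else s.inr.hom.app d (k ⟨hn⟩)
      naturality := ?_ }) (fun s => ?_) (fun s => ?_) (fun s m hm₁ hm₂ => ?_)⟩⟩
  · intro d e f
    refine ConcreteCategory.hom_ext _ _ fun k => ?_
    show (if hn : Nonempty (U.obj.obj e) then _ else _) =
      s.pt.obj.map f (if hn : Nonempty (U.obj.obj d) then _ else _)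
    by_cases hd : Nonempty (U.obj.obj d)
    · have he : Nonempty (U.obj.obj e) := hd.map (U.obj.map f)
      rw [dif_pos he, dif_pos hd, ← NatTrans.naturality_apply]
      congr 1
      exact (hsub e.unop).elim _ _
    · rw [dif_neg hd]
      by_cases he : Nonempty (U.obj.obj e)
      · rw [dif_pos he, ← NatTrans.naturality_apply]
        exact cond _ _ s.condition _ _
      · rw [dif_neg he, ← NatTrans.naturality_apply]
        rfl
  · refine hom_ext_sec fun d u => ?_
    show ((adj.homEquiv _ _).symm _).hom.app (op d) ((toSheafify J (K U X)).app (op d) _) = _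
    rw [← ConcreteCategory.comp_apply, ← NatTrans.comp_app]
    erw [toSheafify_sheafifyLift]
    show (if hn : Nonempty (U.obj.obj (op d)) then _ else _) = _
    rw [dif_pos ⟨u⟩]
    congr 1
    exact (hsub d).elim _ _
  · refine hom_ext_sec fun d x => ?_
    show ((adj.homEquiv _ _).symm _).hom.app (op d) ((toSheafify J (K U X)).app (op d) _) = _
    rw [← ConcreteCategory.comp_apply, ← NatTrans.comp_app]
    erw [toSheafify_sheafifyLift]
    show (if hn : Nonempty (U.obj.obj (op d)) then _ else _) = _
    by_cases hd : Nonempty (U.obj.obj (op d))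
    · rw [dif_pos hd]; exact cond _ _ s.condition _ _
    · rw [dif_neg hd]; rfl
  · apply (adj.homEquiv _ _).injective
    erw [Equiv.apply_symm_apply]
    refine NatTrans.ext (funext fun d => ConcreteCategory.hom_ext _ _ fun k => ?_)
    show m.hom.app d ((toSheafify J (K U X)).app d k) = if hn : Nonempty (U.obj.obj d) then _ else _
    by_cases hd : Nonempty (U.obj.obj d)
    · rw [dif_pos hd, ← hm₁]
      show _ = m.hom.app d ((toSheafify J (K U X)).app d _)
      have := K_subsingleton U X (d := d.unop) hd.some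
      exact congrArg (fun k => m.hom.app d ((toSheafify J (K U X)).app d k))
        (Subsingleton.elim (α := (K U X).obj (op d.unop)) _ _)
    · rw [dif_neg hd, ← hm₂]
      exact congrArg (fun k => m.hom.app d ((toSheafify J (K U X)).app d k))
        (show k = (toK U X).app d (k ⟨hd⟩) from rfl)

theorem closedCompl_iff (Z : Sheaf J (Type u)) :
    SGA4.closedCompl U Z ↔ ∀ d : C, sec U d → Nonempty (Unique (sec Z d)) := by
  constructor
  · intro h d u
    have : IsIso (prod.fst : U ⨯ Z ⟶ U) := h
    obtain ⟨hinj, hsurj⟩ := sec_bijective_of_isIso (prod.fst : U ⨯ Z ⟶ U) d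
    obtain ⟨w, -⟩ := hsurj u
    refine ⟨⟨⟨(prod.snd : U ⨯ Z ⟶ Z).hom.app (op d) w⟩, fun z => ?_⟩⟩
    have := hinj ((fst_pair ((prod.fst : U ⨯ Z ⟶ U).hom.app (op d) w) z))
    exact (snd_pair _ z).symm.trans (congrArg ((prod.snd : U ⨯ Z ⟶ Z).hom.app (op d)) this)
  · intro h
    refine isIso_of_sec_bijective _ fun d => ⟨fun a b hab => ?_, fun u => ?_⟩
    · obtain ⟨hu⟩ := h d ((prod.fst : U ⨯ Z ⟶ U).hom.app (op d) a)
      exact prod_sec_ext hab (Subsingleton.elim _ _)
    · obtain ⟨hu⟩ := h d u
      exact ⟨pair u hu.default, fst_pair _ _⟩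

theorem closedCompl_closedPart (X : Sheaf J (Type u)) :
    SGA4.closedCompl U ((closedPart U).obj X) := by
  rw [closedCompl_iff]
  intro d u
  have := subsingleton_closedPart U X u
  exact ⟨uniqueOfSubsingleton ((inlU U X).hom.app (op d) u)⟩

instance closedCompl_isClosedUnderIsomorphisms : (SGA4.closedCompl U).IsClosedUnderIsomorphisms where
  of_iso {X Y} e hX := by
    rw [closedCompl_iff] at hX ⊢
    intro d u
    obtain ⟨h⟩ := hX d u
    exact ⟨(Equiv.ofBijective _ (sec_bijective_of_isIso e.hom d)).symm.unique⟩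

include hU in
theorem closedCompl_iff_isIso_q (X : Sheaf J (Type u)) :
    SGA4.closedCompl U X ↔ IsIso (q U X) :=
  ⟨fun h => (isPushout U hU X).isIso_inr_of_isIso h, fun _ =>
    (SGA4.closedCompl U).prop_of_iso (asIso (q U X)).symm (closedCompl_closedPart U X)⟩

theorem hom_closed_eq {A Z : Sheaf J (Type u)} (hZ : SGA4.closedCompl U Z) (p : A ⟶ U)
    (a b : A ⟶ Z) : a = b := by
  refine hom_ext_sec fun d s => ?_
  obtain ⟨h⟩ := (closedCompl_iff U Z).1 hZ d (p.hom.app (op d) s)
  exact Subsingleton.elim _ _

/-- The reflector to the closed complement. -/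
noncomputable def reflect : Sheaf J (Type u) ⥤ (SGA4.closedCompl U).FullSubcategory :=
  ObjectProperty.lift _ (closedPart U) (closedCompl_closedPart U)

/-- The reflection adjunction. -/
noncomputable def reflectAdj (hU : SGA4.IsOpen U) : reflect U ⊣ (SGA4.closedCompl U).ι :=
  Adjunction.mkOfHomEquiv
    { homEquiv := fun X Z =>
        { toFun := fun g => q U X ≫ g.hom
          invFun := fun g => ObjectProperty.homMk ((isPushout U hU X).desc
            (haveI : IsIso (prod.fst : U ⨯ Z.obj ⟶ U) := Z.property
             inv (prod.fst : U ⨯ Z.obj ⟶ U) ≫ prod.snd) g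
            (hom_closed_eq U Z.property prod.fst _ _))
          left_inv := fun g => by
            apply ObjectProperty.hom_ext
            apply (isPushout U hU X).hom_ext
            · exact hom_closed_eq U Z.property (𝟙 U) _ _
            · exact (isPushout U hU X).inr_desc _ _ _
          right_inv := fun g => (isPushout U hU X).inr_desc _ _ _ }
      homEquiv_naturality_left_symm := fun {X' X Z} f g => by
        apply ObjectProperty.hom_ext
        apply (isPushout U hU X').hom_ext
        · exact hom_closed_eq U Z.property (𝟙 U) _ _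
        · refine ((isPushout U hU X').inr_desc _ _ _).trans ?_
          show f ≫ g = q U X' ≫ (closedPart U).map f ≫ (isPushout U hU X).desc _ g _
          exact ((congrArg (· ≫ (isPushout U hU X).desc _ g _) (q_naturality U f)).trans
            ((Category.assoc _ _ _).trans (congrArg (f ≫ ·) ((isPushout U hU X).inr_desc _ _ _)))).symm.trans
              (Category.assoc _ _ _)
      homEquiv_naturality_right := fun {X Y Y'} g h => (Category.assoc (q U X) g.hom h.hom).symm }

instance : PreservesFiniteLimits (reflect U) :=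
  have : PreservesFiniteLimits (closedPart U) := comp_preservesFiniteLimits _ _
  have : PreservesFiniteLimits (reflect U ⋙ (SGA4.closedCompl U).ι) :=
    preservesFiniteLimits_of_natIso (Iso.refl (closedPart U))
  preservesFiniteLimits_of_reflects_of_preserves _ (SGA4.closedCompl U).ι

include hU in
theorem preservesFiniteLimits_of_adj
    {L : Sheaf J (Type u) ⥤ (SGA4.closedCompl U).FullSubcategory}
    (adj : L ⊣ (SGA4.closedCompl U).ι) : PreservesFiniteLimits L :=
  preservesFiniteLimits_of_natIso ((reflectAdj U hU).leftAdjointUniq adj)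

include hU in
theorem isIso_map_iff_of_adj {L : Sheaf J (Type u) ⥤ (SGA4.closedCompl U).FullSubcategory}
    (adj : L ⊣ (SGA4.closedCompl U).ι) {X Y : Sheaf J (Type u)} (m : X ⟶ Y) :
    IsIso (L.map m) ↔ IsIso ((closedPart U).map m) := by
  refine (NatIso.isIso_map_iff (adj.leftAdjointUniq (reflectAdj U hU)) m).trans ⟨fun h => ?_, fun h => ?_⟩
  · exact inferInstanceAs (IsIso ((SGA4.closedCompl U).ι.map ((reflect U).map m)))
  · have : IsIso ((SGA4.closedCompl U).ι.map ((reflect U).map m)) := h
    exact isIso_of_reflects_iso _ (SGA4.closedCompl U).ι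

theorem isIso_of_open_closed {X Y : Sheaf J (Type u)} (m : X ⟶ Y)
    (h₁ : IsIso (prod.map (𝟙 U) m)) (h₂ : IsIso ((closedPart U).map m)) : IsIso m := by
  have hb := sec_bijective_of_isIso (prod.map (𝟙 U) m)
  have hc := sec_bijective_of_isIso ((closedPart U).map m)
  have hq : ∀ {d : C} (x : sec X d), ((closedPart U).map m).hom.app (op d) ((q U X).hom.app (op d) x) =
      (q U Y).hom.app (op d) (m.hom.app (op d) x) := fun {d} x =>
    happ (q_naturality U m) d x
  have hpair : ∀ {d : C} (u : sec U d) (x : sec X d),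
      (prod.map (𝟙 U) m).hom.app (op d) (pair u x) = pair u (m.hom.app (op d) x) := by
    intro d u x
    apply prod_sec_ext
    · rw [fst_pair]
      refine (happ (prod.map_fst (𝟙 U) m) d (pair u x)).trans (fst_pair u x)
    · rw [snd_pair]
      refine (happ (prod.map_snd (𝟙 U) m) d (pair u x)).trans ?_
      exact congrArg (m.hom.app (op d)) (snd_pair u x)
  have hinj : ∀ (d : C) (x x' : sec X d), m.hom.app (op d) x = m.hom.app (op d) x' → x = x' := by
    intro d x x' h
    have e : (q U X).hom.app (op d) x = (q U X).hom.app (op d) x' :=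
      (hc d).1 (by rw [hq, hq, h])
    refine sec_ext (Presheaf.equalizerSieve_mem J (toSheafify J (K U X))
      ((toK U X).app (op d) x) ((toK U X).app (op d) x') e) fun V f hf => ?_
    by_cases hV : Nonempty (U.obj.obj (op V))
    · obtain ⟨u⟩ := hV
      have := (hb V).1 (show (prod.map (𝟙 U) m).hom.app (op V) (pair u (X.obj.map f.op x)) =
          (prod.map (𝟙 U) m).hom.app (op V) (pair u (X.obj.map f.op x')) by
        rw [hpair, hpair, NatTrans.naturality_apply, NatTrans.naturality_apply, h])
      simpa only [snd_pair] using congrArg ((prod.snd : U ⨯ X ⟶ X).hom.app (op V)) this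
    · exact congrFun hf ⟨hV⟩
  have hloc : Sheaf.IsLocallySurjective m := ⟨fun {d} y => by
    obtain ⟨z, hz⟩ := (hc d).2 ((q U Y).hom.app (op d) y)
    refine J.transitive (Presheaf.imageSieve_mem J (toSheafify J (K U X)) z) _ fun V f hf => ?_
    obtain ⟨k, hk⟩ := hf
    have e : (toSheafify J (K U Y)).app (op V) (((KFunctor U).map m).app (op V) k) =
        (toSheafify J (K U Y)).app (op V) ((toK U Y).app (op V) (Y.obj.map f.op y)) := by
      refine (ConcreteCategory.congr_hom (NatTrans.congr_app
        (toSheafify_naturality J ((KFunctor U).map m)) (op V)) k).trans ?_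
      show ((closedPart U).map m).hom.app (op V) ((toSheafify J (K U X)).app (op V) k) =
        (q U Y).hom.app (op V) (Y.obj.map f.op y)
      rw [hk]
      refine (NatTrans.naturality_apply ((closedPart U).map m).hom f.op z).trans ?_
      rw [hz]
      exact (NatTrans.naturality_apply (q U Y).hom f.op y).symm
    refine J.superset_covering ?_ (Presheaf.equalizerSieve_mem J (toSheafify J (K U Y)) _ _ e)
    intro W g hg
    show ∃ t, m.hom.app (op W) t = Y.obj.map (g ≫ f).op y
    rw [op_comp, Functor.map_comp_apply]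
    by_cases hW : Nonempty (U.obj.obj (op W))
    · obtain ⟨u⟩ := hW
      obtain ⟨p, hp⟩ := (hb W).2 (pair u (Y.obj.map g.op (Y.obj.map f.op y)))
      refine ⟨(prod.snd : U ⨯ X ⟶ X).hom.app (op W) p, ?_⟩
      have := congrArg ((prod.snd : U ⨯ Y ⟶ Y).hom.app (op W)) hp
      rw [snd_pair] at this
      refine Eq.trans ?_ this
      exact (happ (prod.map_snd (𝟙 U) m) W p).symm
    · refine ⟨((K U X).map g.op k) ⟨hW⟩, ?_⟩
      have := congrFun hg ⟨hW⟩
      refine Eq.trans ?_ this
      exact NatTrans.naturality_apply m.hom g.op _⟩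
  have : Mono m := by
    have : ∀ d, Mono (m.hom.app d) := fun d =>
      (mono_iff_injective _).2 fun a b h => hinj d.unop a b h
    have : Mono ((sheafToPresheaf J (Type u)).map m) := NatTrans.mono_of_mono_app m.hom
    exact (sheafToPresheaf J (Type u)).mono_of_mono_map this
  have : Epi m := (Sheaf.isLocallySurjective_iff_epi' (Type u) m).1 hloc
  exact isIso_of_mono_of_epi m

theorem isIso_star_map_iff {X Y : Sheaf J (Type u)} (m : X ⟶ Y) :
    IsIso ((Over.star U).map m) ↔ IsIso (prod.map (𝟙 U) m) := by
  constructor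
  · intro h
    exact inferInstanceAs (IsIso ((Over.forget U).map ((Over.star U).map m)))
  · intro h
    have : IsIso ((Over.forget U).map ((Over.star U).map m)) := h
    exact isIso_of_reflects_iso _ (Over.forget U)

include hU in
theorem jointly_conservative {L : Sheaf J (Type u) ⥤ (SGA4.closedCompl U).FullSubcategory}
    (adj : L ⊣ (SGA4.closedCompl U).ι) {X Y : Sheaf J (Type u)} (m : X ⟶ Y) :
    IsIso m ↔ IsIso ((Over.star U).map m) ∧ IsIso (L.map m) := by
  refine ⟨fun _ => ⟨inferInstance, inferInstance⟩, fun ⟨h₁, h₂⟩ => ?_⟩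
  exact isIso_of_open_closed U m ((isIso_star_map_iff U m).1 h₁)
    ((isIso_map_iff_of_adj U hU adj m).1 h₂)

include hU in
theorem glued_equivalence [(Over.star U).IsLeftAdjoint]
    {L : Sheaf J (Type u) ⥤ (SGA4.closedCompl U).FullSubcategory}
    (adj : L ⊣ (SGA4.closedCompl U).ι) :
    Nonempty (Sheaf J (Type u) ≌
      Comma (𝟭 (SGA4.closedCompl U).FullSubcategory) ((Over.star U).rightAdjoint ⋙ L)) := by
  have : Mono (terminal.from U) := hU
  have : (Over.forget U).Full := ⟨fun {A B} f => ⟨Over.homMk f (by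
    rw [← cancel_mono (terminal.from U)]
    exact Subsingleton.elim _ _), rfl⟩⟩
  let t : Adjunction.Triple (Over.forget U) (Over.star U) (Over.star U).rightAdjoint :=
    { adj₁ := Over.forgetAdjStar U, adj₂ := Adjunction.ofIsLeftAdjoint (Over.star U) }
  have hff := t.fullyFaithfulEquiv (Functor.FullyFaithful.ofFullyFaithful _)
  have := hff.full
  have := hff.faithful
  have := preservesFiniteLimits_of_adj U hU adj
  have : Reflective (SGA4.closedCompl U).ι := { L := L, adj := adj }
  have : HasEqualizers (SGA4.closedCompl U).FullSubcategory :=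
    hasLimitsOfShape_of_reflective (SGA4.closedCompl U).ι
  have : PreservesFiniteLimits (Over.star U) := inferInstance
  have := ArtinGlue.isEquivalence adj (Adjunction.ofIsLeftAdjoint (Over.star U))
    (fun Z Z' f => (isIso_star_map_iff U _).2 <| by
      have : IsIso (prod.fst : U ⨯ (SGA4.closedCompl U).ι.obj Z ⟶ U) := Z.property
      have : IsIso (prod.fst : U ⨯ (SGA4.closedCompl U).ι.obj Z' ⟶ U) := Z'.property
      have : IsIso (prod.map (𝟙 U) ((SGA4.closedCompl U).ι.map f) ≫ prod.fst) := by
        rw [prod.map_fst, Category.comp_id]; infer_instance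
      exact IsIso.of_isIso_comp_right _ (prod.fst : U ⨯ (SGA4.closedCompl U).ι.obj Z' ⟶ U))
    (fun X Y m h₁ h₂ => (jointly_conservative U hU adj m).2 ⟨h₂, h₁⟩)
  exact ⟨(ArtinGlue.comparison (Adjunction.ofIsLeftAdjoint (Over.star U))).asEquivalence⟩

end GrothLib.Topos.OpenClosed
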