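import Groth.Agent.Lib.Topos.Sheaf
import Groth.Prelude.Def_ToposFin2
import Mathlib.CategoryTheory.Adhesive.Basic
import Mathlib.CategoryTheory.Limits.Shapes.StrictInitial
import Mathlib.CategoryTheory.Limits.Shapes.Diagonal

/-!
# Quasi-compact and quasi-separated objects and morphisms in a sheaf topos
-/

set_option autoImplicit false

universe w w' v u

open CategoryTheory CategoryTheory.Limits Opposite ToposFin

namespace GrothLib.Topos.QC

attribute [local simp] pullback.lift_fst pullback.lift_snd pullback.lift_fst_assoc pullback.lift_snd_assoc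

/-- Jointly epimorphic family. -/
abbrev Fam {E : Type v} [Category.{u} E] {ι : Type w} {H : E} {G : ι → E} (g : ∀ i, G i ⟶ H) :
    Prop :=
  SGA4.IsEpiFamily g

section General

variable {E : Type v} [Category.{u} E]

theorem epi_sigmaDesc_iff_fam {ι : Type w} {X : E} {F : ι → E} [HasCoproduct F]
    (π : ∀ i, F i ⟶ X) : Epi (Sigma.desc π) ↔ Fam π := by
  constructor
  · intro h Z a b hab
    rw [← cancel_epi (Sigma.desc π)]
    exact Sigma.hom_ext _ _ fun i => by simp [hab]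
  · intro h
    exact ⟨fun a b hab => h _ a b fun i => by simpa using congrArg (Sigma.ι F i ≫ ·) hab⟩

theorem fam_of_factor {ι : Type w} {κ : Type w'} {X : E} {F : ι → E} {F' : κ → E}
    {π : ∀ i, F i ⟶ X} {π' : ∀ j, F' j ⟶ X} (hπ : Fam π)
    (h : ∀ i, ∃ (j : κ) (a : F i ⟶ F' j), a ≫ π' j = π i) : Fam π' := by
  intro Z a b hab
  refine hπ Z a b fun i => ?_
  obtain ⟨j, c, hc⟩ := h i
  rw [← hc, Category.assoc, Category.assoc, hab]

theorem fam_comp {ι : Type w} {X : E} {F : ι → E} {π : ∀ i, F i ⟶ X} (hπ : Fam π)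
    {κ : ι → Type w'} {G : ∀ i, κ i → E} {ρ : ∀ i j, G i j ⟶ F i} (hρ : ∀ i, Fam (ρ i)) :
    Fam (fun p : Σ i, κ i => ρ p.1 p.2 ≫ π p.1) := by
  intro Z a b hab
  refine hπ Z a b fun i => hρ i Z _ _ fun j => ?_
  simpa using hab ⟨i, j⟩

theorem fam_single {A X : E} (e : A ⟶ X) [Epi e] : Fam (fun _ : PUnit.{w + 1} => e) :=
  fun _ _ _ h => (cancel_epi e).1 (h PUnit.unit)

theorem fam_cofan {ι : Type w} {F : ι → E} {c : Cofan F} (hc : IsColimit c) :
    Fam (fun i => c.inj i) :=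
  fun _ a b h => Cofan.IsColimit.hom_ext hc a b h

/-- Any two maps out of the object agree. -/
def Empty' (X : E) : Prop := ∀ (Z : E) (a b : X ⟶ Z), a = b

theorem empty'_of_isInitial {X : E} (h : IsInitial X) : Empty' X := fun _ a b => h.hom_ext a b

theorem equalizer_iso_of_iff [HasEqualizers E] {W A B : E} {a b : W ⟶ A} {a' b' : W ⟶ B}
    (h : ∀ ⦃T : E⦄ (t : T ⟶ W), t ≫ a = t ≫ b ↔ t ≫ a' = t ≫ b') :
    Nonempty (equalizer a b ≅ equalizer a' b') :=
  ⟨{ hom := equalizer.lift (equalizer.ι a b) ((h _).1 (equalizer.condition a b))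
     inv := equalizer.lift (equalizer.ι a' b') ((h _).2 (equalizer.condition a' b'))
     hom_inv_id := by ext; simp
     inv_hom_id := by ext; simp }⟩

theorem isPullback_diagonal [HasPullbacks E] [HasEqualizers E] {W X Y : E} (f : X ⟶ Y)
    (a b : W ⟶ X) (h : a ≫ f = b ≫ f) :
    IsPullback (equalizer.ι a b ≫ a) (equalizer.ι a b) (pullback.diagonal f)
      (pullback.lift a b h) := by
  have w : (equalizer.ι a b ≫ a) ≫ pullback.diagonal f =
      equalizer.ι a b ≫ pullback.lift a b h := by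
    apply pullback.hom_ext
    · simp [pullback.diagonal]
    · simpa [pullback.diagonal] using equalizer.condition a b
  have key : ∀ s : PullbackCone (pullback.diagonal f) (pullback.lift a b h),
      s.fst = s.snd ≫ a ∧ s.snd ≫ a = s.snd ≫ b := by
    intro s
    have h₁ := congrArg (· ≫ pullback.fst f f) s.condition
    have h₂ := congrArg (· ≫ pullback.snd f f) s.condition
    simp only [Category.assoc, pullback.diagonal_fst, pullback.diagonal_snd, pullback.lift_fst,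
      pullback.lift_snd, Category.comp_id] at h₁ h₂
    exact ⟨h₁, h₁.symm.trans h₂⟩
  exact ⟨⟨w⟩, ⟨PullbackCone.IsLimit.mk w (fun s => equalizer.lift s.snd (key s).2)
    (fun s => by simp [(key s).1]) (fun s => equalizer.lift_ι _ _)
    (fun s m _ hm₂ => equalizer.hom_ext (hm₂.trans (equalizer.lift_ι _ _).symm))⟩⟩

/-- For equalizers after composing with a map into the source. -/
theorem isPullback_equalizer_comp [HasEqualizers E] {V W X : E} (k : V ⟶ W) (a b : W ⟶ X) :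
    IsPullback (equalizer.lift (equalizer.ι (k ≫ a) (k ≫ b) ≫ k)
        (by simpa [Category.assoc] using equalizer.condition (k ≫ a) (k ≫ b)))
      (equalizer.ι (k ≫ a) (k ≫ b)) (equalizer.ι a b) k :=
  ⟨⟨equalizer.lift_ι _ _⟩, ⟨PullbackCone.IsLimit.mk (equalizer.lift_ι _ _)
    (fun s => equalizer.lift s.snd (by
      rw [← Category.assoc, ← Category.assoc, ← s.condition, Category.assoc, Category.assoc,
        equalizer.condition]))
    (fun s => equalizer.hom_ext (by simp [s.condition]))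
    (fun s => equalizer.lift_ι _ _)
    (fun s m _ hm₂ => equalizer.hom_ext (hm₂.trans (equalizer.lift_ι _ _).symm))⟩⟩

end General

variable {C : Type u} [SmallCategory C] {J : GrothendieckTopology C}

theorem fam_pullback {ι : Type u} {X Y : Sh J} {F : ι → Sh J} {π : ∀ i, F i ⟶ X} (h : Fam π)
    (g : Y ⟶ X) : Fam (fun i => pullback.snd (π i) g) := by
  rw [Fam, isEpiFamily_iff_liftSieve_mem] at h ⊢
  intro U s
  refine J.superset_covering ?_ (h U (g.hom.app (op U) s))
  rintro V f ⟨i, t, ht⟩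
  let a := (secEquiv V (F i)).symm t
  let b := (secEquiv V Y).symm (Y.obj.map f.op s)
  have w : a ≫ π i = b ≫ g := by
    rw [secEquiv_symm_comp, secEquiv_symm_comp, ht, NatTrans.naturality_apply]
  refine ⟨i, secEquiv V _ (pullback.lift a b w), ?_⟩
  rw [← secEquiv_comp, pullback.lift_snd]
  exact Equiv.apply_symm_apply _ _

theorem fam_pullback' {ι : Type u} {X Y : Sh J} {F : ι → Sh J} {π : ∀ i, F i ⟶ X} (h : Fam π)
    (g : Y ⟶ X) : Fam (fun i => pullback.fst g (π i)) :=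
  fam_of_factor (fam_pullback h g) fun i =>
    ⟨i, (pullbackSymmetry (π i) g).hom, pullbackSymmetry_hom_comp_fst _ _⟩

/-- The small-index reindexing of a finite family. -/
theorem fam_ulift {ι : Type w} {X : Sh J} {F : ι → Sh J} {π : ∀ i, F i ⟶ X} (h : Fam π) :
    Fam (fun i : ULift.{w'} ι => π i.down) :=
  fun Z a b hab => h Z a b fun i => hab ⟨i⟩

theorem fam_finite {ι : Type w} [Finite ι] {X : Sh J} {F : ι → Sh J} {π : ∀ i, F i ⟶ X}
    (h : Fam π) : ∃ (n : ℕ) (e : Fin n → ι), Fam (fun k => π (e k)) := by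
  obtain ⟨n, ⟨e⟩⟩ := Finite.exists_equiv_fin ι
  exact ⟨n, e.symm, fun Z a b hab => h Z a b fun i => by
    obtain ⟨k, rfl⟩ := e.symm.surjective i
    exact hab k⟩

theorem isQC_iff {X : Sh J} : IsQC X ↔ ∀ (ι : Type u) (F : ι → Sh J) (π : ∀ i, F i ⟶ X),
    Fam π → ∃ s : Finset ι, Fam (fun i : s => π i) := by
  simp only [IsQC, epi_sigmaDesc_iff_fam]

/-- Extract a finite subfamily. -/
theorem IsQC.exists_finset {X : Sh J} (hX : IsQC X) {ι : Type u} {F : ι → Sh J}
    {π : ∀ i, F i ⟶ X} (h : Fam π) : ∃ s : Finset ι, Fam (fun i : s => π i) :=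
  isQC_iff.1 hX ι F π h

theorem isQC_of_finite_cover {X : Sh J} {κ : Type w} [Finite κ] {G : κ → Sh J}
    {ρ : ∀ k, G k ⟶ X} (hρ : Fam ρ) (hG : ∀ k, IsQC (G k)) : IsQC X := by
  classical
  rw [isQC_iff]
  intro ι F π hπ
  have hs : ∀ k, ∃ s : Finset ι, Fam (fun i : s => pullback.snd (π i) (ρ k)) := fun k =>
    IsQC.exists_finset (hG k) (fam_pullback hπ (ρ k))
  choose s hs using hs
  have := Fintype.ofFinite κ
  refine ⟨Finset.univ.biUnion s, fam_of_factor (fam_comp hρ hs) ?_⟩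
  rintro ⟨k, i, hi⟩
  exact ⟨⟨i, Finset.mem_biUnion.2 ⟨k, Finset.mem_univ k, hi⟩⟩, pullback.fst (π i) (ρ k),
    pullback.condition⟩

theorem isQC_of_epi {X Y : Sh J} (f : X ⟶ Y) [Epi f] (hX : IsQC X) : IsQC Y :=
  isQC_of_finite_cover (fam_single.{0} f) fun _ => hX

theorem isQC_of_iso {X Y : Sh J} (e : X ≅ Y) (hX : IsQC X) : IsQC Y :=
  isQC_of_epi e.hom hX

theorem isQC_of_empty' {X : Sh J} (h : Empty' X) : IsQC X :=
  isQC_iff.2 fun _ _ _ _ => ⟨∅, fun Z a b _ => h Z a b⟩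

theorem isQC_of_isInitial {X : Sh J} (h : IsInitial X) : IsQC X :=
  isQC_of_empty' (empty'_of_isInitial h)

theorem isQC_equalizer_self {W X : Sh J} (a b : W ⟶ X) (h : a = b) (hW : IsQC W) :
    IsQC (equalizer a b) := by
  subst h
  exact isQC_of_iso (asIso (equalizer.ι a a)).symm hW

theorem IsQCHom.isQC_of_isPullback {X Y : Sh J} {f : X ⟶ Y} (hf : IsQCHom f) {P Y' : Sh J}
    {p : P ⟶ X} {q : P ⟶ Y'} {g : Y' ⟶ Y} (sq : IsPullback p q f g) (hY' : IsQC Y') : IsQC P :=
  isQC_of_iso sq.isoPullback.symm (hf Y' g hY')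

theorem isQC_pullback_symm {X Y Z : Sh J} (f : X ⟶ Z) (g : Y ⟶ Z) (h : IsQC (pullback f g)) :
    IsQC (pullback g f) :=
  isQC_of_iso (pullbackSymmetry f g) h

theorem isQCHom_of_isPullback {X Y X' Y' : Sh J} {f : X ⟶ Y} {f' : X' ⟶ Y'} {g : Y' ⟶ Y}
    {g' : X' ⟶ X} (sq : IsPullback g' f' f g) (hf : IsQCHom f) : IsQCHom f' := fun T t hT =>
  IsQCHom.isQC_of_isPullback hf ((IsPullback.of_hasPullback f' t).paste_horiz sq) hT

theorem isQCHom_comp {X Y Z : Sh J} {f : X ⟶ Y} {g : Y ⟶ Z} (hf : IsQCHom f) (hg : IsQCHom g) :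
    IsQCHom (f ≫ g) := by
  intro T t hT
  let Q := pullback g t
  have sq₂ : IsPullback (pullback.fst f (pullback.fst g t))
      (pullback.snd f (pullback.fst g t) ≫ pullback.snd g t) (f ≫ g) t :=
    (IsPullback.of_hasPullback f (pullback.fst g t)).paste_vert (IsPullback.of_hasPullback g t)
  exact isQC_of_iso sq₂.isoPullback (hf Q (pullback.fst g t) (hg T t hT))

theorem isQCHom_of_isIso {X Y : Sh J} (f : X ⟶ Y) [IsIso f] : IsQCHom f := fun _ g hT =>
  isQC_of_iso (asIso (pullback.snd f g)).symm hT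

theorem IsQCHom.isQC {X Y : Sh J} {f : X ⟶ Y} (hf : IsQCHom f) (hY : IsQC Y) : IsQC X :=
  isQC_of_iso (asIso (pullback.fst f (𝟙 Y))) (hf Y (𝟙 Y) hY)

theorem IsQS.isQCHom {X Y : Sh J} (hX : IsQS X) (hY : IsQC Y) (f : Y ⟶ X) : IsQCHom f :=
  fun Z g hZ => hX Y Z f g hY hZ

theorem isQS_iff_isQCHom {X : Sh J} : IsQS X ↔ ∀ (Y : Sh J) (f : Y ⟶ X), IsQC Y → IsQCHom f :=
  ⟨fun h _ f hY => IsQS.isQCHom h hY f, fun h Y Z a b hY hZ => h Y a hY Z b hZ⟩

theorem isQCHom_of_finite_cover {Y Z : Sh J} (g : Y ⟶ Z) {κ : Type} [Finite κ] {X : κ → Sh J}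
    {f : ∀ k, X k ⟶ Y} (hf : Fam f) (h : ∀ k, IsQCHom (f k ≫ g)) : IsQCHom g := by
  intro T t hT
  let p := pullback.fst g t
  refine isQC_of_finite_cover (κ := ULift.{u} κ)
    (fam_pullback (fam_ulift.{0, u} hf) p) fun ⟨k⟩ => ?_
  exact IsQCHom.isQC_of_isPullback (h k)
    ((IsPullback.of_hasPullback (f k) p).paste_vert (IsPullback.of_hasPullback g t)) hT

/-- Finite cover by quasi-compact objects refining a given cover. -/
theorem exists_refinement (hE : HasQCGenerators J) {W : Sh J} (hW : IsQC W) {ι : Type u}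
    {F : ι → Sh J} {π : ∀ i, F i ⟶ W} (hπ : Fam π) :
    ∃ (κ : Type u) (_ : Finite κ) (V : κ → Sh J) (v : ∀ k, V k ⟶ W),
      Fam v ∧ (∀ k, IsQC (V k)) ∧ ∀ k, ∃ (i : ι) (l : V k ⟶ F i), l ≫ π i = v k := by
  choose κ' G ρ hG hρ using fun i => hE (F i)
  simp only [epi_sigmaDesc_iff_fam] at hρ
  obtain ⟨s, hs⟩ := IsQC.exists_finset hW (fam_comp hπ hρ)
  exact ⟨s, inferInstance, fun p => G p.1.1 p.1.2, fun p => ρ p.1.1 p.1.2 ≫ π p.1.1, hs,
    fun p => hG p.1.1 p.1.2, fun p => ⟨p.1.1, ρ p.1.1 p.1.2, rfl⟩⟩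

theorem isQCHom_local {X Y : Sh J} (f : X ⟶ Y) (hE : HasQCGenerators J) {ι : Type u}
    {Yi : ι → Sh J} {g : ∀ i, Yi i ⟶ Y} (hg : Fam g)
    (h : ∀ i, IsQCHom (pullback.snd f (g i))) : IsQCHom f := by
  intro T t hT
  obtain ⟨κ, _, V, v, hv, hV, hl⟩ := exists_refinement hE hT (fam_pullback hg t)
  refine isQC_of_finite_cover (fam_pullback hv (pullback.snd f t)) fun k => ?_
  obtain ⟨i, l, hl⟩ := hl k
  let c : V k ⟶ Yi i := l ≫ pullback.fst (g i) t
  have hc : c ≫ g i = v k ≫ t := by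
    rw [← hl, Category.assoc, Category.assoc, pullback.condition]
  have sq₁ : IsPullback (pullback.fst (pullback.snd f (g i)) c ≫ pullback.fst f (g i))
      (pullback.snd (pullback.snd f (g i)) c) f (c ≫ g i) :=
    (IsPullback.of_hasPullback (pullback.snd f (g i)) c).paste_horiz
      (IsPullback.of_hasPullback f (g i))
  have sq₂ : IsPullback (pullback.snd (v k) (pullback.snd f t) ≫ pullback.fst f t)
      (pullback.fst (v k) (pullback.snd f t)) f (v k ≫ t) :=
    (IsPullback.of_hasPullback (v k) (pullback.snd f t)).flip.paste_horiz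
      (IsPullback.of_hasPullback f t)
  rw [hc] at sq₁
  exact isQC_of_iso (sq₁.isoPullback ≪≫ sq₂.isoPullback.symm) (h i _ c (hV k))

/-! ### Quasi-separated morphisms -/

theorem isQSHom_iff {X Y : Sh J} (f : X ⟶ Y) : IsQSHom f ↔
    ∀ (W : Sh J) (a b : W ⟶ X), IsQC W → a ≫ f = b ≫ f → IsQC (equalizer a b) := by
  constructor
  · intro hf W a b hW h
    exact IsQCHom.isQC_of_isPullback hf (isPullback_diagonal f a b h) hW
  · intro h W t hW
    have hab : (t ≫ pullback.fst f f) ≫ f = (t ≫ pullback.snd f f) ≫ f := by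
      simp [pullback.condition]
    have e : pullback.lift _ _ hab = t := pullback.hom_ext (by simp) (by simp)
    have sq := isPullback_diagonal f (t ≫ pullback.fst f f) (t ≫ pullback.snd f f) hab
    rw [e] at sq
    exact isQC_of_iso sq.isoPullback (h W _ _ hW hab)

theorem isQSHom_of_comp {X Y Z : Sh J} {f : X ⟶ Y} {g : Y ⟶ Z} (h : IsQSHom (f ≫ g)) :
    IsQSHom f := by
  rw [isQSHom_iff] at h ⊢
  exact fun W a b hW hab => h W a b hW (by rw [reassoc_of% hab])

theorem isQSHom_of_mono {X Y : Sh J} (u : X ⟶ Y) [Mono u] : IsQSHom u := by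
  rw [isQSHom_iff]
  exact fun W a b hW hab => isQC_equalizer_self a b ((cancel_mono u).1 hab) hW

theorem isQSHom_comp {X Y Z : Sh J} {f : X ⟶ Y} {g : Y ⟶ Z} (hf : IsQSHom f) (hg : IsQSHom g) :
    IsQSHom (f ≫ g) := by
  rw [isQSHom_iff] at hf hg ⊢
  intro W a b hW hab
  have h₁ : IsQC (equalizer (a ≫ f) (b ≫ f)) := hg W _ _ hW (by simpa using hab)
  let ι := equalizer.ι (a ≫ f) (b ≫ f)
  have h₂ : IsQC (equalizer (ι ≫ a) (ι ≫ b)) :=
    hf _ _ _ h₁ (by simpa [Category.assoc, ι] using equalizer.condition (a ≫ f) (b ≫ f))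
  refine isQC_of_iso
    { hom := equalizer.lift (equalizer.ι (ι ≫ a) (ι ≫ b) ≫ ι)
        (by simpa [Category.assoc] using equalizer.condition (ι ≫ a) (ι ≫ b))
      inv := equalizer.lift (equalizer.lift (equalizer.ι a b) (by
          rw [← Category.assoc, equalizer.condition, Category.assoc]))
        (by simpa [ι] using equalizer.condition a b)
      hom_inv_id := by
        apply equalizer.hom_ext
        apply equalizer.hom_ext
        simp [ι]
      inv_hom_id := by apply equalizer.hom_ext; simp [ι] } h₂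

theorem isQSHom_of_isPullback {X Y X' Y' : Sh J} {f : X ⟶ Y} {f' : X' ⟶ Y'} {g : Y' ⟶ Y}
    {g' : X' ⟶ X} (sq : IsPullback g' f' f g) (hf : IsQSHom f) : IsQSHom f' := by
  rw [isQSHom_iff] at hf ⊢
  intro W a b hW hab
  have h := hf W (a ≫ g') (b ≫ g') hW (by
    rw [Category.assoc, Category.assoc, sq.w, reassoc_of% hab])
  refine isQC_of_iso (equalizer_iso_of_iff fun T t => ?_).some h
  refine ⟨fun h' => sq.hom_ext (by simpa using h') (by simp [hab]), fun h' => ?_⟩
  rw [reassoc_of% h']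

theorem isQSHom_of_isIso {X Y : Sh J} (f : X ⟶ Y) [IsIso f] : IsQSHom f := isQSHom_of_mono f

theorem isQCHom_of_comp_of_isQSHom {X Y Z : Sh J} {f : X ⟶ Y} {g : Y ⟶ Z} (hg : IsQSHom g)
    (h : IsQCHom (f ≫ g)) : IsQCHom f := by
  rw [isQSHom_iff] at hg
  intro W t hW
  have h₁ := h W (t ≫ g) hW
  have h₂ := hg _ (pullback.fst (f ≫ g) (t ≫ g) ≫ f) (pullback.snd (f ≫ g) (t ≫ g) ≫ t) h₁
    (by simp [pullback.condition])
  refine isQC_of_iso
    { hom := pullback.lift
        (equalizer.ι _ _ ≫ pullback.fst (f ≫ g) (t ≫ g))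
        (equalizer.ι _ _ ≫ pullback.snd (f ≫ g) (t ≫ g))
        (by simpa [Category.assoc] using
              equalizer.condition (pullback.fst (f ≫ g) (t ≫ g) ≫ f) (pullback.snd (f ≫ g) (t ≫ g) ≫ t))
      inv := equalizer.lift (pullback.lift (pullback.fst f t) (pullback.snd f t)
        (by rw [pullback.condition_assoc])) (by simp [pullback.condition])
      hom_inv_id := by
        apply equalizer.hom_ext
        apply pullback.hom_ext <;> simp
      inv_hom_id := by apply pullback.hom_ext <;> simp } h₂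

theorem isQS_of_isQSHom {X Y : Sh J} {f : X ⟶ Y} (hf : IsQSHom f) (hY : IsQS Y) : IsQS X := by
  rw [isQSHom_iff] at hf
  intro A B a b hA hB
  have h₁ := hY A B (a ≫ f) (b ≫ f) hA hB
  have h₂ := hf _ (pullback.fst (a ≫ f) (b ≫ f) ≫ a) (pullback.snd (a ≫ f) (b ≫ f) ≫ b) h₁
    (by simp [pullback.condition])
  refine isQC_of_iso
    { hom := pullback.lift
        (equalizer.ι _ _ ≫ pullback.fst (a ≫ f) (b ≫ f))
        (equalizer.ι _ _ ≫ pullback.snd (a ≫ f) (b ≫ f))
        (by simpa [Category.assoc] using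
              equalizer.condition (pullback.fst (a ≫ f) (b ≫ f) ≫ a) (pullback.snd (a ≫ f) (b ≫ f) ≫ b))
      inv := equalizer.lift (pullback.lift (pullback.fst a b) (pullback.snd a b)
        (by rw [pullback.condition_assoc])) (by simp [pullback.condition])
      hom_inv_id := by
        apply equalizer.hom_ext
        apply pullback.hom_ext <;> simp
      inv_hom_id := by apply pullback.hom_ext <;> simp } h₂

theorem isQS_of_mono {X Y : Sh J} (i : X ⟶ Y) [Mono i] (hY : IsQS Y) : IsQS X :=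
  isQS_of_isQSHom (isQSHom_of_mono i) hY

theorem isQS_of_iso {X Y : Sh J} (e : X ≅ Y) (hX : IsQS X) : IsQS Y := isQS_of_mono e.inv hX

theorem isCoherent_of_iso {X Y : Sh J} (e : X ≅ Y) (hX : IsCoherent X) : IsCoherent Y :=
  ⟨isQC_of_iso e hX.1, isQS_of_iso e hX.2⟩

theorem isQSHom_local {X Y : Sh J} (f : X ⟶ Y) (hE : HasQCGenerators J) {ι : Type u}
    {Yi : ι → Sh J} {g : ∀ i, Yi i ⟶ Y} (hg : Fam g)
    (h : ∀ i, IsQSHom (pullback.snd f (g i))) : IsQSHom f := by
  rw [isQSHom_iff]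
  intro W a b hW hab
  obtain ⟨κ, _, V, v, hv, hV, hl⟩ := exists_refinement hE hW (fam_pullback hg (a ≫ f))
  refine isQC_of_finite_cover (fam_pullback hv (equalizer.ι a b)) fun k => ?_
  obtain ⟨i, l, hl⟩ := hl k
  let c : V k ⟶ Yi i := l ≫ pullback.fst (g i) (a ≫ f)
  have hc : c ≫ g i = v k ≫ a ≫ f := by
    rw [← hl, Category.assoc, Category.assoc, pullback.condition]
  let a' : V k ⟶ pullback f (g i) := pullback.lift (v k ≫ a) c (by simp [hc])
  let b' : V k ⟶ pullback f (g i) := pullback.lift (v k ≫ b) c (by simp [hc, hab])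
  have h₁ := (isQSHom_iff _).1 (h i) (V k) a' b' (hV k) (by simp [a', b'])
  have e := (equalizer_iso_of_iff (a := a') (b := b') (a' := v k ≫ a) (b' := v k ≫ b) fun T t => by
    constructor
    · intro h'
      simpa [a', b'] using congrArg (· ≫ pullback.fst f (g i)) h'
    · intro h'
      apply pullback.hom_ext <;> simp [a', b', h']).some
  exact isQC_of_iso (e ≪≫ (isPullback_equalizer_comp (v k) a b).flip.isoPullback) h₁

theorem isQS_of_qs_cover (hE : HasQCGenerators J) {Y : Sh J} {ι : Type u} {Yi : ι → Sh J}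
    {g : ∀ i, Yi i ⟶ Y} (hg : Fam g) (hqs : ∀ i, IsQS (Yi i)) (hqc : ∀ i, IsQCHom (g i)) :
    IsQS Y := by
  rw [isQS_iff_isQCHom]
  intro W a hW
  obtain ⟨κ, _, V, v, hv, hV, hl⟩ := exists_refinement hE hW (fam_pullback hg a)
  obtain ⟨n, e, hn⟩ := fam_finite hv
  refine isQCHom_of_finite_cover a hn fun k => ?_
  obtain ⟨i, l, hl⟩ := hl (e k)
  rw [← hl, Category.assoc, ← pullback.condition, ← Category.assoc]
  exact isQCHom_comp (IsQS.isQCHom (hqs i) (hV (e k)) _) (hqc i)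

theorem isQS_iff_of_coherent_cover (hE : HasQCGenerators J) {Y : Sh J} {ι : Type u}
    {Yi : ι → Sh J} {g : ∀ i, Yi i ⟶ Y} (hg : Fam g) (hY : ∀ i, IsCoherent (Yi i)) :
    (IsQS Y ↔ ∀ i, IsQCHom (g i)) ∧ (IsQS Y ↔ ∀ i j, IsQC (pullback (g i) (g j))) := by
  have h₁ : IsQS Y ↔ ∀ i, IsQCHom (g i) :=
    ⟨fun h i => IsQS.isQCHom h (hY i).1 (g i),
      fun h => isQS_of_qs_cover hE hg (fun i => (hY i).2) h⟩
  refine ⟨h₁, fun h i j => h _ _ _ _ (hY i).1 (hY j).1, fun h => h₁.2 fun i => ?_⟩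
  exact isQCHom_local (g i) hE hg fun j => IsQS.isQCHom (hY j).2 (h i j) _

/-! ### Generators -/

theorem hasQCGenerators_of_gen {α : Type u} (G : α → Sh J) (hG : ∀ a, IsQC (G a))
    (hgen : ∀ X : Sh J, ∃ (ι : Type u) (a : ι → α) (π : ∀ i, G (a i) ⟶ X), Epi (Sigma.desc π)) :
    HasQCGenerators J := fun X => by
  obtain ⟨ι, a, π, hπ⟩ := hgen X
  exact ⟨ι, fun i => G (a i), π, fun i => hG (a i), hπ⟩

theorem hasQCGenerators_of_isGenerating {S : Set (Sh J)} (hqc : ∀ K ∈ S, IsQC K)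
    (hgen : IsGenerating S) : HasQCGenerators J := fun X => by
  obtain ⟨ι, F, π, hF, hπ⟩ := hgen X
  exact ⟨ι, F, π, fun i => hqc _ (hF i), (epi_sigmaDesc_iff_fam π).2 hπ⟩

theorem hasQCGenerators_of_hasCoherentGenerators (hE : HasCoherentGenerators J) :
    HasQCGenerators J := fun X => by
  obtain ⟨ι, F, π, hF, hπ⟩ := hE X
  exact ⟨ι, F, π, fun i => (hF i).1, hπ⟩

/-- A finite cover of a quasi-compact object by members of a generating class. -/
theorem exists_finite_cover {P : Sh J → Prop}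
    (hgen : ∀ X : Sh J, ∃ (ι : Type u) (F : ι → Sh J) (π : ∀ i, F i ⟶ X), (∀ i, P (F i)) ∧ Fam π)
    {W : Sh J} (hW : IsQC W) :
    ∃ (n : ℕ) (V : Fin n → Sh J) (v : ∀ k, V k ⟶ W), Fam v ∧ ∀ k, P (V k) := by
  obtain ⟨ι, F, π, hF, hπ⟩ := hgen W
  obtain ⟨s, hs⟩ := IsQC.exists_finset hW hπ
  obtain ⟨n, e, hn⟩ := fam_finite hs
  exact ⟨n, fun k => F (e k).1, fun k => π (e k).1, hn, fun k => hF _⟩

/-- Refinement by members of a generating class. -/
theorem exists_refinement_mem {P : Sh J → Prop}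
    (hgen : ∀ X : Sh J, ∃ (ι : Type u) (F : ι → Sh J) (π : ∀ i, F i ⟶ X), (∀ i, P (F i)) ∧ Fam π)
    {W : Sh J} (hW : IsQC W) {ι : Type u} {F : ι → Sh J} {π : ∀ i, F i ⟶ W} (hπ : Fam π) :
    ∃ (κ : Type u) (_ : Finite κ) (V : κ → Sh J) (v : ∀ k, V k ⟶ W),
      Fam v ∧ (∀ k, P (V k)) ∧ ∀ k, ∃ (i : ι) (l : V k ⟶ F i), l ≫ π i = v k := by
  choose κ' G ρ hG hρ using fun i => hgen (F i)
  obtain ⟨s, hs⟩ := IsQC.exists_finset hW (fam_comp hπ hρ)
  exact ⟨s, inferInstance, fun p => G p.1.1 p.1.2, fun p => ρ p.1.1 p.1.2 ≫ π p.1.1, hs,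
    fun p => hG p.1.1 p.1.2, fun p => ⟨p.1.1, ρ p.1.1 p.1.2, rfl⟩⟩

theorem isQCHom_of_generators {P : Sh J → Prop}
    (hgen : ∀ X : Sh J, ∃ (ι : Type u) (F : ι → Sh J) (π : ∀ i, F i ⟶ X), (∀ i, P (F i)) ∧ Fam π)
    {X Y : Sh J} (f : X ⟶ Y) (h : ∀ K, P K → ∀ s : K ⟶ Y, IsQC (pullback f s)) : IsQCHom f := by
  intro T t hT
  obtain ⟨n, V, v, hv, hV⟩ := exists_finite_cover hgen hT
  refine isQC_of_finite_cover (fam_pullback (fam_ulift.{0, u} hv) (pullback.snd f t)) fun k => ?_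
  exact isQC_of_iso (((IsPullback.of_hasPullback (v k.down) (pullback.snd f t)).flip.paste_horiz
    (IsPullback.of_hasPullback f t)).isoPullback).symm (h _ (hV k.down) (v k.down ≫ t))

theorem isQS_of_generators {P : Sh J → Prop}
    (hgen : ∀ X : Sh J, ∃ (ι : Type u) (F : ι → Sh J) (π : ∀ i, F i ⟶ X), (∀ i, P (F i)) ∧ Fam π)
    {Y : Sh J} (h : ∀ K, P K → ∀ s : K ⟶ Y, IsQCHom s) : IsQS Y := by
  rw [isQS_iff_isQCHom]
  intro W a hW
  obtain ⟨n, V, v, hv, hV⟩ := exists_finite_cover hgen hW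
  exact isQCHom_of_finite_cover a hv fun k => h _ (hV k) _

/-- Quasi-separated source and quasi-separated fibre products of a quasi-compact cover of the
source: the morphism is quasi-separated. -/
theorem isQSHom_of_cover_qs_products (hE : HasQCGenerators J) {X Y : Sh J} (f : X ⟶ Y)
    {ι : Type u} {Xi : ι → Sh J} {g : ∀ i, Xi i ⟶ X} (hg : Fam g) (hqc : ∀ i, IsQC (Xi i))
    (hqs : ∀ i j, IsQS (pullback (g i ≫ f) (g j ≫ f))) (hX : IsQS X) : IsQSHom f := by
  rw [isQSHom_iff]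
  intro W a b hW hab
  have hfam : Fam (fun p : Σ _ : ι, ι =>
      pullback.snd (g p.2) (pullback.snd (g p.1) a ≫ b) ≫ pullback.snd (g p.1) a) :=
    fam_comp (fam_pullback hg a) fun i => fam_pullback hg (pullback.snd (g i) a ≫ b)
  obtain ⟨κ, _, V, v, hv, hV, hl⟩ := exists_refinement hE hW hfam
  refine isQC_of_finite_cover (fam_pullback hv (equalizer.ι a b)) fun k => ?_
  obtain ⟨⟨i, j⟩, l, hl⟩ := hl k
  obtain ⟨a', ha'⟩ : ∃ a' : V k ⟶ Xi i, a' ≫ g i = v k ≫ a :=
    ⟨(l ≫ pullback.snd (g j) (pullback.snd (g i) a ≫ b)) ≫ pullback.fst (g i) a,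
      by simp only [Category.assoc, pullback.condition, ← hl]⟩
  obtain ⟨b', hb'⟩ : ∃ b' : V k ⟶ Xi j, b' ≫ g j = v k ≫ b :=
    ⟨l ≫ pullback.fst (g j) (pullback.snd (g i) a ≫ b),
      by simp only [Category.assoc, pullback.condition, ← hl]⟩
  let t : V k ⟶ pullback (g i ≫ f) (g j ≫ f) := pullback.lift a' b'
    (by rw [← Category.assoc, ← Category.assoc, ha', hb', Category.assoc, Category.assoc, hab])
  let d : pullback (g i) (g j) ⟶ pullback (g i ≫ f) (g j ≫ f) :=
    pullback.lift (pullback.fst _ _) (pullback.snd _ _) (by rw [pullback.condition_assoc])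
  have h₁ : IsQC (pullback t d) := hqs i j _ _ t d (hV k) (hX _ _ _ _ (hqc i) (hqc j))
  have hsq : IsPullback (equalizer.ι (v k ≫ a) (v k ≫ b))
      (pullback.lift (equalizer.ι (v k ≫ a) (v k ≫ b) ≫ a')
        (equalizer.ι (v k ≫ a) (v k ≫ b) ≫ b')
        (by rw [Category.assoc, Category.assoc, ha', hb', equalizer.condition])) t d := by
    refine ⟨⟨by apply pullback.hom_ext <;> simp [t, d]⟩,
      ⟨PullbackCone.IsLimit.mk _ (fun s => equalizer.lift s.fst ?_) (fun s => equalizer.lift_ι _ _)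
        (fun s => ?_) (fun s m hm₁ _ => equalizer.hom_ext (hm₁.trans (equalizer.lift_ι _ _).symm))⟩⟩
    · have e₁ : s.fst ≫ a' = s.snd ≫ pullback.fst (g i) (g j) := by
        simpa [t, d] using congrArg (· ≫ pullback.fst (g i ≫ f) (g j ≫ f)) s.condition
      have e₂ : s.fst ≫ b' = s.snd ≫ pullback.snd (g i) (g j) := by
        simpa [t, d] using congrArg (· ≫ pullback.snd (g i ≫ f) (g j ≫ f)) s.condition
      rw [← ha', ← hb', ← Category.assoc, ← Category.assoc, e₁, e₂, Category.assoc, Category.assoc,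
        pullback.condition]
    · apply pullback.hom_ext
      · simpa [t, d] using congrArg (· ≫ pullback.fst (g i ≫ f) (g j ≫ f)) s.condition
      · simpa [t, d] using congrArg (· ≫ pullback.snd (g i ≫ f) (g j ≫ f)) s.condition
  exact isQC_of_iso (hsq.isoPullback.symm ≪≫
    (isPullback_equalizer_comp (v k) a b).flip.isoPullback) h₁

/-! ### Coproducts -/

theorem isQC_summand {ι : Type u} {F : ι → Sh J} {c : Cofan F} (hc : IsColimit c)
    (h : IsQC c.pt) (i : ι) : IsQC (F i) := by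
  classical
  rw [isQC_iff]
  intro κ G π hπ
  obtain ⟨s, hs⟩ := IsQC.exists_finset h (π := fun o : κ ⊕ {k // k ≠ i} => show
      Sum.elim G (fun k => F k.1) o ⟶ c.pt from match o with
      | .inl j => π j ≫ c.inj i
      | .inr k => c.inj k.1) (by
    intro Z a b hab
    refine Cofan.IsColimit.hom_ext hc a b fun k => ?_
    by_cases hk : k = i
    · subst hk
      exact hπ Z _ _ fun j => by simpa using hab (.inl j)
    · exact hab (.inr ⟨k, hk⟩))
  refine ⟨s.toLeft, fun Z a b hab => ?_⟩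
  have hdisj : CoproductDisjoint (fun _ : ULift.{u} Bool => Z ⨯ ⊤_ (Sh J)) := by
    obtain ⟨c', hc', h', -⟩ :=
      hasDisjointUniversalCoproducts (J := J) (ULift.{u} Bool) (fun _ => Z ⨯ ⊤_ (Sh J))
    exact h'
  let T : Option PUnit.{u + 1} → Sh J := fun o => o.elim c.pt fun _ => Z
  have hdisjT : CoproductDisjoint T := by
    obtain ⟨c', hc', h', -⟩ := hasDisjointUniversalCoproducts (J := J) (Option PUnit.{u + 1}) T
    exact h'
  let z : Z ⟶ ∐ T := Sigma.ι T (some PUnit.unit)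
  let r : c.pt ⟶ ∐ T := Sigma.ι T none
  have : Mono z := Mono.ι_of_coproductDisjoint _
  let A : ∀ d : F i ⟶ Z, ∀ k, F k ⟶ ∐ T := fun d k =>
    if hk : k = i then eqToHom (by rw [hk]) ≫ d ≫ z else c.inj k ≫ r
  have key : Cofan.IsColimit.desc hc (A a) = Cofan.IsColimit.desc hc (A b) := by
    refine hs _ _ _ ?_
    rintro ⟨j | k, hmem⟩
    · show (π j ≫ c.inj i) ≫ _ = (π j ≫ c.inj i) ≫ _
      rw [Category.assoc, Category.assoc, Cofan.IsColimit.fac, Cofan.IsColimit.fac]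
      simp [A, reassoc_of% (hab ⟨j, Finset.mem_toLeft.2 hmem⟩)]
    · show c.inj k.1 ≫ _ = c.inj k.1 ≫ _
      simp [A, k.2]
  have := congrArg (c.inj i ≫ ·) key
  simp [A] at this
  exact (cancel_mono z).1 this

theorem isQCHom_cofan_inj {ι : Type u} {F : ι → Sh J} {c : Cofan F} (hc : IsColimit c) (i : ι) :
    IsQCHom (c.inj i) := by
  intro T t hT
  obtain ⟨c', hc', -, hu'⟩ := hasDisjointUniversalCoproducts (J := J) ι F
  have hu : IsUniversalColimit c := hu'.of_iso (hc'.uniqueUpToIso hc)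
  obtain ⟨d⟩ := hu (Cofan.mk T fun j : ι => pullback.snd (c.inj j) t)
    (Discrete.natTrans fun j : Discrete ι => pullback.fst (c.inj j.as) t) t
    (NatTrans.ext (funext fun ⟨j⟩ => pullback.condition)) (.of_discrete _)
    (fun j => (IsPullback.of_hasPullback (c.inj j.as) t).flip)
  exact isQC_summand d hT i

theorem isQSHom_cofan_desc_iff {Y : Sh J} {ι : Type u} {X : ι → Sh J} {c : Cofan X}
    (hc : IsColimit c) (f : c.pt ⟶ Y) : IsQSHom f ↔ ∀ i, IsQSHom (c.inj i ≫ f) := by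
  have hd : CoproductDisjoint X := by
    obtain ⟨c', hc', h', -⟩ := hasDisjointUniversalCoproducts (J := J) ι X
    exact h'
  have : ∀ i, Mono (c.inj i) := fun i => Mono.of_coproductDisjoint hc i
  refine ⟨fun h i => isQSHom_comp (isQSHom_of_mono _) h, fun h => ?_⟩
  rw [isQSHom_iff]
  intro W a b hW hab
  have hfam : Fam (fun p : Σ _ : ι, ι =>
      pullback.snd (c.inj p.2) (pullback.snd (c.inj p.1) a ≫ b) ≫ pullback.snd (c.inj p.1) a) :=
    fam_comp (fam_pullback (fam_cofan hc) a)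
      fun i => fam_pullback (fam_cofan hc) (pullback.snd (c.inj i) a ≫ b)
  obtain ⟨s, hs⟩ := IsQC.exists_finset hW hfam
  refine isQC_of_finite_cover (fam_pullback hs (equalizer.ι a b)) fun ⟨⟨i, j⟩, _⟩ => ?_
  let V := pullback (c.inj j) (pullback.snd (c.inj i) a ≫ b)
  have hV : IsQC V := isQCHom_cofan_inj hc j _ _ (isQCHom_cofan_inj hc i _ a hW)
  let v : V ⟶ W := pullback.snd (c.inj j) _ ≫ pullback.snd (c.inj i) a
  obtain ⟨a', ha'⟩ : ∃ a' : V ⟶ X i, a' ≫ c.inj i = v ≫ a :=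
    ⟨pullback.snd (c.inj j) _ ≫ pullback.fst (c.inj i) a, by simp [v, pullback.condition]⟩
  obtain ⟨b', hb'⟩ : ∃ b' : V ⟶ X j, b' ≫ c.inj j = v ≫ b :=
    ⟨pullback.fst (c.inj j) _, by simp [v, pullback.condition]⟩
  refine isQC_of_iso (isPullback_equalizer_comp v a b).flip.isoPullback ?_
  by_cases hij : i = j
  · subst hij
    have h₁ := (isQSHom_iff _).1 (h i) V a' b' hV
      (by rw [reassoc_of% ha', reassoc_of% hb', hab])
    refine isQC_of_iso (equalizer_iso_of_iff fun T t => ?_).some h₁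
    rw [← ha', ← hb', ← Category.assoc, ← Category.assoc, cancel_mono]
  · let hI : IsInitial (pullback (c.inj i) (c.inj j)) :=
      IsInitial.ofCoproductDisjointOfIsColimitOfIsLimit hij hc (pullback.isLimit _ _)
    let m : equalizer (v ≫ a) (v ≫ b) ⟶ pullback (c.inj i) (c.inj j) :=
      pullback.lift (equalizer.ι _ _ ≫ a') (equalizer.ι _ _ ≫ b')
        (by simp only [Category.assoc, ha', hb']; exact equalizer.condition _ _)
    have : IsIso m := hI.isIso_to m
    exact isQC_of_isInitial (hI.ofIso (asIso m).symm)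

end GrothLib.Topos.QC
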