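import Groth.Prelude.Def_SGA4a
import Mathlib.CategoryTheory.Sites.RegularEpi
import Mathlib.CategoryTheory.Sites.Subsheaf
import Mathlib.CategoryTheory.Sites.EpiMono
import Mathlib.CategoryTheory.Limits.Types.Coproducts
import Mathlib.CategoryTheory.Limits.Types.Pullbacks
import Groth.Agent.Lib.Topos.Giraud

/-!
# The topos of sheaves of sets on a small site

Jointly epimorphic families are the locally jointly surjective ones; coproducts are disjoint and
universal; equivalence relations are effective and universal.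
-/

set_option autoImplicit false

universe u

open CategoryTheory CategoryTheory.Limits Opposite

namespace GrothLib.Topos

variable {C : Type u} [SmallCategory C] {J : GrothendieckTopology C}

/-- The value functor on sections. -/
abbrev sec (F : Sheaf J (Type u)) (U : C) : Type u := F.obj.obj (op U)

/-- Sections over `U` are maps out of the sheafified representable. -/
noncomputable def secEquiv (U : C) (F : Sheaf J (Type u)) :
    ((presheafToSheaf J (Type u)).obj (yoneda.obj U) ⟶ F) ≃ sec F U :=
  ((sheafificationAdjunction J (Type u)).homEquiv _ _).trans yonedaEquiv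

theorem secEquiv_comp {U : C} {F G : Sheaf J (Type u)}
    (a : (presheafToSheaf J (Type u)).obj (yoneda.obj U) ⟶ F) (g : F ⟶ G) :
    secEquiv U G (a ≫ g) = g.hom.app (op U) (secEquiv U F a) := by
  simp only [secEquiv, Equiv.trans_apply, Adjunction.homEquiv_naturality_right]
  exact yonedaEquiv_comp _ _

theorem secEquiv_symm_comp {U : C} {F G : Sheaf J (Type u)} (s : sec F U) (g : F ⟶ G) :
    (secEquiv U F).symm s ≫ g = (secEquiv U G).symm (g.hom.app (op U) s) := by
  rw [Equiv.eq_symm_apply, secEquiv_comp, Equiv.apply_symm_apply]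

theorem hom_ext_sec {F G : Sheaf J (Type u)} {f g : F ⟶ G}
    (h : ∀ (U : C) (s : sec F U), f.hom.app (op U) s = g.hom.app (op U) s) : f = g := by
  apply Sheaf.hom_ext
  ext U s
  exact h U.unop s

/-- The sieve where a section lies in the union of the images of a family. -/
def liftSieve {ι : Type*} {X : Sheaf J (Type u)} {F : ι → Sheaf J (Type u)} (π : ∀ i, F i ⟶ X)
    {U : C} (s : sec X U) : Sieve U where
  arrows V f := ∃ (i : ι) (t : sec (F i) V), (π i).hom.app (op V) t = X.obj.map f.op s
  downward_closed := by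
    rintro V W f ⟨i, t, ht⟩ g
    refine ⟨i, (F i).obj.map g.op t, ?_⟩
    rw [NatTrans.naturality_apply, ht, op_comp, Functor.map_comp_apply]

theorem isEpiFamily_iff_liftSieve_mem {ι : Type u} {X : Sheaf J (Type u)}
    {F : ι → Sheaf J (Type u)} (π : ∀ i, F i ⟶ X) :
    SGA4.IsEpiFamily π ↔ ∀ (U : C) (s : sec X U), liftSieve π s ∈ J U := by
  constructor
  · intro h U s
    have hs : Sheaf.IsLocallySurjective (Sigma.desc π) := by
      have : Epi (Sigma.desc π) := ⟨fun a b hab => h _ a b fun i => by
        simpa using congrArg (Sigma.ι F i ≫ ·) hab⟩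
      exact (Sheaf.isLocallySurjective_iff_epi' (Type u) (Sigma.desc π)).2 this
    -- the union of the components is locally everything
    let P : Subfunctor (∐ F).obj :=
      { obj := fun V => {x | ∃ (i : ι) (t : (F i).obj.obj V), (Sigma.ι F i).hom.app V t = x}
        map := by
          rintro V W f x ⟨i, t, rfl⟩
          exact ⟨i, (F i).obj.map f t, NatTrans.naturality_apply _ _ _⟩ }
    let Q : Sheaf J (Type u) :=
      ⟨(P.sheafify J).toFunctor, (isSheaf_iff_isSheaf_of_type _ _).2
        (P.sheafify_isSheaf ((isSheaf_iff_isSheaf_of_type _ _).1 (∐ F).property))⟩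
    let j : Q ⟶ ∐ F := ⟨(P.sheafify J).ι⟩
    let l : ∐ F ⟶ Q := Sigma.desc fun i => ⟨
      { app := fun V => ↾fun t => ⟨(Sigma.ι F i).hom.app V t, P.le_sheafify J V ⟨i, t, rfl⟩⟩
        naturality := fun V W f => by
          ext t
          exact Subtype.ext (NatTrans.naturality_apply _ _ _) }⟩
    have hl : l ≫ j = 𝟙 _ := by
      apply Sigma.hom_ext
      intro i
      rw [← Category.assoc, Sigma.ι_desc, Category.comp_id]
      rfl
    refine J.transitive (Presheaf.imageSieve_mem J (Sigma.desc π).hom s) _ fun V f hf => ?_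
    obtain ⟨z, hz⟩ := hf
    have hz' : z ∈ (P.sheafify J).obj (op V) := by
      have := ConcreteCategory.congr_hom (NatTrans.congr_app (congrArg (·.hom) hl) (op V)) z
      rw [show z = j.hom.app (op V) (l.hom.app (op V) z) from this.symm]
      exact (l.hom.app (op V) z).2
    refine J.superset_covering ?_ hz'
    rintro W g ⟨i, t, ht⟩
    refine ⟨i, t, ?_⟩
    have : (π i).hom.app (op W) t = (Sigma.desc π).hom.app (op W) ((Sigma.ι F i).hom.app (op W) t) := by
      rw [← ConcreteCategory.comp_apply, ← NatTrans.comp_app, ← ObjectProperty.FullSubcategory.comp_hom,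
        Sigma.ι_desc]
    rw [this, ht, NatTrans.naturality_apply, hz, op_comp, Functor.map_comp_apply]
  · intro h Z a b hab
    refine hom_ext_sec fun U s => ?_
    refine (((isSheaf_iff_isSheaf_of_type _ _).1 Z.property) _ (h U s)).isSeparatedFor.ext ?_
    rintro V f ⟨i, t, ht⟩
    rw [← NatTrans.naturality_apply, ← NatTrans.naturality_apply, ← ht]
    exact ConcreteCategory.congr_hom (NatTrans.congr_app (congrArg (·.hom) (hab i)) (op V)) t

theorem epi_sigmaDesc_iff {ι : Type u} {X : Sheaf J (Type u)} {F : ι → Sheaf J (Type u)}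
    (π : ∀ i, F i ⟶ X) : Epi (Sigma.desc π) ↔ SGA4.IsEpiFamily π := by
  constructor
  · intro h Z a b hab
    rw [← cancel_epi (Sigma.desc π)]
    exact Sigma.hom_ext _ _ fun i => by simp [hab]
  · intro h
    exact ⟨fun a b hab => h _ a b fun i => by simpa using congrArg (Sigma.ι F i ≫ ·) hab⟩

theorem effectiveEpi_of_epi {F G : Sheaf J (Type u)} (f : F ⟶ G) [Epi f] : EffectiveEpi f := by
  have : IsRegularEpi f := IsRegularEpiCategory.regularEpiOfEpi f
  infer_instance

theorem epi_pullback_snd {F G H : Sheaf J (Type u)} (f : F ⟶ G) [Epi f] (g : H ⟶ G) :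
    Epi (pullback.snd f g) := by
  have hloc : Sheaf.IsLocallySurjective f :=
    (Sheaf.isLocallySurjective_iff_epi' (Type u) f).2 inferInstance
  have : Sheaf.IsLocallySurjective (pullback.snd f g) := ⟨fun {U} s => by
    refine J.superset_covering ?_ (Presheaf.imageSieve_mem J f.hom (g.hom.app (op U) s))
    rintro V k ⟨t, ht⟩
    let a := (secEquiv V F).symm t
    let b := (secEquiv V H).symm (H.obj.map k.op s)
    have w : a ≫ f = b ≫ g := by
      rw [secEquiv_symm_comp, secEquiv_symm_comp, ht, NatTrans.naturality_apply]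
    refine ⟨secEquiv V _ (pullback.lift a b w), ?_⟩
    rw [← secEquiv_comp, pullback.lift_snd]
    exact Equiv.apply_symm_apply _ _⟩
  exact (Sheaf.isLocallySurjective_iff_epi' (Type u) _).1 this

/-- Coproducts of presheaves of sets are universal. -/
theorem isUniversalColimit_presheaf {ι : Type u} {X : ι → Cᵒᵖ ⥤ Type u} {c : Cofan X}
    (hc : IsColimit c) : IsUniversalColimit c := by
  intro F' c' α f h hα hpb
  refine ⟨evaluationJointlyReflectsColimits _ fun V => ?_⟩
  have hcV := isColimitOfPreserves ((evaluation _ _).obj V) hc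
  refine Nonempty.some ?_
  let e : Discrete.functor (fun i => (F'.obj ⟨i⟩).obj V) ≅ F' ⋙ (evaluation _ _).obj V :=
    Discrete.natIso fun _ => Iso.refl _
  let e' : Discrete.functor (fun i => (X i).obj V) ≅ Discrete.functor X ⋙ (evaluation _ _).obj V :=
    Discrete.natIso fun _ => Iso.refl _
  have hX : IsColimit ((Cocone.precompose e'.hom).obj (((evaluation _ _).obj V).mapCocone c)) :=
    (IsColimit.precomposeHomEquiv _ _).symm hcV
  have hw : ∀ (i : ι) (z : (F'.obj ⟨i⟩).obj V),
      f.app V ((c'.ι.app ⟨i⟩).app V z) = (c.inj i).app V ((α.app ⟨i⟩).app V z) := fun i z =>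
    (ConcreteCategory.congr_hom (NatTrans.congr_app (NatTrans.congr_app h ⟨i⟩) V) z).symm
  suffices Nonempty (IsColimit ((Cocone.precompose e.hom).obj (((evaluation _ _).obj V).mapCocone c'))) by
    exact this.map (IsColimit.precomposeHomEquiv _ _)
  rw [Cofan.nonempty_isColimit_iff_bijective_fromSigma]
  constructor
  · rintro ⟨i, z⟩ ⟨j, z'⟩ (hzz : (c'.ι.app ⟨i⟩).app V z = (c'.ι.app ⟨j⟩).app V z')
    have h' : (c.inj i).app V ((α.app ⟨i⟩).app V z) = (c.inj j).app V ((α.app ⟨j⟩).app V z') :=
      (hw i z).symm.trans ((congrArg (f.app V) hzz).trans (hw j z'))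
    obtain rfl : i = j := Cofan.eq_of_inj_apply_eq_of_isColimit hX _ _ h'
    have h'' : (α.app ⟨i⟩).app V z = (α.app ⟨i⟩).app V z' :=
      Cofan.inj_injective_of_isColimit hX i h'
    obtain rfl : z = z' :=
      Types.ext_of_isPullback ((hpb ⟨i⟩).map ((evaluation _ _).obj V)) hzz h''
    rfl
  · intro y
    obtain ⟨i, x, hx⟩ := Cofan.inj_jointly_surjective_of_isColimit hX (f.app V y)
    obtain ⟨z, hz, -⟩ :=
      Types.exists_of_isPullback ((hpb ⟨i⟩).map ((evaluation _ _).obj V)) y x hx.symm
    exact ⟨⟨i, z⟩, hz⟩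

theorem hasDisjointUniversalCoproducts :
    SGA4.HasDisjointUniversalCoproducts.{u + 1, u} (Sheaf J (Type u)) := by
  intro ι X
  let Xp : ι → Cᵒᵖ ⥤ Type u := fun i => (X i).obj
  let e : (Discrete.functor X ⋙ sheafToPresheaf J (Type u)) ≅ Discrete.functor Xp :=
    Discrete.natIso fun _ => Iso.refl _
  let c₀ : Cocone (Discrete.functor X ⋙ sheafToPresheaf J (Type u)) :=
    (Cocone.precompose e.hom).obj (colimit.cocone _)
  have hc₀ : IsColimit c₀ := (IsColimit.precomposeHomEquiv _ _).symm (colimit.isColimit _)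
  have hu₀ : IsUniversalColimit c₀ :=
    (isUniversalColimit_presheaf (c := Cofan.mk _ (Sigma.ι Xp)) (coproductIsCoproduct Xp)).precompose_isIso _
  have hu : IsUniversalColimit ((presheafToSheaf J (Type u)).mapCocone c₀) :=
    IsUniversalColimit.map_reflective (sheafificationAdjunction J (Type u)) hu₀
  let η : Discrete.functor X ≅ (Discrete.functor X ⋙ sheafToPresheaf J (Type u)) ⋙ presheafToSheaf J (Type u) :=
    (Functor.rightUnitor _).symm ≪≫ (Functor.isoWhiskerLeft _ (asIso (sheafificationAdjunction J (Type u)).counit).symm) ≪≫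
      (Functor.associator _ _ _).symm
  let c := (Cocone.precompose η.hom).obj ((presheafToSheaf J (Type u)).mapCocone c₀)
  have huc : IsUniversalColimit c := hu.precompose_isIso _
  refine ⟨c, huc.isColimit, ?_, huc⟩
  let i₀ : ∀ i, (X i).obj ⟶ c₀.pt := fun i => c₀.ι.app ⟨i⟩
  have hmono : ∀ i, Mono (i₀ i) := fun i => by
    have : ∀ V, Mono ((i₀ i).app V) := fun V => by
      rw [mono_iff_injective]
      have hV := isColimitOfPreserves ((evaluation _ _).obj V) hc₀
      let e' : Discrete.functor (fun i => (X i).obj.obj V) ≅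
          (Discrete.functor X ⋙ sheafToPresheaf J (Type u)) ⋙ (evaluation _ _).obj V :=
        Discrete.natIso fun _ => Iso.refl _
      exact Cofan.inj_injective_of_isColimit ((IsColimit.precomposeHomEquiv e' _).symm hV) i
    exact NatTrans.mono_of_mono_app _
  have hinj : ∀ i, Cofan.inj c i = inv ((sheafificationAdjunction J (Type u)).counit.app (X i)) ≫
      (presheafToSheaf J (Type u)).map (i₀ i) := fun i => by
    simp [c, η, i₀, Cofan.inj]
  have : ∀ i, Mono (Cofan.inj c i) := fun i => by rw [hinj]; infer_instance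
  refine CoproductDisjoint.of_cofan huc.isColimit (fun {i j} _ => pullback.cone
    (Cofan.inj c i) (Cofan.inj c j))
    (fun _ => pullback.isLimit _ _) fun {i j} hij => ?_
  -- the presheaf intersection is empty
  let P := pullback (i₀ i) (i₀ j)
  have hP : ∀ V, IsEmpty (P.obj V) := fun V => ⟨fun z => hij <| by
    have hV := isColimitOfPreserves ((evaluation _ _).obj V) hc₀
    let e' : Discrete.functor (fun i => (X i).obj.obj V) ≅
        (Discrete.functor X ⋙ sheafToPresheaf J (Type u)) ⋙ (evaluation _ _).obj V :=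
      Discrete.natIso fun _ => Iso.refl _
    exact Cofan.eq_of_inj_apply_eq_of_isColimit ((IsColimit.precomposeHomEquiv e' _).symm hV) _ _
      (ConcreteCategory.congr_hom (NatTrans.congr_app (pullback.condition (f := i₀ i) (g := i₀ j)) V) z)⟩
  have hPi : IsInitial P := IsInitial.ofUniqueHom
    (fun Q => { app := fun V => ↾fun z => ((hP V).false z).elim
                naturality := fun V W f => by ext z; exact ((hP V).false z).elim })
    (fun Q m => by ext V z; exact ((hP V).false z).elim)
  refine (hPi.isInitialObj (presheafToSheaf J (Type u))).ofIso ?_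
  have := pullback.map_isIso ((presheafToSheaf J (Type u)).map (i₀ i)) ((presheafToSheaf J (Type u)).map (i₀ j)) (Cofan.inj c i) (Cofan.inj c j)
    ((sheafificationAdjunction J (Type u)).counit.app (X i))
    ((sheafificationAdjunction J (Type u)).counit.app (X j)) (𝟙 _)
    (by rw [hinj, IsIso.hom_inv_id_assoc]; simp) (by rw [hinj, IsIso.hom_inv_id_assoc]; simp)
  refine PreservesPullback.iso _ _ _ ≪≫ ?_
  refine @asIso _ _ _ _ (pullback.map _ _ (Cofan.inj c i) (Cofan.inj c j)
    ((sheafificationAdjunction J (Type u)).counit.app (X i))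
    ((sheafificationAdjunction J (Type u)).counit.app (X j)) (𝟙 _)
    (by rw [hinj, IsIso.hom_inv_id_assoc]; simp) (by rw [hinj, IsIso.hom_inv_id_assoc]; simp)) ?_
  infer_instance

theorem isEffectiveUniversalEquivRel {R A : Sheaf J (Type u)} (p₁ p₂ : R ⟶ A)
    (h : SGA4.IsEquivRel p₁ p₂) : SGA4.IsEffectiveUniversalEquivRel p₁ p₂ := by
  -- the relation on sections
  let rel : ∀ U : Cᵒᵖ, A.obj.obj U → A.obj.obj U → Prop := fun U a b =>
    ∃ r : R.obj.obj U, p₁.hom.app U r = a ∧ p₂.hom.app U r = b
  have hrel : ∀ U, Equivalence (rel U) := by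
    rintro ⟨U⟩
    have key : ∀ a b : sec A U, rel (op U) a b ↔ ∃ f : _ ⟶ R,
        f ≫ p₁ = (secEquiv U A).symm a ∧ f ≫ p₂ = (secEquiv U A).symm b := by
      intro a b
      constructor
      · rintro ⟨r, rfl, rfl⟩
        exact ⟨(secEquiv U R).symm r, secEquiv_symm_comp _ _, secEquiv_symm_comp _ _⟩
      · rintro ⟨f, h₁, h₂⟩
        exact ⟨secEquiv U R f, by rw [← secEquiv_comp, h₁, Equiv.apply_symm_apply],
          by rw [← secEquiv_comp, h₂, Equiv.apply_symm_apply]⟩
    exact ⟨fun a => (key a a).2 ((h _).2.refl _), fun h' => (key _ _).2 ((h _).2.symm ((key _ _).1 h')),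
      fun h₁ h₂ => (key _ _).2 ((h _).2.trans ((key _ _).1 h₁) ((key _ _).1 h₂))⟩
  have hinj : ∀ U : Cᵒᵖ, ∀ r r' : R.obj.obj U, p₁.hom.app U r = p₁.hom.app U r' →
      p₂.hom.app U r = p₂.hom.app U r' → r = r' := by
    rintro ⟨U⟩ r r' h₁ h₂
    refine (secEquiv U R).symm.injective ((h _).1 ?_)
    simp only [secEquiv_symm_comp, h₁, h₂]
  let Q : Cᵒᵖ ⥤ Type u :=
    { obj := fun U => Quotient ⟨rel U, hrel U⟩
      map := fun {U V} f => ↾Quotient.map (fun a => A.obj.map f a) (by
        rintro a b ⟨r, rfl, rfl⟩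
        exact ⟨R.obj.map f r, NatTrans.naturality_apply _ _ _, NatTrans.naturality_apply _ _ _⟩)
      map_id := fun U => by
        ext x; induction x using Quotient.ind
        exact Quotient.sound (by simp only [Functor.map_id_apply]; exact (hrel U).refl _)
      map_comp := fun {U V W} f g => by
        ext x; induction x using Quotient.ind
        exact Quotient.sound (by simp only [Functor.map_comp_apply]; exact (hrel W).refl _) }
  let q : A.obj ⟶ Q :=
    { app := fun U => ↾fun a => Quotient.mk _ a
      naturality := fun U V f => rfl }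
  have hq : p₁.hom ≫ q = p₂.hom ≫ q := by
    ext U r
    exact Quotient.sound ⟨r, rfl, rfl⟩
  have hpbP : IsPullback p₁.hom p₂.hom q q := by
    refine ⟨⟨hq⟩, ⟨evaluationJointlyReflectsLimits _ fun U => (isLimitMapConePullbackConeEquiv _ _).symm ?_⟩⟩
    refine (IsPullback.isLimit ?_)
    rw [Types.isPullback_iff]
    refine ⟨by simpa using congrArg (·.app U) hq,
      fun r r' hh => hinj U r r' hh.1 hh.2, fun a b hab => ?_⟩
    exact Quotient.exact (hab : Quotient.mk ⟨rel U, hrel U⟩ a = Quotient.mk _ b)
  let adj := sheafificationAdjunction J (Type u)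
  let π : A ⟶ (presheafToSheaf J (Type u)).obj Q :=
    inv (adj.counit.app A) ≫ (presheafToSheaf J (Type u)).map q
  have hpb : IsPullback p₁ p₂ π π := by
    refine (hpbP.map (presheafToSheaf J (Type u))).of_iso (asIso (adj.counit.app R))
      (asIso (adj.counit.app A)) (asIso (adj.counit.app A)) (Iso.refl _)
      (adj.counit_naturality p₁) (adj.counit_naturality p₂) ?_ ?_ <;> simp [π, adj]
  have : Epi π := by
    have : Epi q := by
      have : ∀ U, Epi (q.app U) := fun U => by
        rw [epi_iff_surjective]; exact Quotient.mk_surjective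
      exact NatTrans.epi_of_epi_app _
    have : Epi ((presheafToSheaf J (Type u)).map q) := inferInstance
    infer_instance
  have := effectiveEpi_of_epi π
  refine ⟨_, π, hpb, ?_, fun B' g => ?_⟩
  · refine ⟨⟨hpb.w⟩, ⟨PushoutCocone.IsColimit.mk _ (fun s => ?_) (fun s => ?_) (fun s => ?_) ?_⟩⟩
    · exact EffectiveEpi.desc π s.inl (fun g₁ g₂ hg => by
        have hd : s.inl = s.inr := by
          obtain ⟨f, hf₁, hf₂⟩ := (h A).2.refl (𝟙 A)
          have := congrArg (f ≫ ·) s.condition
          simpa only [reassoc_of% hf₁, reassoc_of% hf₂, ← Category.assoc, hf₁, hf₂, Category.id_comp] using this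
        rw [← hpb.lift_fst g₁ g₂ hg]
        conv_rhs => rw [← hpb.lift_snd g₁ g₂ hg]
        simp only [Category.assoc, s.condition, ← hd])
    · exact EffectiveEpi.fac _ _ _
    · have hd : s.inl = s.inr := by
        obtain ⟨f, hf₁, hf₂⟩ := (h A).2.refl (𝟙 A)
        have := congrArg (f ≫ ·) s.condition
        simpa only [← Category.assoc, hf₁, hf₂, Category.id_comp] using this
      exact (EffectiveEpi.fac _ _ _).trans hd
    · intro s m hm₁ _
      rw [← cancel_epi π, hm₁, EffectiveEpi.fac]
  · have := epi_pullback_snd π g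
    exact effectiveEpi_of_epi _

theorem giraudAxioms : Giraud.Axioms (Sheaf J (Type u)) :=
  ⟨hasDisjointUniversalCoproducts, fun _ _ _ _ h => isEffectiveUniversalEquivRel _ _ h⟩

end GrothLib.Topos
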