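import Groth.Agent.Lib.Topos.SiteCofan
import Groth.Agent.Lib.Topos.Glue

/-!
# Representables for the canonical topology of a small category
-/

set_option autoImplicit false

universe u

open CategoryTheory CategoryTheory.Limits Opposite

namespace GrothLib.Topos

variable {C : Type u} [SmallCategory C]

/-- The sheafified Yoneda embedding for a subcanonical topology is fully faithful. -/
noncomputable def repFullyFaithful (K : GrothendieckTopology C) [K.Subcanonical] :
    (yoneda ⋙ presheafToSheaf K (Type u)).FullyFaithful :=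
  K.yonedaFullyFaithful.ofIso
    ((Functor.rightUnitor _).symm ≪≫
      Functor.isoWhiskerLeft K.yoneda (asIso (sheafificationAdjunction K (Type u)).counit).symm ≪≫
        (Functor.associator _ _ _).symm)

/-- A cofan of a small category that stays a coproduct after base change is covering for the
canonical topology. -/
theorem ofArrows_mem_canonicalTopology {X : C} {ι : Type u} {Y : ι → C} (s : ∀ i, Y i ⟶ X)
    [∀ (i : ι) (Z : C) (g : Z ⟶ X), HasPullback (s i) g]
    (h : ∀ (W : C) (f : W ⟶ X) (Z : C) (x : ∀ i, pullback (s i) f ⟶ Z),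
      (∀ i j, ∀ ⦃T : C⦄ (a : T ⟶ pullback (s i) f) (b : T ⟶ pullback (s j) f),
        a ≫ pullback.snd (s i) f = b ≫ pullback.snd (s j) f → a ≫ x i = b ≫ x j) →
      ∃! l : W ⟶ Z, ∀ i, pullback.snd (s i) f ≫ l = x i) :
    Sieve.ofArrows Y s ∈ Sheaf.canonicalTopology C X := by
  refine Sheaf.mem_finestTopology_of_forall_isSheafFor ?_
  rintro P ⟨Z, rfl⟩ W f
  have e : (Sieve.ofArrows Y s).pullback f =
      Sieve.generate (Presieve.ofArrows (fun i => pullback (s i) f) fun i => pullback.snd (s i) f) := by
    ext V g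
    constructor
    · rintro ⟨_, r, _, ⟨i⟩, hr⟩
      exact ⟨_, pullback.lift r g hr, _, Presieve.ofArrows.mk i, pullback.lift_snd _ _ _⟩
    · rintro ⟨_, r, _, ⟨i⟩, rfl⟩
      exact ⟨_, r ≫ pullback.fst (s i) f, _, Presieve.ofArrows.mk i, by
        rw [Category.assoc, Category.assoc, pullback.condition]⟩
  rw [e, ← Presieve.isSheafFor_iff_generate, Presieve.isSheafFor_arrows_iff]
  intro x hx
  exact h W f Z x fun i j T a b hab => hx i j T a b hab

/-- A morphism of a small category all of whose base changes are effective epimorphisms is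
covering for the canonical topology. -/
theorem singleton_mem_canonicalTopology [HasPullbacks C] {X B : C} (π : X ⟶ B)
    (h : ∀ (B' : C) (g : B' ⟶ B), EffectiveEpi (pullback.snd π g)) :
    Sieve.ofArrows (fun _ : PUnit.{u + 1} => X) (fun _ => π) ∈ Sheaf.canonicalTopology C B := by
  refine ofArrows_mem_canonicalTopology (fun _ => π) fun W f Z x hx => ?_
  have := h W f
  have hx' : ∀ {T : C} (a b : T ⟶ pullback π f),
      a ≫ pullback.snd π f = b ≫ pullback.snd π f →
        a ≫ x PUnit.unit = b ≫ x PUnit.unit := fun a b hab => hx _ _ a b hab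
  refine ⟨EffectiveEpi.desc (pullback.snd π f) (x PUnit.unit) hx',
    fun _ => EffectiveEpi.fac _ _ _, fun l hl => ?_⟩
  exact EffectiveEpi.uniq _ _ _ l (hl PUnit.unit)

theorem effectiveEpi_of_mem_canonicalTopology {X B : C} (π : X ⟶ B)
    (h : Sieve.ofArrows (fun _ : PUnit.{u + 1} => X) (fun _ => π) ∈ Sheaf.canonicalTopology C B) :
    EffectiveEpi π := by
  have key : ∀ {W : C} (e : X ⟶ W), (∀ {T : C} (g₁ g₂ : T ⟶ X), g₁ ≫ π = g₂ ≫ π → g₁ ≫ e = g₂ ≫ e) →
      ∃! d : B ⟶ W, π ≫ d = e := by
    intro W e he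
    have hs : (Presieve.ofArrows (fun _ : PUnit.{u + 1} => X) fun _ => π).IsSheafFor
        (yoneda.obj W) :=
      (Presieve.isSheafFor_iff_generate _).2 (Sheaf.isSheaf_yoneda_obj W _ h)
    obtain ⟨d, hd, hu⟩ := (Presieve.isSheafFor_arrows_iff _ _).1 hs (fun _ => e)
      (fun _ _ T a b hab => he a b hab)
    exact ⟨d, hd PUnit.unit, fun d' hd' => hu d' fun _ => hd'⟩
  exact ⟨⟨{
    desc := fun e he => (key e he).exists.choose
    fac := fun e he => (key e he).exists.choose_spec
    uniq := fun e he m hm => (key e he).unique hm (key e he).exists.choose_spec }⟩⟩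

end GrothLib.Topos
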