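import Groth.Agent.Lib.Topos.QCColim
import Groth.Agent.Lib.Topos.QCSite

/-!
# Families of arrows of a site becoming coproducts in the topos
-/

set_option autoImplicit false

universe w v u

open CategoryTheory CategoryTheory.Limits Opposite

namespace GrothLib.Topos

variable {C : Type u} [SmallCategory C] {J : GrothendieckTopology C}

theorem fam_repMap_of_ofArrows_mem {X : C} {ι : Type u} {Y : ι → C} {s : ∀ i, Y i ⟶ X}
    (h : Sieve.ofArrows Y s ∈ J X) : SGA4.IsEpiFamily (fun i => repMap J (s i)) := by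
  refine QC.fam_of_factor (QC.fam_repMap h) ?_
  rintro ⟨W, f, hf⟩
  obtain ⟨_, r, _, ⟨i⟩, rfl⟩ := hf
  exact ⟨i, repMap J r, ((yoneda ⋙ presheafToSheaf J (Type u)).map_comp r (s i)).symm⟩

theorem secEquiv_symm_unit (X : C) :
    (secEquiv X (rep J X)).symm ((toSheafify J (yoneda.obj X)).app (op X) (𝟙 X)) = 𝟙 _ := by
  rw [Equiv.symm_apply_eq]
  exact (QC.secEquiv_repMap_eq (J := J) (𝟙 X)).symm.trans
    (congrArg _ ((yoneda ⋙ presheafToSheaf J (Type u)).map_id X))

theorem ofArrows_mem_of_fam {X : C} {ι : Type u} {Y : ι → C} {s : ∀ i, Y i ⟶ X}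
    (h : SGA4.IsEpiFamily (fun i => repMap J (s i))) : Sieve.ofArrows Y s ∈ J X := by
  refine J.transitive ((isEpiFamily_iff_liftSieve_mem (fun i => repMap J (s i))).1 h X
    ((toSheafify J (yoneda.obj X)).app (op X) (𝟙 X))) _ fun W f hf => ?_
  obtain ⟨i, t, ht⟩ := hf
  refine J.transitive (Presheaf.imageSieve_mem J (toSheafify J (yoneda.obj (Y i))) t) _
    fun W' g hg => ?_
  obtain ⟨h', hh'⟩ := hg
  have e : repMap J (g ≫ f) = repMap J ((h' : W' ⟶ Y i) ≫ s i) := by
    have h₁ : repMap J (g ≫ f) = repMap J g ≫ (secEquiv W _).symm t ≫ repMap J (s i) := by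
      rw [secEquiv_symm_comp, ht, ← repMap_symm, secEquiv_symm_unit, Category.comp_id]
      exact (yoneda ⋙ presheafToSheaf J (Type u)).map_comp g f
    have h₂ : repMap J g ≫ (secEquiv W _).symm t = repMap J (h' : W' ⟶ Y i) := by
      apply (secEquiv W' _).injective
      rw [repMap_symm, Equiv.apply_symm_apply, QC.secEquiv_repMap_eq]
      exact hh'.symm
    rw [h₁, ← Category.assoc, h₂]
    exact ((yoneda ⋙ presheafToSheaf J (Type u)).map_comp _ _).symm
  have e' := congrArg (secEquiv W' _) e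
  rw [QC.secEquiv_repMap_eq, QC.secEquiv_repMap_eq] at e'
  refine J.superset_covering ?_
    (Presheaf.equalizerSieve_mem J (toSheafify J (yoneda.obj X)) _ _ e')
  intro W'' c hc
  show Sieve.ofArrows _ _ ((c ≫ g) ≫ f)
  have hc' : c ≫ g ≫ f = c ≫ (h' : W' ⟶ Y i) ≫ s i := hc
  rw [Category.assoc, hc', ← Category.assoc]
  exact Sieve.downward_closed _ (Sieve.ofArrows_mk _ _ i) _

/-- The empty sieve covers exactly when the sheafified representable is initial. -/
theorem bot_mem_iff (X : C) : (⊥ : Sieve X) ∈ J X ↔ Nonempty (IsInitial (rep J X)) := by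
  constructor
  · intro h
    refine ⟨IsInitial.ofUniqueHom
      (fun Z => (secEquiv X Z).symm ((((isSheaf_iff_isSheaf_of_type _ _).1 Z.property) _ h).amalgamate
        (fun V f hf => hf.elim) (fun _ _ _ _ _ _ _ h₁ => h₁.elim)))
      (fun Z m => (secEquiv X Z).injective
        ((((isSheaf_iff_isSheaf_of_type _ _).1 Z.property) _ h).isSeparatedFor.ext
          fun V f hf => hf.elim))⟩
  · rintro ⟨h⟩
    let π : ∀ i : PEmpty.{u + 1}, rep J (PEmpty.elim i : C) ⟶ rep J X := fun i => i.elim
    have hπ : SGA4.IsEpiFamily π := fun Z a b _ => h.hom_ext a b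
    refine J.superset_covering ?_ ((isEpiFamily_iff_liftSieve_mem π).1 hπ X
      ((toSheafify J (yoneda.obj X)).app (op X) (𝟙 X)))
    rintro V f ⟨i, -⟩
    exact i.elim

/-- A jointly epimorphic family of monomorphisms with initial pairwise fibre products is a
coproduct. -/
theorem isColimit_cofan_of_disjoint {ι : Type u} {X : Sheaf J (Type u)}
    {F : ι → Sheaf J (Type u)} (π : ∀ i, F i ⟶ X) (hπ : SGA4.IsEpiFamily π)
    (hm : ∀ i, Mono (π i)) (hd : ∀ i j, i ≠ j → Nonempty (IsInitial (pullback (π i) (π j)))) :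
    Nonempty (IsColimit (Cofan.mk X π)) := by
  have hex : ∀ s : Cofan F, ∃ l : X ⟶ s.pt, ∀ i, π i ≫ l = s.inj i := fun s =>
    QC.fam_glue hπ (fun i => s.inj i) fun i j =>
      ⟨PUnit.{u + 1}, fun _ => _, fun _ => 𝟙 _, QC.fam_single.{u} (𝟙 _), fun _ => by
        by_cases hij : i = j
        · subst hij
          have : pullback.fst (π i) (π i) = pullback.snd (π i) (π i) := by
            rw [← cancel_mono (π i), pullback.condition]
          rw [this]
        · obtain ⟨hI⟩ := hd i j hij
          exact hI.hom_ext _ _⟩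
  choose l hl using hex
  exact ⟨Cofan.IsColimit.mk _ l hl
    (fun s m hm => hπ _ _ _ fun i => (hm i).trans (hl s i).symm)⟩

theorem disjoint_of_isColimit_cofan {ι : Type u} {X : Sheaf J (Type u)}
    {F : ι → Sheaf J (Type u)} (π : ∀ i, F i ⟶ X) (h : IsColimit (Cofan.mk X π)) :
    SGA4.IsEpiFamily π ∧ (∀ i, Mono (π i)) ∧
      ∀ i j, i ≠ j → Nonempty (IsInitial (pullback (π i) (π j))) := by
  obtain ⟨c', hc', hd, -⟩ := hasDisjointUniversalCoproducts (J := J) ι F
  exact ⟨QC.fam_cofan h, fun i => Mono.of_coproductDisjoint h i,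
    fun i j hij => ⟨IsInitial.ofCoproductDisjointOfIsColimit hij h⟩⟩

theorem isIso_map_diagonal_iff {E : Type v} [Category.{u} E] [HasPullbacks E] {E' : Type w}
    [Category.{u} E'] (F : E ⥤ E') [PreservesLimitsOfShape WalkingCospan F] {X Y : E} (f : X ⟶ Y) :
    IsIso (F.map (pullback.diagonal f)) ↔ Mono (F.map f) := by
  have sq := (IsPullback.of_hasPullback f f).map F
  have e₁ : F.map (pullback.diagonal f) ≫ F.map (pullback.fst f f) = 𝟙 _ := by
    rw [← F.map_comp, pullback.diagonal_fst, F.map_id]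
  have e₂ : F.map (pullback.diagonal f) ≫ F.map (pullback.snd f f) = 𝟙 _ := by
    rw [← F.map_comp, pullback.diagonal_snd, F.map_id]
  constructor
  · intro h
    have : F.map (pullback.fst f f) = F.map (pullback.snd f f) := by
      rw [← cancel_epi (F.map (pullback.diagonal f)), e₁, e₂]
    exact ⟨fun a b hab => (sq.lift_fst a b hab).symm.trans
      ((congrArg (sq.lift a b hab ≫ ·) this).trans (sq.lift_snd a b hab))⟩
  · intro h
    refine ⟨F.map (pullback.fst f f), e₁, sq.hom_ext ?_ ?_⟩
    · rw [Category.assoc, e₁, Category.comp_id, Category.id_comp]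
    · rw [Category.assoc, e₂, Category.comp_id, Category.id_comp, ← cancel_mono (F.map f), sq.w]

/-- Sheafified cofans of representables via sections. -/
theorem isColimit_rep_cofan_iff {X : C} {ι : Type u} (Y : ι → C) (s : ∀ i, Y i ⟶ X) :
    Nonempty (IsColimit (Cofan.mk (rep J X) fun i => repMap J (s i))) ↔
      ∀ Z : Sheaf J (Type u),
        Function.Bijective (fun (z : sec Z X) (i : ι) => Z.obj.map (s i).op z) := by
  constructor
  · rintro ⟨h⟩ Z
    refine ⟨fun z z' hz => ?_, fun x => ?_⟩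
    · apply (secEquiv X Z).symm.injective
      refine Cofan.IsColimit.hom_ext h _ _ fun i => ?_
      show repMap J (s i) ≫ _ = repMap J (s i) ≫ _
      rw [repMap_symm, repMap_symm]
      exact congrArg _ (congrFun hz i)
    · refine ⟨secEquiv X Z (Cofan.IsColimit.desc h fun i => (secEquiv (Y i) Z).symm (x i)),
        funext fun i => ?_⟩
      show Z.obj.map (s i).op _ = x i
      rw [← secEquiv_repMap]
      exact (congrArg _ (Cofan.IsColimit.fac h _ i)).trans (Equiv.apply_symm_apply _ _)
  · intro h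
    have hex : ∀ c : Cofan (fun i => rep J (Y i)), ∃ l : rep J X ⟶ c.pt,
        ∀ i, repMap J (s i) ≫ l = c.inj i := fun c => by
      obtain ⟨z, hz⟩ := (h c.pt).2 fun i => secEquiv (Y i) c.pt (c.inj i)
      refine ⟨(secEquiv X c.pt).symm z, fun i => ?_⟩
      rw [repMap_symm, Equiv.symm_apply_eq]
      exact congrFun hz i
    choose l hl using hex
    refine ⟨Cofan.IsColimit.mk _ l hl fun c m hm => (secEquiv X c.pt).injective ((h c.pt).1 ?_)⟩
    funext i
    show c.pt.obj.map (s i).op _ = c.pt.obj.map (s i).op _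
    rw [← secEquiv_repMap, ← secEquiv_repMap]
    exact congrArg _ ((hm i).trans (hl c i).symm)

end GrothLib.Topos
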